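import Cfsg.Agent.H9.Gl2

/-! Allcock's axiomatic form of the ZJ-theorem and the Glauberman–Thompson criterion. -/

set_option autoImplicit false
set_option linter.unusedSectionVars false

universe u

namespace Cfsg.Agent.H9

open Subgroup Cfsg.Agent.H2 Cfsg.FusionSystem Equiv
open scoped commutatorElement

section grp
variable {G : Type*} [Group G]

theorem comm_iff' {P : Subgroup G} : IsMulCommutative P ↔ ∀ x ∈ P, ∀ y ∈ P, x * y = y * x :=
  ⟨fun h x hx y hy => congrArg Subtype.val (h.1.1 ⟨x, hx⟩ ⟨y, hy⟩),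
    fun h => ⟨⟨fun x y => Subtype.ext (h x x.2 y y.2)⟩⟩⟩

/-- Intersection of the members of the family inside `T`. -/
def IA (𝒜 : Set (Subgroup G)) (T : Subgroup G) : Subgroup G := sInf {A | A ∈ 𝒜 ∧ A ≤ T}

theorem mem_IA {𝒜 : Set (Subgroup G)} {T : Subgroup G} {x : G} :
    x ∈ IA 𝒜 T ↔ ∀ A ∈ 𝒜, A ≤ T → x ∈ A := by
  simp [IA, Subgroup.mem_sInf]

structure AF (H S : Subgroup G) (𝒜 : Set (Subgroup G)) : Prop where
  le : ∀ A ∈ 𝒜, A ≤ S
  comm : ∀ A ∈ 𝒜, IsMulCommutative A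
  ne : 𝒜.Nonempty
  inv : ∀ T ≤ S, (∃ A ∈ 𝒜, A ≤ T) → ∀ g ∈ H, g ∈ normalizer (T : Set G) →
    ∀ x ∈ IA 𝒜 T, g * x * g⁻¹ ∈ IA 𝒜 T
  rep : ∀ B ≤ S, ⁅⁅B, B⁆, B⁆ = ⊥ → (∃ A ∈ 𝒜, ⁅B, B⁆ ≤ A ∧ ¬ B ≤ A) →
    ∃ A ∈ 𝒜, ⁅B, B⁆ ≤ A ∧ ¬ B ≤ A ∧ B ≤ normalizer (A : Set G)

variable [Finite G] {p : ℕ} [hp : Fact p.Prime] {H S B : Subgroup G} {𝒜 : Set (Subgroup G)}

theorem AF.mono (h : AF ⊤ S 𝒜) (H : Subgroup G) : AF H S 𝒜 :=
  ⟨h.le, h.comm, h.ne, fun T a b g _ => h.inv T a b g trivial, h.rep⟩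

theorem AF.le_A (h : AF H S 𝒜) {A : Subgroup G} (hA : A ∈ 𝒜) : IA 𝒜 S ≤ A :=
  fun _ hx => mem_IA.1 hx A hA (h.le A hA)

theorem AF.I_comm (h : AF H S 𝒜) : IsMulCommutative (IA 𝒜 S) :=
  let ⟨A, hA⟩ := h.ne
  comm_iff'.2 fun x hx y hy => comm_iff'.1 (h.comm A hA) x (h.le_A hA hx) y (h.le_A hA hy)

theorem AF.I_le (h : AF H S 𝒜) : IA 𝒜 S ≤ S :=
  let ⟨A, hA⟩ := h.ne
  (h.le_A hA).trans (h.le A hA)

theorem AF.le_N (h : AF H S 𝒜) (hS : S ≤ H) : S ≤ normalizer (IA 𝒜 S : Set G) := fun g hg =>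
  mem_normalizer_of_finite (h.inv S le_rfl (h.ne.imp fun A hA => ⟨hA, h.le A hA⟩) g (hS hg)
    (le_normalizer hg))

theorem AF.inf (h : AF H S 𝒜) (hS : SylIn p S H) (hst : Stab p H S) (hB : B ≤ S)
    (hHB : H ≤ normalizer (B : Set G)) : H ≤ normalizer ((IA 𝒜 S ⊓ B : Subgroup G) : Set G) := by
  induction hn : Nat.card B using Nat.strong_induction_on generalizing B with
  | _ n ih =>
  by_contra hcon
  set Z := IA 𝒜 S with hZ
  have hSX : S ≤ normalizer ((Z ⊓ B : Subgroup G) : Set G) :=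
    H8.le_normalizer_inf (h.le_N hS.le) (hS.le.trans hHB)
  have hBp : IsPGroup p B := hS.pgrp.to_le hB
  have hncl : H8.ncl (Z ⊓ B) H = B := by
    have h1 : H8.ncl (Z ⊓ B) H ≤ B := H8.ncl_le inf_le_right hHB
    by_contra hne
    have h2 := ih _ (hn ▸ H2.card_lt_of_lt (lt_of_le_of_ne h1 hne)) (h1.trans hB)
      (H8.le_normalizer_ncl _ _) rfl
    have e : Z ⊓ H8.ncl (Z ⊓ B) H = Z ⊓ B :=
      le_antisymm (inf_le_inf_left _ h1) (le_inf inf_le_left (H8.le_ncl _ _))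
    rw [e] at h2
    exact hcon h2
  have hB1 : B ≠ ⊥ := by
    rintro rfl
    apply hcon
    rw [inf_bot_eq]
    exact H8.le_normalizer_bot _
  have hB' : ⁅B, B⁆ < B := H1.commutator_lt_of_isPGroup hBp hBp le_normalizer hB1
  have hHB' : H ≤ normalizer ((⁅B, B⁆ : Subgroup G) : Set G) := H8.le_normalizer_commutator hHB hHB
  have h1 := ih _ (hn ▸ H2.card_lt_of_lt hB') (hB'.le.trans hB) hHB' rfl
  have hBH : B ≤ H := hB.trans hS.le
  have hlift : ∀ K N : Subgroup G, H ≤ normalizer (K : Set G) → H ≤ normalizer (N : Set G) →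
      ⁅Z ⊓ B, K⁆ ≤ N → ⁅B, K⁆ ≤ N := by
    intro K N hK hN h
    rw [← hncl, H8.ncl]
    refine H8.commutator_iSup_le_of_norm (fun x => ?_) fun x =>
      ((H8.cj_le_of_mem inf_le_right (hHB x.2)).trans hBH).trans hN
    rw [← H8.cj_eq_of_mem_normalizer (hK x.2), ← H8.cj_commutator]
    exact H8.cj_le_of_mem h (hN x.2)
  have hB'Z : ⁅B, B⁆ ≤ Z := by
    refine le_trans (hlift B _ hHB h1 (le_inf ?_ (commutator_mono inf_le_right le_rfl))) inf_le_left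
    exact (H8.commutator_le_left_of_norm (hB.trans hSX)).trans inf_le_left
  have hcl2 : ⁅⁅B, B⁆, B⁆ = ⊥ := by
    rw [commutator_comm]
    refine le_bot_iff.mp (hlift _ _ hHB' (H8.le_normalizer_bot _) ?_)
    exact (H8.commutator_eq_bot_mono (isMulCommutative_iff_comm.mp h.I_comm) inf_le_left hB'Z).le
  set 𝓛 : Set (Subgroup G) := {R | R ≤ H ∧ H ≤ normalizer (R : Set G) ∧
    R ≤ normalizer ((Z ⊓ B : Subgroup G) : Set G)} with h𝓛
  set L := sSup 𝓛 with hL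
  have hLH : L ≤ H := sSup_le fun R hR => hR.1
  have hHL : H ≤ normalizer (L : Set G) := H8.le_normalizer_sSup fun a ha R hR => by
    rwa [H8.cj_eq_of_mem_normalizer (hR.2.1 ha)]
  have hLX : L ≤ normalizer ((Z ⊓ B : Subgroup G) : Set G) := sSup_le fun R hR => hR.2.2
  have hT := hS.inf_normal' hHL hLH
  obtain ⟨A, hA, -, h3, h4⟩ := h.rep B hB hcl2 (by
    by_contra hall
    refine hcon ?_
    rwa [inf_of_le_right (show B ≤ Z from fun x hx => mem_IA.2 fun A hA _ => by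
      by_contra h5
      exact hall ⟨A, hA, hB'Z.trans (h.le_A hA), fun h6 => h5 (h6 hx)⟩)])
  have hAL : A ≤ L := by
    intro a haA
    have haS : a ∈ S := h.le A hA haA
    have h5 := hst B hB hHB a haS (H8.commutator_eq_bot_mono
      (isMulCommutative_iff_comm.mp (h.comm A hA)) ((commutator_mono le_rfl (zpowers_le.mpr haA)).trans
        (H8.commutator_le_right_of_norm h4)) (zpowers_le.mpr haA))
    have h6 := H8.ncl_le_of_le (zpowers_le.mpr (hS.le haS))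
    exact le_sSup (s := 𝓛) ⟨h6, H8.le_normalizer_ncl _ _, le_normalizer_of_resOf hS h6
      (H8.le_normalizer_ncl _ _) (H8.le_normalizer_of_le_centralizer (h5.trans
        (centralizer_le inf_le_right))) hSX⟩ (H8.le_ncl _ _ (mem_zpowers a))
  have hAT : A ≤ S ⊓ L := le_inf (h.le A hA) hAL
  refine h3 (le_trans ?_ fun x hx => mem_IA.1 hx A hA hAT)
  rw [← hncl, H8.ncl_le_iff]
  intro x hx
  obtain ⟨l, hl, hn⟩ := hT.frattini' (hHL hx)
  have e1 : H2.cj x (Z ⊓ B) = H2.cj (x * l⁻¹) (Z ⊓ B) := by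
    rw [cj_mul, cj_eq_of_mem_normalizer (hLX (inv_mem hl))]
  change H2.cj x (Z ⊓ B) ≤ _
  rw [e1]
  rintro _ ⟨y, hy, rfl⟩
  exact h.inv _ inf_le_left ⟨A, hA, hAT⟩ _ (mul_mem hx (inv_mem (hLH hl))) hn y
    (mem_IA.2 fun C hC _ => h.le_A hC hy.1)

/-- Allcock's axiomatic ZJ-theorem. -/
theorem AF.zj (h : AF H S 𝒜) (hS : SylIn p S H) (hst : Stab p H S)
    (hc : H ⊓ centralizer (H8.Op p H : Set G) ≤ H8.Op p H) : H ≤ normalizer (IA 𝒜 S : Set G) := by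
  have hO : H8.Op p H ≤ S := hS.normal_le (H8.Op_isPGroup p H) (H8.Op_le p H)
    (hS.le.trans (H8.le_normalizer_Op p H))
  have h1 := h.inf hS hst hO (H8.le_normalizer_Op p H)
  rwa [inf_of_le_left (hst.le_Op hS hc h.I_le h.I_comm (hO.trans (h.le_N hS.le)))] at h1

theorem stab_of_pSt_sub (h : PSt p H) (hS : SylIn p S H) : Stab p H S := by
  intro B hB hn a ha hq
  have hBH := hB.trans hS.le
  have e1 : (B.subgroupOf H).map H.subtype = B := map_subgroupOf_eq_of_le hBH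
  have e2 : (zpowers (⟨a, hS.le ha⟩ : H)).map H.subtype = zpowers a := MonoidHom.map_zpowers _ _
  haveI : (B.subgroupOf H).Normal := (normal_subgroupOf_iff_le_normalizer hBH).2 hn
  have h1 := h (B.subgroupOf H) (isPGroup_subgroupOf H (hS.pgrp.to_le hB)) ⟨a, hS.le ha⟩
    (le_normalizer_of_normal (mem_top _)) (by
      rw [← map_eq_bot_iff_of_injective _ H.subtype_injective, map_commutator, map_commutator, e1, e2,
        hq])
  rw [normalizer_eq_top] at h1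
  have e3 := map_ncl H.subtype (zpowers (⟨a, hS.le ha⟩ : H)) ⊤
  rw [e2, H8.map_subtype_top] at e3
  rw [← e3, ← map_resOf_injective _ H.subtype_injective]
  rintro _ ⟨x, hx, rfl⟩ b hb
  exact congrArg Subtype.val (h1 hx ⟨b, hBH hb⟩ hb)

end grp

theorem pNil_of_stab {G : Type u} [Group G] [Finite G] {p : ℕ} [hp : Fact p.Prime] {S : Subgroup G}
    (hp2 : p ≠ 2) (hS : SylIn p S ⊤) (hc : CharP' p G) (h : ∀ H, S ≤ H → Stab p H S →
      H ⊓ centralizer (H8.Op p H : Set G) ≤ H8.Op p H → PNil p H) (H : Subgroup G) (hH : S ≤ H) :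
    PNil p H := by
  induction hn : Nat.card H using Nat.strong_induction_on generalizing H with
  | _ n ih =>
  by_contra hnp
  have hS' := (hS.mono hH le_top).subgroupOf_top
  have hc' := charP_sub hS hc hH
  have hs : ∀ K : Subgroup H, S.subgroupOf H ≤ K → K ≠ ⊤ → K = S.subgroupOf H := fun K h1 h2 => by
    have h3 : PNil p K := (pNil_map_iff H.subtype H.subtype_injective).1 (ih _ (by
      rw [card_map_of_injective H.subtype_injective, ← hn, ← card_top (G := H)]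
      exact H2.card_lt_of_lt (lt_top_iff_ne_top.2 h2)) _
        ((map_subgroupOf_eq_of_le hH).ge.trans (map_mono h1)) rfl)
    have h4 := h3.resOf_le_centralizer (L.pCore_isPGroup p H) (hS'.pCore_le.trans h1)
      le_normalizer_of_normal
    exact hS'.max K le_top (H8.isPGroup_of_resOf_le (h4.trans hc') (L.pCore_isPGroup p H)) h1
  let f := QuotientGroup.mk' (pCore p H)
  have hf : Function.Surjective f := QuotientGroup.mk'_surjective _
  have hP := hS'.map_surj f hf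
  have hq : PNil p (⊤ : Subgroup (H ⧸ pCore p H)) := by
    refine gt_zw hp2 (.inl rfl) true hP (scl_self _ _) ?_
    by_cases hb : (S.subgroupOf H).map f = ⊥
    · exact PNil.mono (pNil_of_coprime ((hp.out.coprime_iff_not_dvd.2
        (hP.eq_bot_iff.1 hb)).symm)) le_top
    rw [← map_comap_eq_self_of_surjective hf (normalizer _), hs _ (map_le_iff_le_comap.1
      (le_normalizer.trans ((pf_ZW (p := p) (.inl rfl) true).normalizer_le hP.pgrp))) fun htop => ?_]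
    · exact pNil_of_isPGroup hP.pgrp
    · refine normalizer_ne_top_of_pCore_eq_bot (L.pCore_quotient_eq_bot p H)
        (hP.pgrp.to_le ((pf_ZW (p := p) (.inl rfl) true).le _ _))
        ((pf_ZW (p := p) (.inl rfl) true).ne _ _ hP.pgrp hb) ?_
      rw [top_inf_eq, ← map_comap_eq_self_of_surjective hf (normalizer _), htop,
        map_top_of_surjective f hf]
  have hm : MinNil p (S.subgroupOf H) := ⟨hS', hc', hs, hq, mt pNil_top_subtype_iff.1 hnp⟩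
  refine hnp (h H hH (stab_of_pSt_sub (hm.pSt_sec hp2 H (Sec.refl H)) (hS.mono hH le_top))
    fun x hx => ⟨⟨x, hx.1⟩, hc' fun y hy => Subtype.ext (hx.2 y ⟨y, hy, rfl⟩), rfl⟩)

variable {Ω : Type u} [Group Ω] {S : Subgroup Ω} [Finite S] {p : ℕ} [hp : Fact p.Prime]
  {F : FusionSystem S}

theorem Sat.gt_allcock (hp2 : p ≠ 2) (h : Sat p F) {𝒜 : Set (Subgroup Ω)}
    (hle : ∀ A ∈ 𝒜, A ≤ S ∧ IsMulCommutative A) (hne : 𝒜.Nonempty)
    (hinv : ∀ T, (∃ A ∈ 𝒜, A ≤ T) → ∀ σ, Iso F T T σ → ∀ x ∈ IA 𝒜 T, σ x ∈ IA 𝒜 T)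
    (hrep : ∀ B ≤ S, ⁅⁅B, B⁆, B⁆ = ⊥ → (∃ A ∈ 𝒜, ⁅B, B⁆ ≤ A ∧ ¬ B ≤ A) →
      ∃ A ∈ 𝒜, ⁅B, B⁆ ≤ A ∧ ¬ B ≤ A ∧ B ≤ normalizer (A : Set Ω))
    (hN : InrN F (IA 𝒜 S)) : Inr F := by
  by_contra hn
  obtain ⟨E, h1, h2, h3, h4⟩ := h.exists_constrained (fun e => absurd e hp2) hn
  obtain ⟨G, _, _, P, f, hf, hP, hc, -, -⟩ := h1.exists_grp h3
  have k1 : ∀ {A B}, A ≤ S → B ≤ S → (im f A ≤ im f B ↔ A ≤ B) := fun a b =>
    hf.im_le_im_iff a b bot_le
  have k2 : ∀ T ≤ S, (∃ A ∈ 𝒜, A ≤ T) → IA (im f '' 𝒜) (im f T) = im f (IA 𝒜 T) := by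
    rintro T hT ⟨A, hA, hAT⟩
    have k : IA 𝒜 T ≤ S := fun x hx => (hle A hA).1 (mem_IA.1 hx A hA hAT)
    ext y
    rw [hf.hom.mem_im k, mem_IA]
    constructor
    · intro hy
      obtain ⟨x, hx, rfl⟩ := (hf.hom.mem_im (hle A hA).1).1 (hy _ ⟨A, hA, rfl⟩ (im_mono f hAT))
      exact ⟨x, mem_IA.2 fun C hC hCT => (hf.mem_im_iff (hle C hC).1 bot_le ((hle A hA).1 hx)).1
        (hy _ ⟨C, hC, rfl⟩ (im_mono f hCT)), rfl⟩
    · rintro ⟨x, hx, rfl⟩ _ ⟨C, hC, rfl⟩ hCT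
      exact mem_im_of_mem f (mem_IA.1 hx C hC ((k1 (hle C hC).1 hT).1 hCT))
  have k0 : ∃ A ∈ 𝒜, A ≤ S := hne.imp fun A hA => ⟨hA, (hle A hA).1⟩
  have hIS : IA 𝒜 S ≤ S := fun x hx => let ⟨A, hA, hAS⟩ := k0; hAS (mem_IA.1 hx A hA hAS)
  have hA : AF ⊤ P (im f '' 𝒜) := by
    refine ⟨?_, ?_, hne.image _, fun T hT => ?_, fun B hB => ?_⟩
    · rintro _ ⟨A, hA, rfl⟩
      exact hf.im_le (hle A hA).1
    · rintro _ ⟨A, hA, rfl⟩
      refine comm_iff'.2 fun x' hx' y' hy' => ?_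
      obtain ⟨x, hx, rfl⟩ := (hf.hom.mem_im (hle A hA).1).1 hx'
      obtain ⟨y, hy, rfl⟩ := (hf.hom.mem_im (hle A hA).1).1 hy'
      rw [← hf.hom.map_mul ((hle A hA).1 hx) ((hle A hA).1 hy), comm_iff'.1 (hle A hA).2 x hx y hy,
        hf.hom.map_mul ((hle A hA).1 hy) ((hle A hA).1 hx)]
    · rintro ⟨_, ⟨A, hA, rfl⟩, hAT⟩ g - hg y hy
      obtain ⟨σ, a1, a2⟩ := hf.lift_iso ((grpFS_group P).iso_cj hT (N_top T ▸ hg))
      have a3 : ∃ A ∈ 𝒜, A ≤ pre S f T :=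
        ⟨A, hA, (k1 (hle A hA).1 (pre_le _ _ _)).1 (hAT.trans (hf.im_pre hT).ge)⟩
      have a4 : IA 𝒜 (pre S f T) ≤ pre S f T := fun x hx =>
        let ⟨A, hA, hAS⟩ := a3; hAS (mem_IA.1 hx A hA hAS)
      rw [← hf.im_pre hT, k2 _ (pre_le _ _ _) a3] at hy ⊢
      obtain ⟨x, hx, rfl⟩ := (hf.hom.mem_im (a4.trans (pre_le _ _ _))).1 hy
      have := mem_im_of_mem f (hinv _ a3 σ (a1.of_sub h2) x hx)
      rwa [← a2 x (a4 hx)] at this
    · obtain ⟨B, hBS, rfl⟩ : ∃ C ≤ S, im f C = B := ⟨_, pre_le _ _ _, hf.im_pre hB⟩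
      have hB' : ⁅B, B⁆ ≤ S := (H8.commutator_le_left_of_norm le_normalizer).trans hBS
      rw [← hf.hom.im_commutator hBS hBS, ← hf.hom.im_commutator hB' hBS,
        hf.im_eq_bot_iff ((commutator_mono hB' hBS).trans
          (H8.commutator_le_left_of_norm le_normalizer)), le_bot_iff]
      rintro e ⟨_, ⟨A, hA, rfl⟩, a1, a2⟩
      obtain ⟨C, hC, b1, b2, b3⟩ := hrep B hBS e ⟨A, hA, (k1 hB' (hle A hA).1).1 a1,
        fun a => a2 (im_mono f a)⟩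
      refine ⟨_, ⟨C, hC, rfl⟩, im_mono f b1, mt (k1 hBS (hle C hC).1).1 b2, im_le_iff.2 fun x hx =>
        (hf.maps_N (hle C hC).1 ⟨hBS hx, b3 hx⟩).2⟩
  have h5 := hf.pNil_normalizer hP hIS (fun g hg => haveI := finite_of_le hIS
    mem_N_of_finite hg (hinv S k0 _ (iso_cj F le_rfl ((N_self S).ge hg)))) (hN.of_sub h2)
  rw [← k2 S le_rfl k0, hf.range] at h5
  exact h4 (hf.inr_of_bot h1 (((grpFS_group P).inr_iff hP).2 (pNil_of_stab hp2 hP.sylIn hc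
    (fun H a b c => h5.mono ((hA.mono H).zj (hP.sylIn.mono a le_top) b c)) ⊤ le_top)))

end Cfsg.Agent.H9
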