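import Cfsg.Agent.H9.Comp

/-! Central products of fusion systems. -/

set_option autoImplicit false
set_option linter.unusedSectionVars false

namespace Cfsg.Agent.H9

open Cfsg Cfsg.FusionSystem Equiv
open scoped commutatorElement

variable {Ω : Type*} [Group Ω] {S : Subgroup Ω} [Finite S]
  {p : ℕ} [hp : Fact p.Prime] {F : FusionSystem S}
  {P Q R T U V W X Y Z T₁ T₂ P₁ P₂ : Subgroup Ω} {σ τ χ α β γ ρ δ σ₁ σ₂ : Perm Ω}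

theorem inK_opm_half (hS : IsPGroup p S) (hT : F.StronglyClosed T) (hR : R ≤ S) {a r : Ω}
    (ha : a ∈ normalizerIn T R) (hr : r ∈ R) (e : ∀ x ∈ R, x ∈ T → a * x * a⁻¹ = r * x * r⁻¹) :
    InK (opm p (F.autGroup R)) (cj a) := by
  have := finite_of_le hR
  refine inK_opm_of_pp (iso_cj F hR (N_mono hT.1 R ha)) (fun κ => (∀ x ∈ R, x⁻¹ * κ x ∈ T) ∧
    ∃ r ∈ R, ∀ x ∈ R ⊓ T, κ x = r * x * r⁻¹) ⟨by simp, 1, one_mem _, by simp⟩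
    (fun σ τ _ b ⟨c, r, d, e⟩ ⟨f, s, g, k⟩ => ⟨mod_mul (fun _ => b.maps) f c, r * s, mul_mem d g,
      fun x hx => by
        rw [Perm.mul_apply, e _ ((b.inf hT).maps hx), k x hx]; group⟩)
    (fun σ b ⟨c, r, d, e⟩ => ⟨mod_inv (fun _ => b.inv_maps) c, r⁻¹, inv_mem d, fun x hx => by
      have := e _ ((b.inf hT).inv_maps hx)
      rw [pai] at this
      conv_rhs => rw [this]
      group⟩)
    (fun σ τ b c ⟨f, s, g, k⟩ => ⟨mod_conj b.homOn le_rfl (fun _ => c.maps)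
      (fun _ => sc_mem hT b.mor) f fun _ => b.inv_maps, σ s, b.maps g, fun x hx => by
        rw [Perm.mul_apply, Perm.mul_apply, k _ ((b.inf hT).inv_maps hx),
          b.mor.map_conj g (b.inv_maps hx.1), pai]⟩)
    (fun σ τ ⟨c, r, d, e⟩ f => ⟨fun x hx => f x hx ▸ c x hx, r, d, fun x hx => by
      rw [f x hx.1, e x hx]⟩)
    (fun σ b ⟨c, r, d, e⟩ f => by
      obtain ⟨k, g⟩ := (pe_cj hS (hR d) (R ⊓ T)).congr (τ := σ) (fun x hx =>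
        ⟨R.mul_mem (R.mul_mem d hx.1) (R.inv_mem d), sc_conj hT (hR d) hx.2⟩) e
      obtain ⟨k, l⟩ := pe_of_two (hS.to_le hR) b.homOn inf_le_left ((f.mono inf_le_left).eq_of_pelt g
        fun _ => (b.inf hT).maps) fun x hx => ⟨R.mul_mem (R.inv_mem hx) (b.maps hx), c x hx⟩
      exact f.eq_of_pelt l fun _ => b.maps)
    ⟨fun x hx => ?_, r, hr, fun x hx => e x hx.1 hx.2⟩
  simpa [mul_assoc] using T.mul_mem (sc_conj hT (S.inv_mem (hR hx)) ha.1) (T.inv_mem ha.1)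

def Spl (T₁ T₂ X : Subgroup Ω) : Prop :=
  X ≤ T₁ ⊔ T₂ ∧ ∀ a ∈ T₁, ∀ b ∈ T₂, a * b ∈ X → a ∈ X

def Cm (T₁ T₂ : Subgroup Ω) : Prop := ∀ a ∈ T₁, ∀ b ∈ T₂, a * b = b * a

section
omit [Finite S] hp

theorem Cm.symm (h : Cm T₁ T₂) : Cm T₂ T₁ := fun a ha b hb => (h b hb a ha).symm

theorem Cm.mono (h : Cm T₁ T₂) (h1 : P₁ ≤ T₁) (h2 : P₂ ≤ T₂) : Cm P₁ P₂ :=
  fun a ha b hb => h a (h1 ha) b (h2 hb)

theorem Cm.conj (h : Cm T₁ T₂) {a b x : Ω} (hb : b ∈ T₂) (hx : x ∈ T₁) (ha : a ∈ T₁) :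
    a * b * x * (a * b)⁻¹ = a * x * a⁻¹ := by
  rw [mul_assoc a, ← h x hx b hb]; group

theorem Cm.mem_sup (h : Cm T₁ T₂) {x : Ω} : x ∈ T₁ ⊔ T₂ ↔ ∃ a ∈ T₁, ∃ b ∈ T₂, a * b = x :=
  mem_sup_of_le_normalizer (le_normalizer_of_conj fun a ha b hb => by
    rwa [h a ha b hb, mul_inv_cancel_right])

theorem Spl.right (h : Spl T₁ T₂ X) {a b : Ω} (ha : a ∈ T₁) (hb : b ∈ T₂) (e : a * b ∈ X) :
    b ∈ X := by simpa using X.mul_mem (X.inv_mem (h.2 a ha b hb e)) e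

theorem Spl.symm (h : Spl T₁ T₂ X) (hc : Cm T₁ T₂) : Spl T₂ T₁ X :=
  ⟨sup_comm T₁ T₂ ▸ h.1, fun a ha b hb e => h.right hb ha (hc b hb a ha ▸ e)⟩

theorem Spl.le (h : Spl T₁ T₂ X) : T₁ ⊓ T₂ ≤ X := fun z hz =>
  h.2 z hz.1 z⁻¹ (inv_mem hz.2) (by simp)

theorem Spl.dec (h : Spl T₁ T₂ X) (hc : Cm T₁ T₂) {x : Ω} (hx : x ∈ X) :
    ∃ a ∈ X ⊓ T₁, ∃ b ∈ X ⊓ T₂, a * b = x := by
  obtain ⟨a, ha, b, hb, rfl⟩ := hc.mem_sup.1 (h.1 hx)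
  exact ⟨a, ⟨h.2 a ha b hb hx, ha⟩, b, ⟨h.right ha hb hx, hb⟩, rfl⟩

theorem Spl.le_sup (h : Spl T₁ T₂ X) (hc : Cm T₁ T₂) : X ≤ X ⊓ T₁ ⊔ X ⊓ T₂ := fun x hx => by
  obtain ⟨a, ha, b, hb, rfl⟩ := h.dec hc hx
  exact mul_mem (Subgroup.mem_sup_left ha) (Subgroup.mem_sup_right hb)

theorem Spl.inf (h : Spl T₁ T₂ X) (h' : Spl T₁ T₂ Y) : Spl T₁ T₂ (X ⊓ Y) :=
  ⟨inf_le_left.trans h.1, fun a ha b hb e => ⟨h.2 a ha b hb e.1, h'.2 a ha b hb e.2⟩⟩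

theorem spl_top : Spl T₁ T₂ (T₁ ⊔ T₂) := ⟨le_rfl, fun _ ha _ _ _ => Subgroup.mem_sup_left ha⟩

theorem Spl.pre (h : Spl T₁ T₂ X) (h' : Spl T₁ T₂ Y) (hτ : HomOn X τ)
    (h1 : ∀ x ∈ X ⊓ T₁, τ x ∈ T₁) (h2 : ∀ x ∈ X ⊓ T₂, τ x ∈ T₂) : Spl T₁ T₂ (pre X τ Y) := by
  have k : PHom X τ := hτ
  refine ⟨(pre_le _ _ _).trans h.1, fun a ha b hb e => ?_⟩
  obtain ⟨c, d⟩ := k.mem_pre.1 e
  have a1 := h.2 a ha b hb c
  have b1 := h.right ha hb c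
  exact k.mem_pre.2 ⟨a1, h'.2 _ (h1 a ⟨a1, ha⟩) _ (h2 b ⟨b1, hb⟩) (hτ.map_mul a1 b1 ▸ d)⟩

theorem sup_inf_left (hc : Cm T₁ T₂) (h1 : P₁ ≤ T₁) (h2 : P₂ ≤ T₂) (h3 : T₁ ⊓ T₂ ≤ P₁) :
    (P₁ ⊔ P₂) ⊓ T₁ = P₁ := le_antisymm (fun x hx => by
  obtain ⟨a, ha, b, hb, rfl⟩ := (hc.mono h1 h2).mem_sup.1 hx.1
  exact mul_mem ha (h3 ⟨by simpa using T₁.mul_mem (T₁.inv_mem (h1 ha)) hx.2, h2 hb⟩))
    (le_inf le_sup_left h1)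

theorem spl_sup (hc : Cm T₁ T₂) (h1 : P₁ ≤ T₁) (h2 : P₂ ≤ T₂) (h3 : T₁ ⊓ T₂ ≤ P₁) :
    Spl T₁ T₂ (P₁ ⊔ P₂) := ⟨sup_le_sup h1 h2, fun a ha b hb e => by
  obtain ⟨c, hc', d, hd, f⟩ := (hc.mono h1 h2).mem_sup.1 e
  have : c⁻¹ * a = d * b⁻¹ := by rw [inv_mul_eq_iff_eq_mul, ← mul_assoc, f]; simp
  simpa using Subgroup.mem_sup_left (T := P₂) (P₁.mul_mem hc' (h3 ⟨T₁.mul_mem (T₁.inv_mem (h1 hc'))
    ha, this ▸ T₂.mul_mem (h2 hd) (T₂.inv_mem hb)⟩))⟩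

end

variable {E₁ : FusionSystem T₁} {E₂ : FusionSystem T₂} {D : FusionSystem T}

structure CPH (E₁ : FusionSystem T₁) (E₂ : FusionSystem T₂) : Prop where
  cm : Cm T₁ T₂
  c1 : E₁.IsCentral (T₁ ⊓ T₂)
  c2 : E₂.IsCentral (T₁ ⊓ T₂)

structure PM (E₁ : FusionSystem T₁) (E₂ : FusionSystem T₂) (X : Subgroup Ω) (τ : Perm Ω) :
    Prop where
  spl : Spl T₁ T₂ X
  hom : HomOn X τ
  m1 : Mor E₁ (X ⊓ T₁) τ
  m2 : Mor E₂ (X ⊓ T₂) τ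

structure CP (E₁ : FusionSystem T₁) (E₂ : FusionSystem T₂) (D : FusionSystem T) : Prop
    extends CPH E₁ E₂ where
  sup : T = T₁ ⊔ T₂
  iff : ∀ P σ, Mor D P σ ↔ ∃ X τ, P ≤ X ∧ PM E₁ E₂ X τ ∧ ∀ x ∈ P, σ x = τ x

section
omit [Finite S] hp

theorem CPH.symm (h : CPH E₁ E₂) : CPH E₂ E₁ :=
  ⟨h.cm.symm, inf_comm T₁ T₂ ▸ h.c2, inf_comm T₁ T₂ ▸ h.c1⟩

theorem PM.symm (h : PM E₁ E₂ X τ) (hc : Cm T₁ T₂) : PM E₂ E₁ X τ :=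
  ⟨h.spl.symm hc, h.hom, h.m2, h.m1⟩

theorem CP.symm (h : CP E₁ E₂ D) : CP E₂ E₁ D :=
  ⟨h.toCPH.symm, h.sup.trans (sup_comm _ _), fun P σ => (h.iff P σ).trans
    ⟨fun ⟨X, τ, a, b, c⟩ => ⟨X, τ, a, b.symm h.cm, c⟩,
      fun ⟨X, τ, a, b, c⟩ => ⟨X, τ, a, b.symm h.cm.symm, c⟩⟩⟩

theorem PM.mono (h : PM E₁ E₂ X τ) (hY : Spl T₁ T₂ Y) (e : Y ≤ X) : PM E₁ E₂ Y τ :=
  ⟨hY, h.hom.mono e, h.m1.mono (inf_le_inf_right _ e), h.m2.mono (inf_le_inf_right _ e)⟩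

theorem PM.pre (h : PM E₁ E₂ X τ) (hY : Spl T₁ T₂ Y) : PM E₁ E₂ (pre X τ Y) τ :=
  h.mono (h.spl.pre hY h.hom (fun _ => h.m1.mem) fun _ => h.m2.mem) (pre_le _ _ _)

theorem PM.mem (h : PM E₁ E₂ X τ) (hc : Cm T₁ T₂) {x : Ω} (hx : x ∈ X) : τ x ∈ T₁ ⊔ T₂ := by
  obtain ⟨a, ha, b, hb, rfl⟩ := h.spl.dec hc hx
  rw [h.hom.map_mul ha.1 hb.1]
  exact mul_mem (Subgroup.mem_sup_left (h.m1.mem ha)) (Subgroup.mem_sup_right (h.m2.mem hb))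

theorem CP.le₁ (h : CP E₁ E₂ D) : T₁ ≤ T := h.sup ▸ le_sup_left

theorem CP.le₂ (h : CP E₁ E₂ D) : T₂ ≤ T := h.sup ▸ le_sup_right

theorem CP.of_pm (h : CP E₁ E₂ D) (hτ : PM E₁ E₂ X τ) : Mor D X τ :=
  (h.iff _ _).2 ⟨X, τ, le_rfl, hτ, fun _ _ => rfl⟩

theorem CP.full (h : CP E₁ E₂ D) (hσ : Mor D P σ) : Mor E₁ (P ⊓ T₁) σ :=
  let ⟨_, _, a, b, c⟩ := (h.iff _ _).1 hσ
  (b.m1.mono (inf_le_inf_right _ a)).congr fun x hx => c x hx.1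

theorem CP.full' (h : CP E₁ E₂ D) (hσ : Mor D P σ) (hP : P ≤ T₁) : Mor E₁ P σ :=
  (h.full hσ).mono (le_inf le_rfl hP)

theorem CP.pm (h : CP E₁ E₂ D) (hσ : Mor D X σ) (hX : Spl T₁ T₂ X) : PM E₁ E₂ X σ :=
  ⟨hX, hσ.homOn, h.full hσ, h.symm.full hσ⟩

variable [Finite T₁] [Finite T₂]

theorem PM.mem_iff (h : PM E₁ E₂ X τ) (hc : CPH E₁ E₂) {x : Ω} (hx : x ∈ X) :
    τ x ∈ T₁ ↔ x ∈ T₁ := by
  refine ⟨fun e => ?_, fun e => h.m1.mem ⟨hx, e⟩⟩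
  obtain ⟨a, ha, b, hb, rfl⟩ := h.spl.dec hc.cm hx
  rw [h.hom.map_mul ha.1 hb.1] at e
  have z : τ b ∈ T₁ ⊓ T₂ := ⟨by simpa using T₁.mul_mem (T₁.inv_mem (h.m1.mem ha)) e, h.m2.mem hb⟩
  exact mul_mem ha.2 (τ.injective (central_fix hc.c2 h.m2 ⟨h.spl.le z, z.2⟩ z) ▸ z.1)

theorem PM.inv (h : PM E₁ E₂ X τ) (hc : CPH E₁ E₂) : PM E₁ E₂ (img τ X) τ⁻¹ := by
  have k : ∀ y ∈ img τ X, τ⁻¹ y ∈ X := fun y => h.hom.mem_img.1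
  have k1 : ∀ y ∈ img τ X ⊓ T₁, τ⁻¹ y ∈ X ⊓ T₁ := fun y hy =>
    ⟨k y hy.1, (h.mem_iff hc (k y hy.1)).1 (by rw [pai]; exact hy.2)⟩
  have k2 : ∀ y ∈ img τ X ⊓ T₂, τ⁻¹ y ∈ X ⊓ T₂ := fun y hy =>
    ⟨k y hy.1, ((h.symm hc.cm).mem_iff hc.symm (k y hy.1)).1 (by rw [pai]; exact hy.2)⟩
  refine ⟨⟨img_le_iff.2 fun _ => h.mem hc.cm, fun a ha b hb e => ?_⟩, h.hom.inv k, h.m1.inv k1,
    h.m2.inv k2⟩
  obtain ⟨x, hx, f⟩ := h.hom.mem_img'.1 e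
  obtain ⟨c, hc', d, hd, rfl⟩ := h.spl.dec hc.cm hx
  rw [h.hom.map_mul hc'.1 hd.1] at f
  have g : (τ c)⁻¹ * a = τ d * b⁻¹ := by rw [inv_mul_eq_iff_eq_mul, ← mul_assoc, f]; simp
  have z : (τ c)⁻¹ * a ∈ T₁ ⊓ T₂ := ⟨T₁.mul_mem (T₁.inv_mem (h.m1.mem hc')) ha,
    g ▸ T₂.mul_mem (h.m2.mem hd) (T₂.inv_mem hb)⟩
  have := apply_mem_img_of_mem τ (X.mul_mem hc'.1 (h.spl.le z))
  rwa [h.hom.map_mul hc'.1 (h.spl.le z), central_fix hc.c2 h.m2 ⟨h.spl.le z, z.2⟩ z,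
    mul_inv_cancel_left] at this

theorem CPH.exists_cp (h : CPH E₁ E₂) (e : T = T₁ ⊔ T₂) : ∃ D : FusionSystem T, CP E₁ E₂ D := by
  subst e
  have d : MorData (T₁ ⊔ T₂) fun P σ => ∃ X τ, P ≤ X ∧ PM E₁ E₂ X τ ∧ ∀ x ∈ P, σ x = τ x :=
    { le := fun ⟨_, _, a, b, _⟩ => a.trans b.spl.1
      mem := fun ⟨_, _, a, b, c⟩ x hx => c x hx ▸ b.mem h.cm (a hx)
      homOn := fun ⟨_, _, a, b, c⟩ => (b.hom.mono a).congr c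
      congr := fun ⟨X, τ, a, b, c⟩ e => ⟨X, τ, a, b, fun x hx => by rw [e x hx, c x hx]⟩
      cj := fun {P g} a b => by
        obtain ⟨s, c, t, d, rfl⟩ := h.cm.mem_sup.1 b
        exact ⟨_, cj (s * t), a, ⟨spl_top, homOn_cj _ _, (mor_cj E₁ inf_le_right c).congr
          fun x hx => h.cm.conj d hx.2 c, (mor_cj E₂ inf_le_right d).congr fun x hx => by
            rw [h.cm s c t d]; exact h.cm.symm.conj c hx.2 d⟩, fun _ _ => rfl⟩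
      comp := fun {P Q σ σ'} ⟨X, τ, a, b, c⟩ ⟨Y, τ', d, e, f⟩ g => by
        have k : PHom X τ := b.hom
        have l := b.pre e.spl
        have m : ∀ x ∈ pre X τ Y, τ x ∈ Y := fun x hx => (k.mem_pre.1 hx).2
        exact ⟨_, τ' * τ, fun x hx => k.mem_pre.2 ⟨a hx, c x hx ▸ d (g x hx)⟩, ⟨l.spl,
          l.hom.comp e.hom m, l.m1.comp e.m1 fun x hx => ⟨m x hx.1, l.m1.mem hx⟩,
            l.m2.comp e.m2 fun x hx => ⟨m x hx.1, l.m2.mem hx⟩⟩, fun x hx => by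
              rw [Perm.mul_apply, Perm.mul_apply, f _ (g x hx), c x hx]⟩
      inv := fun {P σ} ⟨X, τ, a, b, c⟩ => ⟨_, τ⁻¹, (img_congr c).le.trans (img_mono τ a), b.inv h,
        fun y hy => by
          obtain ⟨x, hx, rfl⟩ := ((b.hom.mono a).congr c).mem_img'.1 hy
          rw [pia, c x hx, pia]⟩ }
  exact ⟨d.toFS, h, rfl, fun _ _ => d.mor_iff⟩

theorem CPH.glue (h : CPH E₁ E₂) (h1 : Mor E₁ P₁ σ₁) (h2 : Mor E₂ P₂ σ₂) :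
    ∃ X τ, P₁ ⊔ P₂ ≤ X ∧ PM E₁ E₂ X τ ∧ (∀ x ∈ P₁, τ x = σ₁ x) ∧ ∀ x ∈ P₂, τ x = σ₂ x := by
  obtain ⟨τ₁, a, b, c⟩ := central_ext h.c1 h1
  obtain ⟨τ₂, d, e, f⟩ := central_ext h.c2 h2
  set Q₁ := P₁ ⊔ T₁ ⊓ T₂
  set Q₂ := P₂ ⊔ T₁ ⊓ T₂
  have k := h.cm.mono a.le d.le
  have wd : ∀ x ∈ Q₁, ∀ y ∈ Q₂, ∀ x' ∈ Q₁, ∀ y' ∈ Q₂, (x * y = x' * y' ↔
      τ₁ x * τ₂ y = τ₁ x' * τ₂ y') := fun x hx y hy x' hx' y' hy' => by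
    have l := Q₁.mul_mem (Q₁.inv_mem hx') hx
    have m := Q₂.mul_mem hy' (Q₂.inv_mem hy)
    have n : ∀ u v u' v' : Ω, u * v = u' * v' ↔ u'⁻¹ * u = v' * v⁻¹ := fun u v u' v' => by
      rw [inv_mul_eq_iff_eq_mul, ← mul_assoc, eq_mul_inv_iff_mul_eq]
    rw [n, n (τ₁ x), ← a.map_inv hx', ← a.map_mul (inv_mem hx') hx, ← d.map_inv hy,
      ← d.map_mul hy' (inv_mem hy)]
    refine ⟨fun q => ?_, fun q => ?_⟩
    · have z : x'⁻¹ * x ∈ T₁ ⊓ T₂ := ⟨a.le l, q ▸ d.le m⟩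
      rw [c _ z, ← q, f _ z]
    · have z : τ₁ (x'⁻¹ * x) ∈ T₁ ⊓ T₂ := ⟨a.mem l, q ▸ d.mem m⟩
      rw [← τ₁.injective (c _ z), ← τ₂.injective ((f _ z).trans q)]
  choose u u1 v v1 uv using fun x : ↥(Q₁ ⊔ Q₂) => k.mem_sup.1 x.2
  let φ : ↥(Q₁ ⊔ Q₂) →* Ω := MonoidHom.mk' (fun x => τ₁ (u x) * τ₂ (v x)) fun x y => by
    rw [(wd _ (u1 _) _ (v1 _) _ (mul_mem (u1 x) (u1 y)) _ (mul_mem (v1 x) (v1 y))).1 (by
      rw [uv, Subgroup.coe_mul, ← uv x, ← uv y, mul_assoc, ← mul_assoc (v x),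
        ← k _ (u1 y) _ (v1 x)]; group), a.map_mul (u1 x) (u1 y), d.map_mul (v1 x) (v1 y),
      mul_assoc, ← mul_assoc (τ₁ (u y)), h.cm _ (a.mem (u1 y)) _ (d.mem (v1 x))]
    group
  have : Finite ↥(Q₁ ⊔ Q₂) := Finite.of_injective (fun x => ((⟨u x, a.le (u1 x)⟩ : T₁),
    (⟨v x, d.le (v1 x)⟩ : T₂))) fun x y q => Subtype.ext (by
      rw [← uv x, ← uv y, Subtype.mk.inj (Prod.mk.inj q).1, Subtype.mk.inj (Prod.mk.inj q).2])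
  obtain ⟨τ, l, m⟩ := exists_perm_of_injective φ fun x y q => Subtype.ext (by
    rw [← uv x, ← uv y]; exact (wd _ (u1 _) _ (v1 _) _ (u1 _) _ (v1 _)).2 q)
  have m1 : ∀ x ∈ Q₁, τ x = τ₁ x := fun x hx => by
    rw [m ⟨x, Subgroup.mem_sup_left hx⟩]
    show τ₁ (u _) * τ₂ (v _) = _
    simpa [d.map_one] using (wd _ (u1 _) _ (v1 _) x hx 1 (one_mem _)).1
      (by rw [uv ⟨x, Subgroup.mem_sup_left hx⟩, mul_one])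
  have m2 : ∀ x ∈ Q₂, τ x = τ₂ x := fun x hx => by
    rw [m ⟨x, Subgroup.mem_sup_right hx⟩]
    show τ₁ (u _) * τ₂ (v _) = _
    simpa [a.map_one] using (wd _ (u1 _) _ (v1 _) 1 (one_mem _) x hx).1
      (by rw [uv ⟨x, Subgroup.mem_sup_right hx⟩, one_mul])
  refine ⟨Q₁ ⊔ Q₂, τ, sup_le_sup le_sup_left le_sup_left, ⟨spl_sup h.cm a.le d.le le_sup_right, l,
    ?_, ?_⟩, fun x hx => by rw [m1 x (Subgroup.mem_sup_left hx), b x hx],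
      fun x hx => by rw [m2 x (Subgroup.mem_sup_left hx), e x hx]⟩
  · rw [sup_inf_left h.cm a.le d.le le_sup_right]; exact a.congr m1
  · rw [sup_comm, sup_inf_left h.cm.symm d.le a.le (inf_comm T₁ T₂ ▸ le_sup_right)]
    exact d.congr m2

theorem CP.glue (h : CP E₁ E₂ D) (h1 : Mor E₁ P₁ σ₁) (h2 : Mor E₂ P₂ σ₂) :
    ∃ τ, Mor D (P₁ ⊔ P₂) τ ∧ (∀ x ∈ P₁, τ x = σ₁ x) ∧ ∀ x ∈ P₂, τ x = σ₂ x :=
  let ⟨_, τ, a, b, c⟩ := h.toCPH.glue h1 h2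
  ⟨τ, (h.of_pm b).mono a, c⟩

theorem CP.sub (h : CP E₁ E₂ D) : E₁.IsSubsystemOf D := isSubsystemOf_iff.2 fun _ _ a =>
  let ⟨_, b, c, _⟩ := h.glue a (mor_one E₂ le_rfl)
  (b.mono le_sup_left).congr fun x hx => (c x hx).symm

theorem CP.finite (h : CP E₁ E₂ D) : Finite T := by
  choose u u1 v v1 uv using fun x : T => h.cm.mem_sup.1 (h.sup.le x.2)
  exact Finite.of_injective (fun x => ((⟨u x, u1 x⟩ : T₁), (⟨v x, v1 x⟩ : T₂))) fun x y q =>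
    Subtype.ext (by
      rw [← uv x, ← uv y, Subtype.mk.inj (Prod.mk.inj q).1, Subtype.mk.inj (Prod.mk.inj q).2])

theorem CP.sc (h : CP E₁ E₂ D) : D.StronglyClosed T₁ :=
  have := h.finite
  stronglyClosed_iff.2 ⟨h.le₁, fun _ _ a _ b c => (h.full a).mem ⟨b, c⟩⟩

theorem CP.spl_iso (h : CP E₁ E₂ D) (hP : Spl T₁ T₂ P) (hσ : Iso D P Q σ) : Spl T₁ T₂ Q :=
  hσ.img_eq ▸ ((h.pm hσ.mor hP).inv h.toCPH).spl

theorem CP.iso (h : CP E₁ E₂ D) (hσ : Iso D P Q σ) : Iso E₁ (P ⊓ T₁) (Q ⊓ T₁) σ :=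
  ⟨h.full hσ.mor, (hσ.inf h.sc).mem⟩

theorem CP.unique {D' : FusionSystem U} (h : CP E₁ E₂ D) (h' : CP E₁ E₂ D') (hσ : Mor D P σ) :
    Mor D' P σ := (h'.iff _ _).2 ((h.iff _ _).1 hσ)

end

variable [Finite T₁] [Finite T₂]

omit [Finite S] in
theorem CP.pg (h : CP E₁ E₂ D) (h1 : IsPGroup p T₁) (h2 : IsPGroup p T₂) : IsPGroup p T :=
  h.sup ▸ h1.to_sup_of_normal_left' h2 (le_normalizer_of_conj fun a ha b hb => by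
    rwa [← h.cm b hb a ha, mul_inv_cancel_right])

omit [Finite S] in
theorem CP.fa_aux (h : CP E₁ E₂ D) (h1 : E₁.IsFullyAutomized p (Q ⊓ T₁)) (hQ : Spl T₁ T₂ Q)
    {K : Subgroup (MulAut Q)} (k1 : autInducedBy T Q ≤ K) (k2 : K ≤ D.autGroup Q)
    (k3 : IsPGroup p K) (hσ : InK K σ) :
    ∃ g ∈ T₁, ∀ x ∈ Q ⊓ T₁, σ x = g * x * g⁻¹ := by
  have := h.finite
  have hT := hQ.1.trans h.sup.ge
  have := finite_of_le (inf_le_right : Q ⊓ T₁ ≤ T₁)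
  have i : ∀ σ, InK K σ → Iso E₁ (Q ⊓ T₁) (Q ⊓ T₁) σ := fun σ a =>
    h.iso ((inK_autGroup hT).1 (a.mono k2))
  have s : K ≤ stabAut Q (Q ⊓ T₁) := fun a ha x => by
    have := (i _ (inK_ap.2 ha)).mem x
    rwa [ap_coe] at this
  have e := (fa_syl h1).eq_of_le (K := resGrp inf_le_left K) (le_of_inK fun τ a => by
    obtain ⟨ρ, b, c⟩ := (inK_resGrp _ s).1 a
    exact (inK_autGroup h1.1).2 ((i _ b).congr fun x hx => (c x hx).symm))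
    ((isPGroup_subgroupOf _ k3).map _) (le_of_inK fun τ a => by
      obtain ⟨g, b, c⟩ := inK_autInducedBy.1 a
      have := finite_of_le hT
      refine (inK_resGrp _ s).2 ⟨cj g, (inK_autInducedBy.2 ⟨g, mem_N_of_finite (h.le₁ b.1)
        fun x hx => ?_, fun _ _ => rfl⟩).mono k1, fun x hx => (c x hx).symm⟩
      obtain ⟨u, u1, v, v1, rfl⟩ := hQ.dec h.cm hx
      have := Q.mul_mem (conj_mem_of_mem_N b u1).1 v1.1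
      rwa [mul_assoc, h.cm _ (inv_mem b.1) _ v1.2, ← mul_assoc, mul_assoc g] at this)
  obtain ⟨g, a, b⟩ := inK_autInducedBy.1 (((inK_resGrp _ s).2 ⟨σ, hσ, fun _ _ => rfl⟩).mono e.ge)
  exact ⟨g, a.1, b⟩

omit [Finite S] hp in
theorem CP.extN_aux (h : CP E₁ E₂ D) (hσ : Mor D P σ) {a b : Ω} (ha : a ∈ T₁) (hb : b ∈ T₂)
    (e : a * b ∈ extN T P σ) : a ∈ extN T₁ (P ⊓ T₁) σ := by
  have := finite_of_le (inf_le_right : P ⊓ T₁ ≤ T₁)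
  obtain ⟨c, k, d, f⟩ := e
  obtain ⟨u, u1, v, v1, rfl⟩ := h.cm.mem_sup.1 (h.sup.le d)
  refine ⟨mem_N_of_finite ha fun x hx => ⟨h.cm.conj hb hx.2 ha ▸ conj_mem_of_mem_N c hx.1,
    T₁.mul_mem (T₁.mul_mem ha hx.2) (T₁.inv_mem ha)⟩, u, u1, fun x hx => ?_⟩
  rw [← h.cm.conj hb hx.2 ha, f x hx.1, h.cm.conj v1 ((h.full hσ).mem hx) u1]

omit [Finite S] in
theorem CP.sat (h : CP E₁ E₂ D) (h1 : Sat p E₁) (h2 : Sat p E₂) : Sat p D := by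
  have := h.finite
  have hT := h.pg h1.pg h2.pg
  have half : ∀ {T₁ T₂ : Subgroup Ω} {E₁ : FusionSystem T₁} {E₂ : FusionSystem T₂} [Finite T₁]
      [Finite T₂], CP E₁ E₂ D → ∀ P ≤ T, ∀ a ∈ T₁, ∀ b ∈ T₂, a * b ∈ P → a ∉ P →
      ∃ g ∈ T, g ∉ P ∧ InK (opm p (D.autGroup P)) (cj g) := by
    intro T₁ T₂ E₁ E₂ _ _ h P hP a ha b hb e f
    by_contra! hc
    let Y : Subgroup Ω :=
      { carrier := {a | a ∈ T₁ ∧ ∃ b ∈ T₂, a * b ∈ P}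
        one_mem' := ⟨one_mem _, 1, one_mem _, by simp⟩
        mul_mem' := fun {x y} ⟨a, u, b, c⟩ ⟨d, v, e, f⟩ => ⟨mul_mem a d, u * v, mul_mem b e, by
          convert P.mul_mem c f using 1
          rw [mul_assoc, mul_assoc x, ← mul_assoc u, ← h.cm y d u b]; group⟩
        inv_mem' := fun {x} ⟨a, u, b, c⟩ => ⟨inv_mem a, u⁻¹, inv_mem b, by
          rw [← mul_inv_rev, ← h.cm x a u b]; exact P.inv_mem c⟩ }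
    refine f (le_of_N_le' (Q := Y) hT hP (fun x hx => h.le₁ hx.1) (fun g hg x ⟨k, u, l, m⟩ =>
      ⟨sc_conj h.sc (hP hg) k, _, sc_conj h.symm.sc (hP hg) l, by
        convert P.mul_mem (P.mul_mem hg m) (P.inv_mem hg) using 1; group⟩)
      (fun g ⟨k, u, l, m⟩ n => by_contra fun q => hc g (h.le₁ k) q (inK_opm_half hT h.sc hP
        ⟨k, n⟩ m fun x _ r => (h.cm.conj l r k).symm)) ⟨ha, b, hb, e⟩)
  refine sat_of_family hT (Spl T₁ T₂) (fun _ _ _ => h.spl_iso) (fun P _ hP => ?_)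
    (fun P σ a => ?_) fun P a b => ?_
  · obtain ⟨Q₁, σ₁, a1, a2, a3⟩ := h1.ls (inf_le_right : P ⊓ T₁ ≤ T₁)
    obtain ⟨Q₂, σ₂, b1, b2, b3⟩ := h2.ls (inf_le_right : P ⊓ T₂ ≤ T₂)
    obtain ⟨τ, c1, c2, c3⟩ := h.glue a1.mor b1.mor
    have i := (c1.mono (hP.le_sup h.cm)).iso
    have hQ := h.spl_iso hP i
    obtain rfl := (a1.congr c2).unique (h.iso i)
    obtain rfl := (b1.congr c3).unique (h.symm.iso i)
    refine ⟨_, τ, i, isFullyAutomized_iff.2 ⟨i.le', syl_of_max (autInducedBy_le_autGroup D le_rfl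
      i.le') (isPGroup_autInducedBy hT _) fun K k1 k2 k3 => le_of_inK fun σ d => ?_⟩,
        isReceptive_iff.2 ⟨i.le', fun P' σ d => ?_⟩⟩
    · obtain ⟨u, u1, u2⟩ := h.fa_aux a2 hQ k1 k2 k3 d
      obtain ⟨v, v1, v2⟩ := h.symm.fa_aux b2 (hQ.symm h.cm) k1 k2 k3 d
      have e : ∀ x ∈ img τ P, σ x = u * v * x * (u * v)⁻¹ := fun x hx => by
        obtain ⟨s, s1, t, t1, rfl⟩ := hQ.dec h.cm hx
        rw [d.homOn.map_mul s1.1 t1.1, u2 s s1, v2 t t1, ← h.cm.conj v1 s1.2 u1,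
          ← h.cm.symm.conj u1 t1.2 v1, ← h.cm u u1 v v1]
        group
      have := finite_of_le i.le'
      exact inK_autInducedBy.2 ⟨u * v, mem_N_of_finite (mul_mem (h.le₁ u1) (h.le₂ v1))
        fun x hx => e x hx ▸ d.maps hx, e⟩
    · have e := h.spl_iso hQ d.symm
      obtain ⟨τ₁, k1, k2⟩ := (isReceptive_iff.1 a3).2 _ _ (h.iso d)
      obtain ⟨τ₂, l1, l2⟩ := (isReceptive_iff.1 b3).2 _ _ (h.symm.iso d)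
      obtain ⟨ρ, m1, m2, m3⟩ := h.glue k1 l1
      have m4 : extN T P' σ ≤ extN T₁ (P' ⊓ T₁) σ ⊔ extN T₂ (P' ⊓ T₂) σ := fun g hg => by
        obtain ⟨u, u1, v, v1, rfl⟩ := h.cm.mem_sup.1 (h.sup.le hg.1.1)
        exact mul_mem (Subgroup.mem_sup_left (h.extN_aux d.mor u1 v1 hg)) (Subgroup.mem_sup_right
          (h.symm.extN_aux d.mor v1 u1 (h.cm u u1 v v1 ▸ hg)))
      refine ⟨ρ, m1.mono m4, fun x hx => ?_⟩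
      obtain ⟨s, s1, t, t1, rfl⟩ := e.dec h.cm hx
      have s2 := (h.full d.mor).le_extN s1
      have t2 := (h.symm.full d.mor).le_extN t1
      rw [m1.map_mul (Subgroup.mem_sup_left s2) (Subgroup.mem_sup_right t2), m2 s s2, m3 t t2,
        k2 s s1, l2 t t1, d.mor.map_mul s1.1 t1.1]
  · obtain ⟨X, τ, b, c, d⟩ := (h.iff _ _).1 a
    exact (Gen.base ⟨c.spl, h.of_pm c⟩ b a.le).congr d
  · simp only [Spl, a.1.trans h.sup.le, true_and, not_forall] at b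
    obtain ⟨u, u1, v, v1, c, d⟩ := b
    obtain ⟨g, e, f, k⟩ := half h P a.1 u u1 v v1 c d
    exact ⟨P, 1, g, iso_refl D a.1, e, f, k⟩

end Cfsg.Agent.H9
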