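import Cfsg.Agent.H9.CP

/-! Central products: normality, external products, the generalized Fitting subsystem. -/

set_option autoImplicit false
set_option linter.unusedSectionVars false

namespace Cfsg.Agent.H9

open Cfsg Cfsg.FusionSystem Equiv
open scoped commutatorElement

section
variable {Ω : Type*} [Group Ω] {S : Subgroup Ω} [Finite S]
  {p : ℕ} [hp : Fact p.Prime] {F : FusionSystem S}
  {P Q R T U V W X Y Z T₁ T₂ P₁ P₂ : Subgroup Ω} {σ τ χ α β γ ρ δ σ₁ σ₂ : Perm Ω}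

theorem spl_cr (hS : IsPGroup p S) (h1 : F.StronglyClosed T₁) (h2 : F.StronglyClosed T₂)
    (hc : Cm T₁ T₂) (c : F.IsCentric R) (r : F.IsRadical p R) : Spl T₁ T₂ (R ⊓ (T₁ ⊔ T₂)) := by
  let Y : Subgroup Ω :=
    { carrier := {a | a ∈ T₁ ∧ ∃ b ∈ T₂, a * b ∈ R}
      one_mem' := ⟨one_mem _, 1, one_mem _, by simp⟩
      mul_mem' := fun {x y} ⟨a, u, b, c⟩ ⟨d, v, e, f⟩ => ⟨mul_mem a d, u * v, mul_mem b e, by
        convert R.mul_mem c f using 1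
        rw [mul_assoc, mul_assoc x, ← mul_assoc u, ← hc y d u b]; group⟩
      inv_mem' := fun {x} ⟨a, u, b, c⟩ => ⟨inv_mem a, u⁻¹, inv_mem b, by
        rw [← mul_inv_rev, ← hc x a u b]; exact R.inv_mem c⟩ }
  have k : Y ≤ R := le_of_N_le' hS c.1 (fun x hx => h1.1 hx.1) (fun g hg x ⟨k, u, l, m⟩ =>
    ⟨sc_conj h1 (c.1 hg) k, _, sc_conj h2 (c.1 hg) l, by
      convert R.mul_mem (R.mul_mem hg m) (R.inv_mem hg) using 1; group⟩)
    fun g ⟨k, u, l, m⟩ n => by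
      obtain ⟨a, b, e⟩ := inK_opm_half hS h1 c.1 ⟨k, n⟩ m fun x _ r => (hc.conj l r k).symm
      obtain ⟨a, b, rfl⟩ := b
      exact mem_of_inK_inn c.1 (centric_C_le c) (h1.1 k) ⟨_, radical_mem_inn r b, e⟩
  exact ⟨inf_le_right, fun a ha b hb e => ⟨k ⟨ha, b, hb, e.1⟩, Subgroup.mem_sup_left ha⟩⟩

variable {E₁ : FusionSystem T₁} {E₂ : FusionSystem T₂} {D : FusionSystem T} {E : FusionSystem T}

omit hp in
theorem Invar.of_full (h1 : E.IsSubsystemOf F) (hT : F.StronglyClosed T)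
    (h : ∀ P σ, P ≤ T → Mor F P σ → Mor E P σ) : Invar E F :=
  ⟨h1, hT, fun P σ α a b => h _ _ (img_le_iff.2 fun _ hx => b.maps (a.le hx))
    (((b.mor.mono a.le).inv_img.comp (a.of_sub h1) fun _ => (b.homOn.mono a.le).mem_img.1).comp
      b.mor fun _ hx => a.mem ((b.homOn.mono a.le).mem_img.1 hx)),
    fun P σ a b => ⟨1, iso_refl F hT.1, by simpa using h P σ a b⟩⟩

omit hp in
theorem Cm.le_C (h : Cm T₁ T₂) (h1 : T₁ ≤ S) : T₁ ≤ centralizerIn S T₂ :=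
  fun a ha => mem_C.2 ⟨h1 ha, fun b hb => (h a ha b hb).symm⟩

theorem CP.sub_of (h : CP E₁ E₂ D) (h1 : Nml p E₁ F) (h2 : Nml p E₂ F) : D.IsSubsystemOf F := by
  have := finite_of_le h1.le
  have := finite_of_le h2.le
  have := h.finite
  refine isSubsystemOf_iff.2 fun P σ a => ?_
  obtain ⟨X, τ, b, c, d⟩ := (h.iff _ _).1 a
  obtain ⟨-, τ₁, e, f, g⟩ := h1.cm_of_comm h2.sc (le_center h.c1) (h.cm.le_C h1.le) c.m1
  obtain ⟨-, τ₂, k, l, m⟩ := h2.cm_of_comm h1.sc (le_center h.symm.c1) (h.cm.symm.le_C h2.le) c.m2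
  have n : ∀ x ∈ X, τ₁ x ∈ X ⊓ T₂ ⊔ T₁ ∧ τ₂ (τ₁ x) = τ x := fun x hx => by
    obtain ⟨u, u1, v, v1, rfl⟩ := c.spl.dec h.cm hx
    have q := Subgroup.mem_sup_right (S := X ⊓ T₂) (c.m1.mem u1)
    rw [e.map_mul (Subgroup.mem_sup_left u1) (Subgroup.mem_sup_right v1.2), f u u1, g v v1.2,
      k.map_mul q (Subgroup.mem_sup_left v1), m _ (c.m1.mem u1), l v v1, c.hom.map_mul u1.1 v1.1]
    exact ⟨mul_mem q (Subgroup.mem_sup_left v1), rfl⟩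
  exact (((e.mono ((c.spl.le_sup h.cm).trans (sup_le_sup_left inf_le_right _))).comp k
    fun x hx => (n x hx).1).mono b).congr fun x hx => by rw [d x hx, ← (n x (b hx)).2]; rfl

omit hp in
theorem CP.conj_spl (h : CP E₁ E₂ D) (h1 : Invar E₁ F) (h2 : Invar E₂ F) (hR : Spl T₁ T₂ R)
    (hα : Mor F R α) (hP : P ≤ R) (hσ : Mor D P σ) (hm : ∀ x ∈ P, σ x ∈ R) :
    Mor D (img α P) (α * σ * α⁻¹) := by
  have := finite_of_le h1.le
  have := finite_of_le h2.le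
  obtain ⟨X, τ, b, c, d⟩ := (h.iff _ _).1 hσ
  have k : PHom X τ := c.hom
  have l := (c.pre hR).mono ((c.pre hR).spl.inf hR) inf_le_left
  set Y := pre X τ R ⊓ R
  have m : ∀ x ∈ Y, τ x ∈ R := fun x hx => (k.mem_pre.1 hx.1).2
  have n : P ≤ Y := fun x hx => ⟨k.mem_pre.2 ⟨b hx, d x hx ▸ hm x hx⟩, hP hx⟩
  obtain ⟨ρ, e, f, g⟩ := h.glue (h1.strong (hα.mono inf_le_left) inf_le_right
    (inf_le_inf_right _ inf_le_right) l.m1 fun x hx => ⟨m x hx.1, l.m1.mem hx⟩)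
    (h2.strong (hα.mono inf_le_left) inf_le_right (inf_le_inf_right _ inf_le_right) l.m2
      fun x hx => ⟨m x hx.1, l.m2.mem hx⟩)
  have q : ∀ x ∈ Y, α x ∈ img α (Y ⊓ T₁) ⊔ img α (Y ⊓ T₂) ∧ ρ (α x) = α (τ x) := fun x hx => by
    obtain ⟨u, u1, v, v1, rfl⟩ := l.spl.dec h.cm hx
    have r := Subgroup.mem_sup_left (T := img α (Y ⊓ T₂)) (apply_mem_img_of_mem α u1)
    have s := Subgroup.mem_sup_right (S := img α (Y ⊓ T₁)) (apply_mem_img_of_mem α v1)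
    rw [hα.map_mul u1.1.2 v1.1.2, e.map_mul r s, f _ (apply_mem_img_of_mem α u1),
      g _ (apply_mem_img_of_mem α v1), l.hom.map_mul u1.1 v1.1, hα.map_mul (m u u1.1) (m v v1.1)]
    exact ⟨mul_mem r s, by simp only [Perm.mul_apply, pia]⟩
  refine (e.mono (img_le_iff.2 fun x hx => (q x (n hx)).1)).congr fun y hy => ?_
  obtain ⟨x, hx, rfl⟩ := (hα.homOn.mono hP).mem_img'.1 hy
  rw [(q x (n hx)).2, Perm.mul_apply, Perm.mul_apply, pia, d x hx]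

theorem CP.invar (h : CP E₁ E₂ D) (h1 : Nml p E₁ F) (h2 : Nml p E₂ F) : Invar D F := by
  have hF := h1.satF
  have hT : F.StronglyClosed T := h.sup ▸ hF.sc_sup h1.sc h2.sc
  refine hF.invar_of_strong (h.sub_of h1 h2) hT fun P Q σ τ a b c d e => ?_
  refine hF.alperin_ind (fun τ => Mor D (img τ P) (τ * σ * τ⁻¹)) (fun τ f => ?_)
    (fun τ α ρ R f g k l m n => ?_) a
  · exact Mor.congr_conj (ρ := 1) (by simpa using d) ((homOn_one Q).congr f) c e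
      fun x hx => (f x hx).symm
  · obtain ⟨-, r, s⟩ := hF.fcr_of_ess k
    have q : ∀ x ∈ Q, τ x ∈ R ⊓ (T₁ ⊔ T₂) := fun x hx => ⟨m x hx, h.sup.le (sc_mem hT f hx (b hx))⟩
    have t := h.conj_spl h1.inv h2.inv (spl_cr hF.pg h1.sc h2.sc h.cm r s) (l.mor.mono inf_le_left)
      (img_le_iff.2 fun x hx => q x (c hx)) g fun y hy => by
        rw [Perm.mul_apply, Perm.mul_apply]
        exact q _ (e _ ((f.homOn.mono c).mem_img.1 hy))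
    rw [← (f.homOn.mono c).img_mul l.homOn fun x hx => m x (c hx)] at t
    exact Mor.congr_conj (ρ := α * τ) (by convert t using 1; group)
      ((f.homOn.comp l.homOn m).congr n) c e fun x hx => (n x hx).symm

theorem Nml.ext_half (h : Nml p E₁ F) (h2 : F.StronglyClosed T₂) (hc : Cm T₁ T₂)
    (hZ : E₁.IsCentral (T₁ ⊓ T₂)) (hα : Iso E₁ T₁ T₁ α) (hp : PP p T₁ α) :
    ∃ β, Iso F (VC S (T₁ ⊔ T₂)) (VC S (T₁ ⊔ T₂)) β ∧ (∀ x ∈ T₁, β x = α x) ∧ (∀ x ∈ T₂, β x = x) ∧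
      ∀ x ∈ VC S (T₁ ⊔ T₂), x⁻¹ * β x ∈ T₁ := by
  have := finite_of_le h.le
  obtain ⟨β, a, b, c, d⟩ := h.ext_pp (h.satF.fn_fc (sc_fn h.sc))
    ((h.inv.centric_iff_tc le_rfl).1 (centric_top E₁)) hα hp
  have e : T₂ ≤ VC S T₁ := (hc.symm.le_C h2.1).trans le_sup_right
  have f : T₁ ⊔ T₂ ≤ VC S T₁ := sup_le le_sup_left e
  have g : centralizerIn S (T₁ ⊔ T₂) ≤ VC S T₁ := (C_anti S le_sup_left).trans le_sup_right
  refine ⟨β, (a.iso_C' f g fun x hx => sc_mem (h.satF.sc_sup h.sc h2) a.mor (f hx) hx).1, c,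
    fun x hx => ?_, fun x hx => d x (sup_le f g hx)⟩
  have z : x⁻¹ * β x ∈ T₁ ⊓ T₂ :=
    ⟨d x (e hx), T₂.mul_mem (T₂.inv_mem hx) (sc_mem h2 a.mor (e hx) hx)⟩
  exact b.fix_of h.satF.pg a.mor (e hx) (e z.2) (by rw [c _ z.1, central_fix hZ hα.mor z.1 z])

theorem CP.nml (h : CP E₁ E₂ D) (h1 : Nml p E₁ F) (h2 : Nml p E₂ F) : Nml p D F := by
  have := finite_of_le h1.le
  have := finite_of_le h2.le
  have := h.finite
  have hD := h.sat h1.satE h2.satE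
  have hi := h.invar h1 h2
  refine nml_iff.2 ⟨hD, h1.satF, hi, fun α a => ((inK_autGroup le_rfl).2 a).mono (le_of_pe_pp (p := p)
    (fun σ b c => ?_) fun σ b c => ?_)⟩
  · exact (inK_extG hi.le).2 (hi.pe_ext h1.satF hD ((hi.centric_iff_tc le_rfl).1 (centric_top D))
      ((inK_autGroup le_rfl).1 b) c)
  · have d := (inK_autGroup le_rfl).1 b
    obtain ⟨β₁, e, f, g, k⟩ := h1.ext_half h2.sc h.cm h.c1 (sc_iso (sc_top _)
      (h.full' (d.mor.mono h.le₁) le_rfl)) (c.mono h.le₁)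
    obtain ⟨β₂, l, m, n, q⟩ := h2.ext_half h1.sc h.cm.symm h.symm.c1 (sc_iso (sc_top _)
      (h.symm.full' (d.mor.mono h.le₂) le_rfl)) (c.mono h.le₂)
    rw [sup_comm, ← h.sup] at l q
    rw [← h.sup] at e k
    refine (inK_extG hi.le).2 ⟨β₂ * β₁, e.trans l, ?_, mod_mul (fun _ => e.maps)
      (fun x hx => h.le₁ (k x hx)) fun x hx => h.le₂ (q x hx)⟩
    have r := (e.trans l).homOn.mono (le_sup_left : T ≤ _)
    have s := d.homOn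
    rw [h.sup] at r s ⊢
    exact r.eqOn_sup s (fun x hx => by rw [Perm.mul_apply, f x hx, n _ (sc_mem h.sc d.mor (h.le₁ hx)
      hx)]) fun x hx => by rw [Perm.mul_apply, g x hx, m x hx]

omit [Finite S] hp in
theorem CP.invar_of [Finite T₁] [Finite T₂] (h : CP E₁ E₂ D) {C : FusionSystem R}
    (hC : Invar C E₁) : Invar C D := by
  have := h.finite
  have := finite_of_le hC.le
  refine ⟨sub_trans hC.sub h.sub, stronglyClosed_iff.2 ⟨hC.le.trans h.le₁, fun P σ a x b c =>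
    sc_mem hC.sc (h.full a) ⟨b, hC.le c⟩ c⟩, fun P σ α a b => hC.conj P σ α a
      ⟨h.full' b.mor hC.le, b.mem⟩, fun P σ a b => ?_⟩
  obtain ⟨α, c, d⟩ := hC.frat P σ a (h.full' b (a.trans hC.le))
  exact ⟨α, c.of_sub h.sub, d⟩

omit [Finite S] in
theorem CP.nml_of [Finite T₁] [Finite T₂] (h : CP E₁ E₂ D) (h2 : Sat p E₂) {C : FusionSystem R}
    (hC : Nml p C E₁) : Nml p C D := by
  refine ⟨hC.satE, h.sat hC.satF h2, h.invar_of hC.inv, fun α a => ?_⟩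
  obtain ⟨β, b, c, d⟩ := hC.ext α a
  obtain ⟨γ, e, f, g⟩ := h.glue b (mor_one E₂ le_rfl)
  have k : ∀ x ∈ centralizerIn T R, ∃ u ∈ centralizerIn T₁ R, ∃ v ∈ T₂, u * v = x := fun x hx => by
    obtain ⟨u, u1, v, v1, rfl⟩ := h.cm.mem_sup.1 (h.sup.le hx.1)
    refine ⟨u, mem_C.2 ⟨u1, fun y hy => ?_⟩, v, v1, rfl⟩
    have := (mem_C.1 hx).2 y hy
    rwa [mul_assoc, ← h.cm y (hC.le hy) v v1, ← mul_assoc, ← mul_assoc, mul_left_inj] at this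
  refine ⟨γ, e.mono (sup_le (le_sup_left.trans le_sup_left) fun x hx => ?_), fun x hx => by
    rw [f x (Subgroup.mem_sup_left hx), c x hx], fun x hx => ?_⟩
  · obtain ⟨u, u1, v, v1, rfl⟩ := k x hx
    exact mul_mem (Subgroup.mem_sup_left (Subgroup.mem_sup_right u1)) (Subgroup.mem_sup_right v1)
  · obtain ⟨u, u1, v, v1, rfl⟩ := k x hx
    have l := d u u1
    rw [e.map_mul (Subgroup.mem_sup_left (Subgroup.mem_sup_right u1)) (Subgroup.mem_sup_right v1),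
      f u (Subgroup.mem_sup_right u1), g v v1, Perm.one_apply, mul_inv_rev, mul_assoc,
      ← mul_assoc u⁻¹, h.cm _ (hC.le l) v v1, inv_mul_cancel_left]
    exact l

omit [Finite S] in
theorem CP.nml₁ [Finite T₁] [Finite T₂] (h : CP E₁ E₂ D) (h1 : Sat p E₁) (h2 : Sat p E₂) :
    Nml p E₁ D := h.nml_of h2 h1.nml_refl

omit [Finite S] in
theorem cph_of [Finite T₁] [Finite T₂] (h1 : Sat p E₁) (h2 : Sat p E₂) (hc : Cm T₁ T₂)
    (f1 : ∀ P σ, Mor E₁ P σ → ∀ x ∈ P, x ∈ T₂ → σ x = x)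
    (f2 : ∀ P σ, Mor E₂ P σ → ∀ x ∈ P, x ∈ T₁ → σ x = x) : CPH E₁ E₂ :=
  ⟨hc, h1.central_of_fix inf_le_left fun P σ a x b c => f1 P σ a x b c.2,
    h2.central_of_fix inf_le_right fun P σ a x b c => f2 P σ a x b c.1⟩

theorem exists_nml_sup (h1 : Nml p E₁ F) (h2 : Nml p E₂ F) (hc : Cm T₁ T₂) :
    ∃ D : FusionSystem (T₁ ⊔ T₂), Nml p D F := by
  have half : ∀ {T₁ T₂ : Subgroup Ω} {E₁ : FusionSystem T₁}, Nml p E₁ F → F.StronglyClosed T₂ →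
      Cm T₁ T₂ → ∃ D : FusionSystem T₁, Nml p D F ∧ ∀ P σ, Mor D P σ → ∀ x ∈ P, x ∈ T₂ →
        σ x = x := by
    intro T₁ T₂ E₁ h1 h2 hc
    have := finite_of_le h1.le
    have a : E₁.IsNormal (T₁ ⊓ T₂) := h1.satE.normal_of_abelian_sc (sc_of_sub h1.sub
      (sc_inf h1.sc h2) inf_le_left) fun x hx y hy => hc x hx.1 y hy.2
    have b : T₁ = centralizerIn T₁ (T₁ ⊓ T₂) := eq_C_of_le ((hc.mono le_rfl inf_le_right).le_C le_rfl)
    obtain ⟨_, C, c, -, -, d⟩ := h1.satE.exists_cm (h1.satE.fn_fc (sc_fn (normal_sc a))) b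
    obtain ⟨D, e⟩ := h1.satE.exists_ppres
    exact ⟨D, ppres_nml h1.satF h1.satE h1.inv e, fun P σ f x g k => ((d _ _).1 (f.of_sub
      (ppres_le h1.satE h1.satE (invar_refl _) e c (h1.satE.invar_cm a b d)))).fix g ⟨f.le g, k⟩⟩
  have := finite_of_le h1.le
  have := finite_of_le h2.le
  obtain ⟨D₁, a, b⟩ := half h1 h2.sc hc
  obtain ⟨D₂, c, d⟩ := half h2 h1.sc hc.symm
  obtain ⟨D, e⟩ := (cph_of a.satE c.satE hc b d).exists_cp rfl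
  exact ⟨D, e.nml a c⟩

theorem CP.comp [Finite T₁] [Finite T₂] (h : CP E₁ E₂ F) (h1 : Sat p E₁) (h2 : Sat p E₂)
    {C : FusionSystem R} (hC : C.IsComponentIn F p) :
    C.IsComponentIn E₁ p ∨ C.IsComponentIn E₂ p := by
  have hF := h.sat h1 h2
  refine (comp_dich hC hF h1 (h.nml₁ h1 h2).inv).elim Or.inl fun a =>
    (comp_dich hC hF h2 (h.symm.nml₁ h2 h1).inv).elim Or.inr fun b => ?_
  refine absurd (fun x hx => mem_C.2 ⟨sub_le (subnormal_sub hC.1) hx, fun y hy => ?_⟩)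
    (comp_not_le_C hC hF)
  obtain ⟨u, u1, v, v1, rfl⟩ := h.cm.mem_sup.1 (h.sup.le (sub_le (subnormal_sub hC.1) hy))
  rw [mul_assoc, (mem_C.1 ((b _ _ (mor_one C le_rfl)).1 hx)).2 v v1, ← mul_assoc,
    (mem_C.1 ((a _ _ (mor_one C le_rfl)).1 hx)).2 u u1, mul_assoc]

theorem Lay.cph (h : Lay p E F) (hQ : F.IsNormal Q) : CPH (innerFusionSystem Q) E := by
  have := finite_of_le h.nml.le
  have := finite_of_le hQ.1
  have c : Cm Q T := fun a ha b hb => (mem_C.1 ((h.cm hQ (mor_one E le_rfl)).1 hb)).2 a ha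
  refine cph_of (sat_inner (h.nml.satF.pg.to_le hQ.1)) h.nml.satE c (fun P σ a x b d => ?_)
    fun P σ a x b d => (h.cm hQ a).fix b d
  obtain ⟨-, g, e, f⟩ := mor_inner_iff.1 a
  rw [f x b, c g e x d, mul_inv_cancel_right]

theorem Nml.exists_cp (h : Nml p E F) : ∃ (X : FusionSystem (cse p F E))
    (M : FusionSystem (T ⊔ cse p F E)), Nml p X F ∧ (∀ P σ, Mor X P σ → CM F T P σ) ∧
      CP E X M ∧ Nml p M F := by
  obtain ⟨X, a, b⟩ := h.exists_cfe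
  have := finite_of_le h.le
  have := finite_of_le a.le
  obtain ⟨M, c⟩ := (cph_of h.satE a.satE (fun x hx y hy => (mem_C.1 (cse_le hy)).2 x hx)
    (fun P σ d x e f => (h.ce_cse.2 P σ d).fix e f) fun P σ d x e f =>
      (b P σ d).fix e f).exists_cp rfl
  exact ⟨X, M, a, b, c, c.nml h a⟩

theorem comp_le_cse {C : FusionSystem R} (hC : C.IsComponentIn F p) (h : Nml p E F) :
    C.IsComponentIn E p ∨ R ≤ cse p F E :=
  have := finite_of_le (sub_le (subnormal_sub hC.1))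
  (comp_dich hC h.satF h.satE h.inv).imp_right fun a => h.le_cse hC.2.2.1 a

theorem comp_invar_lay {C : FusionSystem R} (hC : C.IsComponentIn F p) (h : Lay p E F) :
    Invar C E := by
  refine subnormal_ind (E := C) (fun S _ F => ∀ (T : Subgroup Ω) (E : FusionSystem T), Lay p E F →
    Invar C E) (fun T E a => ?_) (fun U S _ _ D F a b ih T E c => ?_) hC.1 h.nml.satF.pg T E h
  · have := finite_of_le a.nml.le
    exact (invar_refl C).of_le a.nml.satE (a.comps _ _ ⟨.refl _ _, hC.2⟩) a.nml.inv.sub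
  · obtain ⟨T₀, L, d⟩ := b.satE.exists_lay
    have e := d.nml_of b.satF b.inv
    obtain ⟨X, M, f, g, k, l⟩ := e.exists_cp
    have := finite_of_le e.le
    have := finite_of_le f.le
    have := finite_of_le l.le
    have := finite_of_le c.nml.le
    refine (k.invar_of (ih _ _ d)).of_le c.nml.satE (c.comps _ _ ⟨.step a b.isNormalIn, hC.2⟩)
      (c.le l.satE l.inv fun R' C' m => ?_)
    exact (comp_le_cse m e).elim (fun n => (sub_le (subnormal_sub n.1)).trans le_sup_left)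
      fun n => n.trans le_sup_right

theorem comp_nml_lay {C : FusionSystem R} (hC : C.IsComponentIn F p) (h : Lay p E F) :
    Nml p C E :=
  have := finite_of_le h.nml.le
  have a := comp_invar_lay hC h
  have := finite_of_le a.le
  have b := subnormal_sat hC.1 h.nml.satF
  ppres_nml h.nml.satE b a (qs_perf b.pg hC.2)

theorem cse_le_of_comps (h : Nml p E F) (h1 : F.core ≤ T) (h2 : HasComps p F E) :
    cse p F E ≤ T := by
  obtain ⟨X, a, b⟩ := h.exists_cfe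
  have := finite_of_le a.le
  have c := a.satE.constrained_iff.1 (a.satE.constrained_of_no_comp fun R C d => by
    have e := comp_of_subnormal d a.subnormal h.satF.pg
    exact comp_not_le_C e h.satF ((sub_le (subnormal_sub d.1)).trans (cse_le.trans
      (C_anti S (sub_le (h2 _ _ e))))))
  rw [a.inv.core_eq h.satF a.satE] at c
  exact fun x hx => h1 (c (mem_C.2 ⟨hx, fun y hy => (mem_C.1 (cse_le hx)).2 y (h1 hy.1)⟩)).1

end

section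
variable {Ω₁ Ω₂ : Type*} [Group Ω₁] [Group Ω₂] {S₁ : Subgroup Ω₁} {S₂ : Subgroup Ω₂}
  {F₁ : FusionSystem S₁} {F₂ : FusionSystem S₂} {E : FusionSystem (S₁.prod S₂)}

def PS (F₁ : FusionSystem S₁) (F₂ : FusionSystem S₂) (P : Subgroup (Ω₁ × Ω₂))
    (σ : Perm (Ω₁ × Ω₂)) : Prop :=
  ∃ P₁ σ₁ P₂ σ₂, Mor F₁ P₁ σ₁ ∧ Mor F₂ P₂ σ₂ ∧ ∀ x ∈ P, x.1 ∈ P₁ ∧ x.2 ∈ P₂ ∧ σ x = (σ₁ x.1, σ₂ x.2)

theorem ps_data (F₁ : FusionSystem S₁) (F₂ : FusionSystem S₂) : MorData (S₁.prod S₂) (PS F₁ F₂) where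
  le := fun ⟨_, _, _, _, a, b, c⟩ x hx => ⟨a.le (c x hx).1, b.le (c x hx).2.1⟩
  mem := fun ⟨_, _, _, _, a, b, c⟩ x hx => (c x hx).2.2 ▸ ⟨a.mem (c x hx).1, b.mem (c x hx).2.1⟩
  homOn := fun ⟨_, _, _, _, a, b, c⟩ x hx y hy => by
    rw [(c _ (mul_mem hx hy)).2.2, (c x hx).2.2, (c y hy).2.2, Prod.fst_mul,
      Prod.snd_mul, a.map_mul (c x hx).1 (c y hy).1, b.map_mul (c x hx).2.1 (c y hy).2.1]; rfl
  congr := fun ⟨_, _, _, _, a, b, c⟩ e => ⟨_, _, _, _, a, b, fun x hx => e x hx ▸ c x hx⟩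
  cj := fun {P g} a b => ⟨_, _, _, _, mor_cj F₁ le_rfl b.1, mor_cj F₂ le_rfl b.2,
    fun x hx => ⟨(a hx).1, (a hx).2, rfl⟩⟩
  comp := fun {P Q σ τ} ⟨P₁, σ₁, P₂, σ₂, a, b, c⟩ ⟨Q₁, τ₁, Q₂, τ₂, d, e, f⟩ g => by
    have k : PHom P₁ σ₁ := a.homOn
    have l : PHom P₂ σ₂ := b.homOn
    refine ⟨_, _, _, _, (a.mono (pre_le P₁ σ₁ Q₁)).comp d fun x hx => (k.mem_pre.1 hx).2,
      (b.mono (pre_le P₂ σ₂ Q₂)).comp e fun x hx => (l.mem_pre.1 hx).2, fun x hx => ?_⟩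
    obtain ⟨m, n, q⟩ := c x hx
    obtain ⟨r, s, t⟩ := f _ (g x hx)
    rw [q] at r s t
    exact ⟨k.mem_pre.2 ⟨m, r⟩, l.mem_pre.2 ⟨n, s⟩, by rw [Perm.mul_apply, q, t]; rfl⟩
  inv := fun {P σ} ⟨P₁, σ₁, P₂, σ₂, a, b, c⟩ => ⟨_, _, _, _, a.inv_img, b.inv_img, fun y hy => by
    have h : HomOn P σ := fun x hx y hy => by
      rw [(c _ (mul_mem hx hy)).2.2, (c x hx).2.2, (c y hy).2.2, Prod.fst_mul,
        Prod.snd_mul, a.map_mul (c x hx).1 (c y hy).1, b.map_mul (c x hx).2.1 (c y hy).2.1]; rfl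
    obtain ⟨x, hx, rfl⟩ := h.mem_img'.1 hy
    obtain ⟨m, n, q⟩ := c x hx
    rw [pia, q, pia, pia]
    exact ⟨apply_mem_img_of_mem _ m, apply_mem_img_of_mem _ n, rfl⟩⟩

theorem ps_prod {P₁ σ₁ P₂ σ₂} (a : Mor F₁ P₁ σ₁) (b : Mor F₂ P₂ σ₂) {P : Subgroup (Ω₁ × Ω₂)}
    (h : P ≤ P₁.prod P₂) : PS F₁ F₂ P (prodCongr σ₁ σ₂) :=
  ⟨_, _, _, _, a, b, fun _ hx => ⟨(h hx).1, (h hx).2, rfl⟩⟩

instance finite_prod [Finite S₁] [Finite S₂] : Finite (S₁.prod S₂) :=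
  Finite.of_equiv _ (S₁.prodEquiv S₂).symm.toEquiv

variable [Finite S₁] [Finite S₂]

theorem isProductSystem_iff : IsProductSystem F₁ F₂ E ↔ ∀ P σ, Mor E P σ ↔ PS F₁ F₂ P σ := by
  refine ⟨fun h P σ => ⟨fun a => ?_, fun a => ?_⟩, fun h P φ => ⟨fun a => ?_, fun a => ?_⟩⟩
  · obtain ⟨-, φ₁, b, φ₂, c, d⟩ := (h P _).1 a.toHom_mem
    obtain ⟨σ₁, e, f⟩ := exists_mor b
    obtain ⟨σ₂, g, k⟩ := exists_mor c
    exact ⟨_, _, _, _, e, g, fun x hx => ⟨⟨x, hx, rfl⟩, ⟨x, hx, rfl⟩, by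
      have := d ⟨x, hx⟩ ⟨x, hx, rfl⟩ ⟨x, hx, rfl⟩
      rwa [← f, ← k] at this⟩⟩
  · have b := (ps_data F₁ F₂).homOn a
    have c := (ps_data F₁ F₂).le a
    obtain ⟨P₁, σ₁, P₂, σ₂, d, e, f⟩ := a
    exact ⟨b.toHom, (h P _).2 ⟨c, _, (d.mono (Subgroup.map_le_iff_le_comap.2 fun x hx =>
      by exact (f x hx).1)).toHom_mem, _, (e.mono (Subgroup.map_le_iff_le_comap.2 fun x hx =>
        by exact (f x hx).2.1)).toHom_mem, fun x _ _ => (f x x.2).2.2⟩, fun _ => rfl⟩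
  · obtain ⟨σ, b, c⟩ := exists_mor a
    obtain ⟨P₁, σ₁, P₂, σ₂, d, e, f⟩ := (h _ _).1 b
    exact ⟨b.le, _, (d.mono (Subgroup.map_le_iff_le_comap.2 fun x hx => by exact (f x hx).1)).toHom_mem, _,
      (e.mono (Subgroup.map_le_iff_le_comap.2 fun x hx => by exact (f x hx).2.1)).toHom_mem,
        fun x _ _ => c x ▸ (f x x.2).2.2⟩
  · obtain ⟨-, φ₁, b, φ₂, c, d⟩ := a
    obtain ⟨σ₁, e, f⟩ := exists_mor b
    obtain ⟨σ₂, g, k⟩ := exists_mor c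
    refine ((h P _).2 (ps_prod e g fun x hx => ⟨⟨x, hx, rfl⟩, ⟨x, hx, rfl⟩⟩)).hom_mem fun x => ?_
    rw [d x ⟨x, x.2, rfl⟩ ⟨x, x.2, rfl⟩, ← f, ← k]; rfl

theorem ps_sat {p : ℕ} [Fact p.Prime] (h : ∀ P σ, Mor E P σ ↔ PS F₁ F₂ P σ) (h1 : Sat p F₁)
    (h2 : Sat p F₂) : Sat p E := by
  obtain ⟨E₁, a⟩ := exists_fac F₁ (pHom_hom (MonoidHom.inl Ω₁ Ω₂) S₁) (sc_bot F₁)
    (fun x _ => by simp) rfl
  obtain ⟨E₂, b⟩ := exists_fac F₂ (pHom_hom (MonoidHom.inr Ω₁ Ω₂) S₂) (sc_bot F₂)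
    (fun x _ => by simp) rfl
  have := a.finite
  have := b.finite
  have m1 : ∀ {P : Subgroup Ω₁} {x : Ω₁ × Ω₂}, x ∈ im (MonoidHom.inl Ω₁ Ω₂) P ↔ x.1 ∈ P ∧ x.2 = 1 :=
    fun {P x} => by
      rw [im_hom, Subgroup.mem_map]
      exact ⟨by rintro ⟨y, c, rfl⟩; exact ⟨c, rfl⟩, fun c => ⟨x.1, c.1, Prod.ext rfl c.2.symm⟩⟩
  have m2 : ∀ {P : Subgroup Ω₂} {x : Ω₁ × Ω₂}, x ∈ im (MonoidHom.inr Ω₁ Ω₂) P ↔ x.2 ∈ P ∧ x.1 = 1 :=
    fun {P x} => by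
      rw [im_hom, Subgroup.mem_map]
      exact ⟨by rintro ⟨y, c, rfl⟩; exact ⟨c, rfl⟩, fun c => ⟨x.2, c.1, Prod.ext c.2.symm rfl⟩⟩
  have c : Cm (im (MonoidHom.inl Ω₁ Ω₂) S₁) (im (MonoidHom.inr Ω₁ Ω₂) S₂) := fun x hx y hy =>
    Prod.ext (by simp [(m2.1 hy).2]) (by simp [(m1.1 hx).2])
  have d : im (MonoidHom.inl Ω₁ Ω₂) S₁ ⊓ im (MonoidHom.inr Ω₁ Ω₂) S₂ = ⊥ :=
    eq_bot_iff.2 fun x hx => Prod.ext (m2.1 hx.2).2 (m1.1 hx.1).2
  have e : S₁.prod S₂ = im (MonoidHom.inl Ω₁ Ω₂) S₁ ⊔ im (MonoidHom.inr Ω₁ Ω₂) S₂ :=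
    le_antisymm (fun x hx => c.mem_sup.2 ⟨(x.1, 1), m1.2 ⟨hx.1, rfl⟩, (1, x.2), m2.2 ⟨hx.2, rfl⟩,
      by simp⟩) (sup_le (fun x hx => ⟨(m1.1 hx).1, (m1.1 hx).2 ▸ S₂.one_mem⟩)
        fun x hx => ⟨(m2.1 hx).2 ▸ S₁.one_mem, (m2.1 hx).1⟩)
  refine CP.sat ⟨⟨c, d ▸ central_bot _, d ▸ central_bot _⟩, e, fun P σ => (h P σ).trans
    ⟨fun ⟨P₁, σ₁, P₂, σ₂, f, g, k⟩ => ⟨P₁.prod P₂, prodCongr σ₁ σ₂, fun x hx => ⟨(k x hx).1,
      (k x hx).2.1⟩, ⟨⟨(Subgroup.prod_mono f.le g.le).trans e.le, fun u hu v hv l => ⟨?_, ?_⟩⟩,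
        (ps_data F₁ F₂).homOn (ps_prod f g le_rfl), ?_, ?_⟩, fun x hx => (k x hx).2.2⟩,
    fun ⟨X, τ, f, g, k⟩ => ?_⟩⟩ (a.sat h1) (b.sat h2)
  · simpa [(m2.1 hv).2] using l.1
  · exact (m1.1 hu).2 ▸ P₂.one_mem
  · exact (a.mor_of_rel f bot_le fun x _ => Prod.ext rfl g.map_one).mono
      fun x hx => m1.2 ⟨hx.1.1, (m1.1 hx.2).2⟩
  · exact (b.mor_of_rel g bot_le fun x _ => Prod.ext f.map_one rfl).mono
      fun x hx => m2.2 ⟨hx.1.2, (m2.1 hx.2).2⟩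
  · obtain ⟨σ₁, l, m⟩ := a.lift g.m1
    obtain ⟨σ₂, n, q⟩ := b.lift g.m2
    refine ⟨_, _, _, _, l, n, fun x hx => ?_⟩
    have r := e.ge (g.spl.1 (f hx))
    have s : (x.1, (1 : Ω₂)) * (1, x.2) ∈ X := by simpa using f hx
    have r1 := (m1 (x := (x.1, 1))).2 ⟨r.1, rfl⟩
    have r2 := (m2 (x := (1, x.2))).2 ⟨r.2, rfl⟩
    have t := g.spl.2 _ r1 _ r2 s
    have u := g.spl.right r1 r2 s
    have v := a.mem_pre.2 ⟨r.1, Subgroup.mem_inf.2 ⟨t, r1⟩⟩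
    have w := b.mem_pre.2 ⟨r.2, Subgroup.mem_inf.2 ⟨u, r2⟩⟩
    refine ⟨v, w, ?_⟩
    have := g.hom.map_mul t u
    rw [show τ (x.1, 1) = _ from m _ v, show τ (1, x.2) = _ from q _ w] at this
    rw [k x hx]
    simpa using this

end

section
variable {Ω : Type*} [Group Ω] {T T₁ T₂ : Subgroup Ω} [Finite T₁] [Finite T₂]
  {E₁ : FusionSystem T₁} {E₂ : FusionSystem T₂} {D : FusionSystem T}

theorem cp_of_fac {D₀ : FusionSystem (T₁.prod T₂)} (h : ∀ P σ, Mor D₀ P σ ↔ PS E₁ E₂ P σ)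
    {Z : Subgroup (Ω × Ω)} (hZ : D₀.IsCentral Z) {f : Ω × Ω → Ω} (hf : Fac D₀ D f Z)
    (e1 : ∀ x ∈ T₁, f (x, 1) = x) (e2 : ∀ y ∈ T₂, f (1, y) = y) : CP E₁ E₂ D := by
  have k1 : ∀ {x}, x ∈ T₁ → ((x, 1) : Ω × Ω) ∈ T₁.prod T₂ := fun hx => ⟨hx, one_mem _⟩
  have k2 : ∀ {x}, x ∈ T₂ → ((1, x) : Ω × Ω) ∈ T₁.prod T₂ := fun hx => ⟨one_mem _, hx⟩
  have e : ∀ x ∈ T₁.prod T₂, f x = x.1 * x.2 := fun x hx => by
    have := hf.hom.map_mul (k1 hx.1) (k2 hx.2)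
    rwa [e1 _ hx.1, e2 _ hx.2, Prod.mk_mul_mk, mul_one, one_mul] at this
  have c : Cm T₁ T₂ := fun a ha b hb => by
    have := hf.hom.map_mul (k2 hb) (k1 ha)
    rwa [e1 _ ha, e2 _ hb, Prod.mk_mul_mk, mul_one, one_mul, e _ ⟨ha, hb⟩] at this
  have z1 : ∀ z ∈ T₁ ⊓ T₂, (z, z⁻¹) ∈ Z := fun z hz =>
    (hf.ker _ ⟨hz.1, T₂.inv_mem hz.2⟩).1 (by rw [e _ ⟨hz.1, T₂.inv_mem hz.2⟩]; simp)
  have z2 : ∀ z ∈ T₁ ⊓ T₂, (z⁻¹, z) ∈ Z := fun z hz => by simpa using z1 _ (inv_mem hz)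
  have c0 : CPH E₁ E₂ := ⟨c, isCentral_iff.2 ⟨inf_le_left, fun P σ a => by
    obtain ⟨ρ, b, d, g⟩ := central_ext hZ ((h _ _).2 (ps_prod a (mor_one E₂ bot_le) le_rfl))
    obtain ⟨P₁, σ₁, P₂, σ₂, k, -, l⟩ := (h _ _).1 b
    have m : ∀ x ∈ P, ((x, 1) : Ω × Ω) ∈ P.prod ⊥ := fun x hx => ⟨hx, one_mem _⟩
    exact ⟨σ₁, k.mono (sup_le (fun x hx => (l _ (Subgroup.mem_sup_left (m x hx))).1)
      fun z hz => (l _ (Subgroup.mem_sup_right (z1 z hz))).1), fun x hx => (congrArg Prod.fst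
        ((l _ (Subgroup.mem_sup_left (m x hx))).2.2.symm.trans (d _ (m x hx))) :), fun z hz =>
          congrArg Prod.fst ((l _ (Subgroup.mem_sup_right (z1 z hz))).2.2.symm.trans
            (g _ (z1 z hz)))⟩⟩, isCentral_iff.2 ⟨inf_le_right, fun P σ a => by
    obtain ⟨ρ, b, d, g⟩ := central_ext hZ ((h _ _).2 (ps_prod (mor_one E₁ bot_le) a le_rfl))
    obtain ⟨P₁, σ₁, P₂, σ₂, -, k, l⟩ := (h _ _).1 b
    have m : ∀ x ∈ P, ((1, x) : Ω × Ω) ∈ (⊥ : Subgroup Ω).prod P := fun x hx => ⟨one_mem _, hx⟩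
    exact ⟨σ₂, k.mono (sup_le (fun x hx => (l _ (Subgroup.mem_sup_left (m x hx))).2.1)
      fun z hz => (l _ (Subgroup.mem_sup_right (z2 z hz))).2.1), fun x hx => (congrArg Prod.snd
        ((l _ (Subgroup.mem_sup_left (m x hx))).2.2.symm.trans (d _ (m x hx))) :), fun z hz =>
          congrArg Prod.snd ((l _ (Subgroup.mem_sup_right (z2 z hz))).2.2.symm.trans
            (g _ (z2 z hz)))⟩⟩⟩
  have s : T = T₁ ⊔ T₂ := le_antisymm (fun y hy => by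
    obtain ⟨x, hx, rfl⟩ := hf.exists_eq hy
    exact e x hx ▸ mul_mem (Subgroup.mem_sup_left hx.1) (Subgroup.mem_sup_right hx.2))
      (sup_le (fun x hx => e1 x hx ▸ hf.mem (k1 hx)) fun x hx => e2 x hx ▸ hf.mem (k2 hx))
  refine ⟨c0, s, fun P σ => ⟨fun a => ?_, fun ⟨X, τ, a, b, d⟩ => ?_⟩⟩
  · obtain ⟨ρ, b, d⟩ := hf.lift a
    obtain ⟨P₁, σ₁, P₂, σ₂, g, k, l⟩ := (h _ _).1 b
    obtain ⟨X, τ, m, n, q, r⟩ := c0.glue g k
    have t : ∀ y ∈ P, y ∈ X ∧ σ y = τ y := fun y hy => by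
      obtain ⟨x, hx, rfl⟩ := hf.exists_pre a.le hy
      obtain ⟨u, v, w⟩ := l x hx
      have u' := m (Subgroup.mem_sup_left u)
      have v' := m (Subgroup.mem_sup_right v)
      rw [d x hx, e _ (b.mem hx), e _ (b.le hx), w, n.hom.map_mul u' v', q _ u, r _ v]
      exact ⟨mul_mem u' v', rfl⟩
    exact ⟨X, τ, fun y hy => (t y hy).1, n, fun y hy => (t y hy).2⟩
  · have g : ∀ x ∈ pre (T₁.prod T₂) f P, x ∈ (X ⊓ T₁).prod (X ⊓ T₂) := fun x hx => by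
      obtain ⟨u, v⟩ := hf.mem_pre.1 hx
      rw [e x u] at v
      exact ⟨⟨b.spl.2 _ u.1 _ u.2 (a v), u.1⟩, b.spl.right u.1 u.2 (a v), u.2⟩
    refine (hf.iff _ _).2 ⟨(a.trans b.spl.1).trans s.ge, _, (h _ _).2 (ps_prod b.m1 b.m2 g),
      fun x hx => ?_⟩
    rw [d _ (hf.mem_pre.1 hx).2, e _ (pre_le _ _ _ hx), e _ ⟨b.m1.mem (g x hx).1,
      b.m2.mem (g x hx).2⟩, b.hom.map_mul (g x hx).1.1 (g x hx).2.1]
    rfl

theorem cp_iff : IsCentralProductOf E₁ E₂ D ↔ CP E₁ E₂ D := by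
  refine ⟨fun ⟨D₀, a, Z, θ, b, _, _, c, d, e⟩ => ?_, fun h => ?_⟩
  · have f := central_iff_le.2 b
    exact cp_of_fac (isProductSystem_iff.1 a) f ((isFactorSystem_iff (normal_sc
      (central_normal f))).1 e) (fun x hx => (ext_apply θ _).trans (c x ⟨hx, one_mem _⟩))
        fun x hx => (ext_apply θ _).trans (d x ⟨one_mem _, hx⟩)
  have := h.finite
  let θ : ↥(T₁.prod T₂) →* Ω := MonoidHom.mk' (fun x => x.1.1 * x.1.2) fun x y => by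
    simp only [Subgroup.coe_mul, Prod.fst_mul, Prod.snd_mul]
    rw [mul_assoc, mul_assoc, ← mul_assoc y.1.1, h.cm _ y.2.1 _ x.2.2, mul_assoc]
  have e : ∀ x ∈ T₁.prod T₂, ext θ x = x.1 * x.2 := fun x hx => ext_apply θ hx
  have a : ∀ P σ, Mor (ps_data E₁ E₂).toFS P σ ↔ PS E₁ E₂ P σ := fun _ _ => MorData.mor_iff _
  have z : ∀ x ∈ θ.ker.map (T₁.prod T₂).subtype, x ∈ (T₁ ⊓ T₂).prod (T₁ ⊓ T₂) ∧ x.1 * x.2 = 1 :=
    fun x hx => by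
      obtain ⟨u, v⟩ := mem_ker_map.1 hx
      rw [e x u] at v
      exact ⟨⟨⟨u.1, eq_inv_of_mul_eq_one_left v ▸ T₂.inv_mem u.2⟩, eq_inv_of_mul_eq_one_right v ▸
        T₁.inv_mem u.1, u.2⟩, v⟩
  have b : (ps_data E₁ E₂).toFS.IsCentral (θ.ker.map (T₁.prod T₂).subtype) :=
    isCentral_iff.2 ⟨Subgroup.map_subtype_le _, fun P σ c => by
      obtain ⟨P₁, σ₁, P₂, σ₂, d, f, g⟩ := (a _ _).1 c
      obtain ⟨τ₁, k, l, m⟩ := central_ext h.c1 d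
      obtain ⟨τ₂, n, q, r⟩ := central_ext h.c2 f
      exact ⟨_, (a _ _).2 (ps_prod k n (sup_le (fun x hx => ⟨Subgroup.mem_sup_left (g x hx).1,
        Subgroup.mem_sup_left (g x hx).2.1⟩) fun x hx => ⟨Subgroup.mem_sup_right (z x hx).1.1,
          Subgroup.mem_sup_right (z x hx).1.2⟩)), fun x hx => (g x hx).2.2 ▸ Prod.ext
            (l _ (g x hx).1) (q _ (g x hx).2.1), fun x hx => Prod.ext (m _ (z x hx).1.1)
              (r _ (z x hx).1.2)⟩⟩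
  have e1 : ∀ x ∈ T₁, ext θ (x, 1) = x := fun x hx => by rw [e _ ⟨hx, one_mem _⟩, mul_one]
  have e2 : ∀ x ∈ T₂, ext θ (1, x) = x := fun x hx => by rw [e _ ⟨one_mem _, hx⟩, one_mul]
  obtain ⟨D', c⟩ := exists_fac _ (pHom_ext θ) (normal_sc (central_normal b))
    (fun x hx => ⟨fun d => mem_ker_map.2 ⟨hx, d⟩, fun d => (mem_ker_map.1 d).2⟩)
    (le_antisymm (im_le_iff.2 fun x hx => e x hx ▸ T.mul_mem (h.le₁ hx.1) (h.le₂ hx.2))
      (h.sup.le.trans (sup_le (fun x hx => e1 x hx ▸ mem_im_of_mem _ ⟨hx, one_mem _⟩)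
        fun x hx => e2 x hx ▸ mem_im_of_mem _ ⟨one_mem _, hx⟩)))
  have d := cp_of_fac a b c e1 e2
  obtain rfl : D = D' := fs_ext fun _ _ => ⟨h.unique d, d.unique h⟩
  exact ⟨_, isProductSystem_iff.2 a, _, θ, le_center b, eq_bot_iff.2 fun x hx => Prod.ext (by
    simpa [show x.2 = 1 from hx.2.2] using (z x hx.1).2) hx.2.2, eq_bot_iff.2 fun x hx => Prod.ext
      hx.2.1 (by simpa [show x.1 = 1 from hx.2.1] using (z x hx.1).2), fun x _ => mul_one x,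
        fun x _ => one_mul x, (isFactorSystem_iff c.sc).2 c⟩

end

end Cfsg.Agent.H9
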