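import Cfsg.Agent.H9.Pull

/-! Components and the layer of a saturated fusion system. -/

set_option autoImplicit false
set_option linter.unusedSectionVars false

namespace Cfsg.Agent.H9

open Cfsg Cfsg.FusionSystem Equiv
open scoped commutatorElement

universe u

section
variable {Ω Ω' : Type*} [Group Ω] [Group Ω'] {S : Subgroup Ω} [Finite S] {S' : Subgroup Ω'}
  {p : ℕ} [hp : Fact p.Prime] {F : FusionSystem S} {F' : FusionSystem S'} {f : Ω → Ω'}
  {P Q R T U V W X Y Z U' : Subgroup Ω} {σ τ χ α β γ ρ δ : Perm Ω} {T' Q' : Subgroup Ω'}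
  {σ' τ' : Perm Ω'}

omit hp in
theorem fac_perm {D : FusionSystem T} (h1 : HomOn S ρ) (h2 : ∀ x, ρ x ∈ T ↔ x ∈ S)
    (h3 : ∀ P σ, Mor F P σ → Mor D (img ρ P) (ρ * σ * ρ⁻¹))
    (h4 : ∀ P σ, Mor D P σ → Mor F (img ρ⁻¹ P) (ρ⁻¹ * σ * ρ)) : Fac F D ρ ⊥ := by
  have hh : PHom S ρ := h1
  have h5 : HomOn T ρ⁻¹ := h1.inv fun y hy => (h2 _).1 (by rwa [pai])
  have h6 : img ρ S = T := le_antisymm (img_le_iff.2 fun x => (h2 x).2) fun y hy =>
    h1.mem_img.2 ((h2 _).1 (by rwa [pai]))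
  have hp : ∀ P, P ≤ T → pre S ρ P = img ρ⁻¹ P := fun P hP => by
    ext x
    rw [hh.mem_pre, (h5.mono hP).mem_img, inv_inv]
    exact ⟨fun h => h.2, fun hx => ⟨(h2 x).1 (hP hx), hx⟩⟩
  refine ⟨hh, sc_bot F, fun x hx => ?_, h6, fun P τ => ⟨fun hτ => ⟨hτ.le, ρ⁻¹ * τ * ρ,
    hp P hτ.le ▸ h4 _ _ hτ, fun x _ => by simp⟩, ?_⟩⟩
  · rw [Subgroup.mem_bot, ← h1.map_one, ρ.injective.eq_iff, h1.map_one]
  · rintro ⟨hP, σ, a, e⟩
    have b := h3 _ _ a
    rw [← im_coe, hh.im_pre (hP.trans h6.ge)] at b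
    exact b.congr fun y hy => by
      rw [Perm.mul_apply, Perm.mul_apply, ← e _ (hh.mem_pre.2 ⟨(h2 _).1 (by
        rw [pai]; exact hP hy), by rwa [pai]⟩), pai]

omit hp in
theorem Fac.conj {D : FusionSystem T} (h : Fac F D ρ ⊥) (hσ : Mor F P σ) :
    Mor D (img ρ P) (ρ * σ * ρ⁻¹) :=
  h.mor_of_rel hσ bot_le fun x _ => by simp only [Perm.mul_apply, pia]

theorem Sat.invar_cm (h : Sat p F) (hQ : F.IsNormal Q) {E : FusionSystem T}
    (hT : T = centralizerIn S Q) (hE : ∀ P σ, Mor E P σ ↔ CM F Q P σ) : Invar E F := by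
  subst hT
  refine ⟨isSubsystemOf_iff.2 fun P σ a => ((hE _ _).1 a).mor, normal_sc_C hQ,
    fun P σ α a b => ?_, fun P σ a b => ?_⟩
  · obtain ⟨ρ, c, d, e⟩ := normal_ext hQ b.mor
    have k := ((hE _ _).1 a).conj c (a.le.trans le_sup_left) le_sup_right fun x hx =>
      Subgroup.mem_sup_left (a.mem hx)
    rw [((c.mono le_sup_right).iso_self e).img_eq] at k
    exact ((hE _ _).2 k).congr_conj b.homOn a.le (fun _ => a.mem) d
  · obtain ⟨τ, c, d, e⟩ := normal_ext hQ b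
    have i := (c.mono le_sup_right).iso_self e
    obtain ⟨ρ, k, l, m⟩ := h.ext_top (normal_sc hQ) i
    refine ⟨ρ, (k.mor.mono le_sup_right).iso_self m, (hE _ _).2 ⟨a, ρ⁻¹ * τ, c.comp k.symm.mor
      (c.homOn.sup_maps (fun x hx => Subgroup.mem_sup_right (sc_mem (normal_sc_C hQ) c
        (Subgroup.mem_sup_left hx) (a hx))) fun x hx => Subgroup.mem_sup_left (e x hx)),
      fun x hx => by simp only [Perm.mul_apply, d x hx], fun x hx => by
        rw [Perm.mul_apply, ← l x hx, pia]⟩⟩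

theorem Sat.exists_cq (h : Sat p F) (hQ : F.IsNormal Q) :
    ∃ E : FusionSystem (centralizerIn S Q), Sat p E ∧ Invar E F ∧
      ∀ P σ, Mor E P σ ↔ CM F Q P σ := by
  obtain ⟨_, E, a, -, -, b⟩ := h.exists_cm (h.fn_fc (sc_fn (normal_sc hQ))) rfl
  exact ⟨E, a, h.invar_cm hQ rfl b, b⟩

theorem Invar.exists_nml {E : FusionSystem T} (hi : Invar E F) (h : Sat p F) (hE : Sat p E) :
    ∃ D : FusionSystem T, Nml p D F ∧ D.IsSubsystemOf E :=
  have := finite_of_le hi.le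
  let ⟨D, a⟩ := hE.exists_ppres
  ⟨D, ppres_nml h hE hi a, ppres_sub a⟩

omit [Finite S] hp in
theorem sub_trans {E : FusionSystem T} {D : FusionSystem U} (h : D.IsSubsystemOf E)
    (h' : E.IsSubsystemOf F) : D.IsSubsystemOf F := fun P => (h P).trans (h' P)

omit [Finite S] hp in
theorem sub_refl (F : FusionSystem S) : F.IsSubsystemOf F := fun _ => le_rfl

omit [Finite S] hp in
theorem sub_antisymm {E : FusionSystem S} (h : E.IsSubsystemOf F) (h' : F.IsSubsystemOf E) :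
    E = F := fs_ext' fun P => (h P).antisymm (h' P)

theorem sub_wedge {C : FusionSystem R} {D : FusionSystem T} (hC : C.IsSubnormalIn F p)
    (h : Sat p F) (hD : Sat p D) (hi : Invar D F) :
    ∃ (U : Subgroup Ω) (N : FusionSystem U), U = T ⊓ R ∧ Nml p N C ∧ N.IsSubnormalIn D p := by
  refine subnormal_ind (fun _ _ F => Sat p F → ∀ (T : Subgroup Ω) (D : FusionSystem T), Sat p D →
    Invar D F → ∃ (U : Subgroup Ω) (N : FusionSystem U), U = T ⊓ R ∧ Nml p N C ∧
      N.IsSubnormalIn D p) (fun h T D hD hi => ?_) (fun U S _ _ E F a b ih h T D hD hi => ?_)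
        hC h.pg h T D hD hi
  · have := finite_of_le hi.le
    obtain ⟨N, a, b, -⟩ := exists_wedge h hD h hi (invar_refl C)
    exact ⟨_, N, rfl, a, b.subnormal⟩
  · have := finite_of_le hi.le
    obtain ⟨W, -, c, d, -⟩ := exists_wedge h hD b.satE hi b.inv
    obtain ⟨V, N, e, g, k⟩ := ih b.satE _ W d.satE d.inv
    exact ⟨V, N, by rw [e, inf_assoc, inf_eq_right.2 (sub_le (subnormal_sub a))], g,
      .step k c.isNormalIn⟩

theorem contain {C : FusionSystem R} {D : FusionSystem T} (hC : C.IsSubnormalIn F p)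
    (hp : C.IsPPrimeResidual p C) (h : Sat p F) (hD : Sat p D) (hi : Invar D F) (hR : R ≤ T) :
    C.IsSubnormalIn D p := by
  obtain ⟨U, N, a, b, c⟩ := sub_wedge hC h hD hi
  obtain rfl : U = R := by rw [a, inf_eq_right.2 hR]
  have := finite_of_le (hR.trans hi.le)
  exact sub_antisymm b.sub (ppres_le b.satF b.satF (invar_refl C) hp b.satE b.inv) ▸ c

theorem Fac.image (h : Fac F F' f Z) (hF : Sat p F) {N : FusionSystem U} (hi : Invar N F) :
    ∃ N' : FusionSystem (im f U), Fac N N' f (Z ⊓ U) ∧ Invar N' F' := by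
  have := finite_of_le hi.le
  have := h.finite
  obtain ⟨N', a⟩ := exists_fac N (h.hom.mono hi.le) (sc_inf_of_sub hi.sub h.sc) (fun x hx => by
    rw [h.ker x (hi.le hx)]; exact ⟨fun b => ⟨b, hx⟩, fun b => b.1⟩) rfl
  have := a.finite
  have hl : ∀ {α'}, Iso F' (im f U) (im f U) α' → ∃ α, Iso F U U α ∧
      ∀ x ∈ U, α' (f x) = f (α x) := fun b => by
    obtain ⟨α, c, d⟩ := h.lift b.mor
    exact ⟨α, sc_iso hi.sc (c.mono (le_pre_im f hi.le)), fun x hx => d x (le_pre_im f hi.le hx)⟩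
  refine ⟨N', a, isSubsystemOf_iff.2 fun P σ b => ?_, h.sc_im hF hi.sc, fun P σ' α' b c => ?_,
    fun P σ' b c => ?_⟩
  · obtain ⟨τ, c, d⟩ := a.lift b
    exact a.im_pre b.le ▸ h.mor_of_rel' hF (c.of_sub hi.sub) d
  · obtain ⟨σ, d, e⟩ := a.lift b
    obtain ⟨α, g, k⟩ := hl c
    have i := (g.mor.mono d.le).iso
    have := a.mor_of_rel (hi.conj _ _ _ d g) (σ' := α' * σ' * α'⁻¹) (fun x hx =>
      i.homOn.mem_img.2 (a.le_pre _ ((g.inf h.sc).inv_maps ⟨hx.2, hx.1⟩).symm)) fun x hx => by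
        simp only [Perm.mul_apply, rel_inv (fun _ => i.inv_maps) (fun x hx => k x (d.le hx)) x hx,
          e _ (i.inv_maps hx), k _ (d.mem (i.inv_maps hx))]
    rwa [← h.img_im i.mor fun x hx => k x (d.le hx), a.im_pre b.le] at this
  · obtain ⟨σ, d, e⟩ := h.lift c
    have l : pre U f P ≤ pre S f P := fun x hx =>
      h.mem_pre.2 ⟨hi.le (a.mem_pre.1 hx).1, (a.mem_pre.1 hx).2⟩
    obtain ⟨α, g, k⟩ := hi.frat _ _ (pre_le _ _ _) (d.mono l)
    obtain ⟨α', m⟩ := h.exists_rel g.mor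
    refine ⟨α', h.iso_of_rel' hF g m, a.im_pre b ▸ a.mor_of_rel k (a.le_pre _) fun x hx => ?_⟩
    rw [Perm.mul_apply, e x (l hx), rel_inv (fun _ => g.inv_maps) m _
      (hi.mem_T (d.mono l) (pre_le _ _ _) hx), Perm.mul_apply]

theorem hyp_le_of_sup (h : Sat p F) (hT : F.StronglyClosed T) (hZ : F.IsCentral Z)
    (e : S ≤ T ⊔ Z) : F.hyperfocalSubgroup p ≤ T := by
  obtain ⟨G, _, S', _, E, f, a⟩ := exists_quot F hT
  have b := a.central_im hZ
  have c : E.hyperfocalSubgroup p = ⊥ := eq_bot_iff.2 (hyp_le_iff.2 fun P σ c _ x hx => by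
    have : x ∈ im f Z := by
      rw [← a.im_sup_T hZ.1, sup_comm]
      exact im_mono _ e (a.range.symm ▸ c.le hx)
    simp [central_fix b c.mor hx this])
  rwa [a.hyp_eq h, a.im_eq_bot_iff (hyp_le F)] at c

theorem qs_ne (hq : F.Quasisimple p) : ¬ S ≤ F.center := fun e => by
  have hZ := normal_sc (central_normal (center_central F))
  obtain ⟨E, a⟩ := exists_fac_quot F hZ
  exact (hq.2.2 E ((isFactorSystem_iff hZ).2 a)).2.1 (by rw [← a.range, a.im_eq_bot_iff le_rfl]; exact e)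

theorem qs_dich (hS : IsPGroup p S) (hq : F.Quasisimple p) {N : FusionSystem U} (hN : Sat p N)
    (hi : Invar N F) : U ≤ F.center ∨ F.IsSubsystemOf N := by
  have h : Sat p F := ⟨hS, hq.1⟩
  have := finite_of_le hi.le
  have hZ := center_central F
  obtain ⟨E, a⟩ := exists_fac_quot F (normal_sc (central_normal hZ))
  have := a.finite
  obtain ⟨N', b, c⟩ := a.image h hi
  obtain ⟨D, d, e⟩ := c.exists_nml (a.sat h) (b.sat hN)
  rcases (quasisimple_simple hS hq a).2.2 _ D d.isNormalIn with g | ⟨g, k⟩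
  · exact Or.inl ((a.im_eq_bot_iff hi.le).1 g)
  have l : S ≤ U ⊔ F.center := by rw [← a.pre_im hi.le, g, a.pre_top]
  obtain rfl : U = S := le_antisymm hi.le (hq.2.1.ge.trans (hyp_le_of_sup h hi.sc hZ l))
  rw [inf_eq_left.2 hZ.1] at b
  refine Or.inr (isSubsystemOf_iff.2 fun P σ => ?_)
  obtain ⟨N'', m⟩ := exists_fac N a.hom b.sc b.ker a.range
  refine a.le_of_central h hZ hi.sub m fun P σ n => ?_
  obtain ⟨-, q⟩ := (b.iff _ _).1 (((mor_iff_of_hom_eq (k P) σ).2 n).of_sub e)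
  exact (m.iff _ _).2 ⟨n.le, q⟩

theorem qs_perf (hS : IsPGroup p S) (hq : F.Quasisimple p) : F.IsPPrimeResidual p F := by
  have h : Sat p F := ⟨hS, hq.1⟩
  obtain ⟨D, a⟩ := h.exists_ppres
  have b := h.nml_ppres a
  exact sub_antisymm b.sub ((qs_dich hS hq b.satE b.inv).resolve_left (qs_ne hq)) ▸ a

theorem qs_not_inner (hq : F.Quasisimple p) [Finite Q] (hQ : IsPGroup p Q) :
    ¬ F.IsSubsystemOf (innerFusionSystem Q) := fun e => qs_ne hq (by
  have := hyp_mono (p := p) e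
  rw [hyp_inner hQ, hq.2.1] at this
  exact this.trans bot_le)

theorem qs_core (hS : IsPGroup p S) (hq : F.Quasisimple p) : F.core ≤ F.center :=
  have h : Sat p F := ⟨hS, hq.1⟩
  have := finite_of_le (core_le F)
  have a := h.nml_inner (core_normal F)
  (qs_dich hS hq a.satE a.inv).resolve_right (qs_not_inner hq a.satE.pg)

theorem qs_not_constrained (hS : IsPGroup p S) (hq : F.Quasisimple p) : ¬ F.IsConstrained p :=
  fun e => qs_ne hq fun x hx => qs_core hS hq ((Sat.constrained_iff ⟨hS, hq.1⟩).1 e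
    (mem_C.2 ⟨hx, fun _ hy => (central_comm (center_central F) (qs_core hS hq hy) hx).symm⟩))

theorem Sat.constrained_of_fix (h : Sat p F) (hQ : F.IsNormal Q)
    (hf : ∀ R κ, Q ≤ R → Iso F R R κ → PP p R κ → (∀ x ∈ Q, κ x = x) → ∀ x ∈ R, κ x = x) :
    F.IsConstrained p := by
  have hC := normal_sc_C hQ
  refine h.constrained_iff.2 ((C_anti _ (le_core hQ)).trans (le_core (h.normal_of_sc_le hC
    fun R _ b c => le_of_N_le' h.pg b.1 hC.1 (fun g hg x => sc_conj hC (b.1 hg)) fun g d e => ?_)))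
  have k := normal_le_cr h.pg hQ b c
  exact mem_of_inK_opm b c d.1 (inK_opm_of_pp (iso_cj F b.1 ⟨d.1, e⟩) (fun κ => ∀ x ∈ Q, κ x = x)
    (fun _ _ => rfl) (fun σ τ _ _ l m x hx => by rw [Perm.mul_apply, m x hx, l x hx])
    (fun σ _ l x hx => by rw [Perm.inv_eq_iff_eq, l x hx])
    (fun σ τ l _ m x hx => by
      rw [Perm.mul_apply, Perm.mul_apply, m _ (sc_mem (normal_sc hQ) l.symm.mor (k hx) hx), pai])
    (fun σ τ l m x hx => by rw [m x (k hx), l x hx]) (fun σ l m n => hf R σ k l n m)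
    (mem_C'.1 d).2)

theorem Sat.constrained_of_hyp (h : Sat p F) (hQ : F.IsNormal Q)
    (hc : centralizerIn (F.hyperfocalSubgroup p) Q ≤ Q) : F.IsConstrained p :=
  h.constrained_of_fix hQ fun R κ a b c d => by
    have := finite_of_le b.le
    obtain ⟨k, e⟩ := pe_of_two (h.pg.to_le b.le) b.homOn a d fun x hx => hc (mem_C'.2
      ⟨mem_hyp b c hx, fun y hy => by
        have k := sc_conj (normal_sc hQ) (b.le hx) hy
        have := b.mor.map_conj hx (a hy)
        rw [d _ k, d y hy] at this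
        calc _ = x⁻¹ * (κ x * y * (κ x)⁻¹) * x := by group
          _ = y := by rw [← this]; group⟩)
    exact c.eq_of_pelt e fun _ => b.maps

theorem comp_of_subnormal {E : FusionSystem T} {C : FusionSystem U} (hC : C.IsComponentIn E p)
    (hE : E.IsSubnormalIn F p) (hS : IsPGroup p S) : C.IsComponentIn F p :=
  ⟨subnormal_trans hC.1 hE hS, hC.2⟩

end

theorem Sat.constrained_of_no_comp {Ω : Type u} [Group Ω] {S : Subgroup Ω} [Finite S] {p : ℕ}
    [Fact p.Prime] {F : FusionSystem S} (h : Sat p F)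
    (hn : ∀ (T : Subgroup Ω) (C : FusionSystem T), ¬ C.IsComponentIn F p) : F.IsConstrained p := by
  refine fs_ind (M := fun {Ω} _ {S} _ F => Sat p F → (∀ (T : Subgroup Ω) (C : FusionSystem T),
    ¬ C.IsComponentIn F p) → F.IsConstrained p) (fun {Ω} _ {S} _ F _ ih h hn => ?_) F h hn
  have key : ∀ {T : Subgroup Ω} {D : FusionSystem T}, Sat p D → Invar D F →
      ¬ F.IsSubsystemOf D → centralizerIn T (F.core ⊓ T) ≤ F.core ⊓ T := fun {T D} a b c => by
    have := finite_of_le b.le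
    obtain ⟨E, d, e⟩ := b.exists_nml h a
    have := d.satE.constrained_iff.1 (ih E d.sub (fun f => c (sub_trans f e)) d.satE
      fun U C g => hn U C (comp_of_subnormal g d.subnormal h.pg))
    rwa [d.inv.core_eq h d.satE] at this
  by_contra hc
  have hQ := core_normal F
  obtain ⟨E, a, b, c⟩ := h.exists_cq hQ
  have d : F.IsSubsystemOf E := by_contra fun d => hc (h.constrained_iff.2 fun x hx =>
    (key a b d ⟨hx, (C_anti _ inf_le_left hx).2⟩).1)
  have hZ : F.IsCentral F.core := central_of_cm hQ.1 fun P σ e => (c _ _).1 (e.of_sub d)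
  have eZ : F.core = F.center := le_antisymm (le_center hZ) (center_le_core F)
  obtain ⟨D, e, g⟩ := h.exists_opp
  have k : F.hyperfocalSubgroup p = S := le_antisymm (hyp_le F) (by_contra fun k => hc
    (h.constrained_of_hyp (normal_inf_sc hQ e.sc) (key e.satE e.inv fun l => k (sub_le l))))
  obtain ⟨G, _, S', _, F', f, l⟩ := exists_quot F (normal_sc hQ)
  refine hn S F ⟨.refl _ _, quasisimple_of_fac h k (eZ ▸ l) ⟨(l.sat h).sat, fun m => hc
    (h.constrained_iff.2 ((C_le _ _).trans ((l.im_eq_bot_iff le_rfl).1 (l.range.trans m)))),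
      fun T' D' m => ?_⟩⟩
  have m' := (isNormalIn_iff (l.isPGroup h.pg)).1 m
  obtain ⟨N, n1, n2, n3⟩ := l.pull h hZ m'
  by_cases q : F.IsSubsystemOf N
  · refine Or.inr ⟨le_antisymm m'.le fun y hy => ?_, fun P => (m'.sub P).antisymm
      (hom_subset_iff.2 fun σ r => ?_)⟩
    · obtain ⟨x, hx, rfl⟩ := l.exists_eq hy
      exact (l.mem_pre.1 (sub_le q hx)).2
    · obtain ⟨τ, s, t⟩ := l.lift r
      exact l.im_pre r.le ▸ n3 _ _ _ (s.of_sub q) t
  · refine Or.inl ?_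
    rw [← l.im_pre m'.le, l.im_eq_bot_iff (pre_le _ _ _)]
    exact fun x hx => (key n1 n2 q (mem_C.2 ⟨hx, fun y hy =>
      (central_comm hZ hy.1 (pre_le _ _ _ hx)).symm⟩)).1

section
variable {Ω : Type*} [Group Ω] {S : Subgroup Ω} [Finite S]
  {p : ℕ} [hp : Fact p.Prime] {F : FusionSystem S}
  {P Q R T U V W X Y Z U' : Subgroup Ω} {σ τ χ α β γ ρ δ : Perm Ω} {E : FusionSystem T}

omit hp in
theorem sc_comm (hT : F.StronglyClosed T) (hQ : F.StronglyClosed Q) {t q : Ω} (ht : t ∈ T)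
    (hq : q ∈ Q) : t⁻¹ * (q * t * q⁻¹) ∈ T ⊓ Q :=
  ⟨T.mul_mem (T.inv_mem ht) (sc_conj hT (hQ.1 hq) ht), by
    simpa [mul_assoc] using Q.mul_mem (sc_conj hQ (S.inv_mem (hT.1 ht)) hq) (Q.inv_mem hq)⟩

theorem Nml.ext_fix (h : Nml p E F) (hQ : F.StronglyClosed Q) (hZ : T ⊓ Q ≤ E.center)
    (hU : TC F T U) (hα : Iso E U U α) (hp : PP p U α) :
    ∃ γ, Mor F (U ⊔ Q) γ ∧ (∀ x ∈ U, γ x = α x) ∧ ∀ x ∈ Q, γ x = x := by
  have := finite_of_le h.le
  have hF := h.satF
  have hT := h.sc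
  have hc := central_mono (center_central E) hZ
  have hs := sc_inf hT hQ
  have h1 : ∀ {U}, U ≤ T → TC F T U → T ⊓ Q ≤ U := fun a b x hx =>
    b.C_le (mem_C.2 ⟨hx.1, fun y hy => central_comm hc hx (a hy)⟩)
  have h2 : ∀ {U}, U ≤ T → TC F T U → Q ≤ normalizerIn S U := fun a b x hx =>
    mem_N_of_comm b.1 (h1 a b) (hQ.1 hx) fun r hr => sc_comm hT hQ (a hr) hx
  obtain ⟨U', ρ, r1, r2, hn⟩ := hF.exists_fn hU.1
  suffices k : ∀ α, Iso E U' U' α → PP p U' α →
      ∃ γ, Mor F (U' ⊔ Q) γ ∧ (∀ x ∈ U', γ x = α x) ∧ ∀ x ∈ Q, γ x = x by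
    obtain ⟨γ, a, b, c⟩ := k _ (h.inv.strong_iso r2 hα.le hα) (hp.conj fun _ => r2.inv_maps)
    have d := r1.mono (sup_le (le_N hU.1) (h2 hα.le hU))
    have e := sc_iso hQ (d.mono le_sup_right)
    have b' : ∀ x ∈ U, γ (ρ x) = ρ (α x) := fun x hx => by
      simp only [b _ (r2.maps hx), Perm.mul_apply, pia]
    have g := d.comp a (d.homOn.sup_maps (fun x hx => Subgroup.mem_sup_left (r2.maps hx))
      fun x hx => Subgroup.mem_sup_right (e.maps hx))
    refine ⟨ρ⁻¹ * (γ * ρ), g.comp d.inv_img (g.homOn.sup_maps (fun x hx => ?_) fun x hx => ?_),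
      fun x hx => by simp only [Perm.mul_apply, b' x hx, pia],
      fun x hx => by simp only [Perm.mul_apply, c _ (e.maps hx), pia]⟩
    · rw [Perm.mul_apply, b' x hx]
      exact apply_mem_img_of_mem ρ (Subgroup.mem_sup_left (hα.maps hx))
    · rw [Perm.mul_apply, c _ (e.maps hx)]
      exact apply_mem_img_of_mem ρ (Subgroup.mem_sup_right hx)
  have hU := hU.iso r2
  clear hα hp r1 r2
  intro α hα hp
  have hfc := hF.fn_fc hn
  obtain ⟨β, b1, b2, b3, b4⟩ := h.ext_pp hfc hU hα hp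
  have hV := fn_VC hT hU hα.le hn
  have := finite_of_le hV.1
  have h3 := h1 hα.le hU
  have h4 : ∀ x ∈ T ⊓ Q, β x = x := fun x hx => by
    rw [b3 x (h3 hx), central_fix hc hα.mor (h3 hx) hx]
  have h5 := (h2 hα.le hU).trans (N_le_N_VC hn.1)
  have b5 : ∀ x ∈ VC S U', x⁻¹ * β x ∈ T := fun x hx => hα.le (b4 x hx)
  obtain ⟨τ, c1, c2⟩ := hF.extend (hF.fn_fc hV) b1 h5 fun q hq => by
    have i := iso_cj F hV.1 (h5 hq)
    have j := i.symm.trans (b1.conj i)
    have m : ∀ x ∈ VC S U' ⊓ T, x⁻¹ * cj q x ∈ T ⊓ Q := fun x hx => sc_comm hT hQ hx.2 hq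
    obtain ⟨g, g1, g2⟩ := (hF.fn_syl hV).opm_cj le_rfl (inK_opm_three (hF.pg.to_le hV.1)
      ((inK_autGroup hV.1).2 j) (T ⊓ Q) T
      (fun τ a x => sc_mem hs ((inK_autGroup hV.1).1 a).mor)
      (fun τ a x => sc_mem hT ((inK_autGroup hV.1).1 a).mor) (fun x a b => by
        have c := (sc_iso hs (mor_cj F hs.1 (hQ.1 hq))).inv_maps b
        rw [Perm.mul_apply, Perm.mul_apply, Perm.mul_apply, Perm.inv_eq_iff_eq.2 (h4 _ c).symm, pai,
          h4 x b])
      (fun x a b => mod_mul (fun _ => (i.inf hT).inv_maps) (mod_inv (fun _ => (i.inf hT).inv_maps) m)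
        (mod_conj (b1.inf hT).homOn le_rfl (fun _ => (i.inf hT).maps)
          (fun _ => sc_mem hs (b1.inf hT).mor) m fun _ => (b1.inf hT).inv_maps) x ⟨a, b⟩)
      fun x a => by
        simpa only [mul_assoc] using mod_mul (fun _ => (i.conj b1.symm).maps) (mod_conj i.homOn le_rfl
          (fun _ => b1.inv_maps) (fun _ => sc_mem hT i.mor) (mod_inv (fun _ => b1.inv_maps) b5)
            fun _ => i.inv_maps) b5 x a)
    refine ⟨g * q, S.mul_mem g1.1 (hQ.1 hq), fun x hx => ?_⟩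
    have := g2 _ (i.maps (b1.maps hx))
    simp only [Perm.mul_apply, pia] at this
    rw [← cj_apply, this, cj_apply]; group
  have c3 := c1.iso_self (c1.homOn.sup_maps (fun x hx => Subgroup.mem_sup_left
    (c2 x hx ▸ b1.maps hx)) fun x hx => Subgroup.mem_sup_right
      (sc_mem hQ c1 (Subgroup.mem_sup_right hx) hx))
  obtain ⟨n, d1, d2⟩ := c3.exists_pp le_sup_left b1 b2 c2
  have d3 : ∀ x ∈ U', (τ ^ n) x = α x := fun x hx => by
    rw [d2 x (Subgroup.mem_sup_left hx), b3 x hx]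
  have d4 := h.inv.mod_T hF h.satE hfc (c3.pow n) d1 le_sup_left (sup_le (VC_le_N hn.1)
    (h2 hα.le hU)) (hα.congr d3) fun c hc => by
      rw [d2 c (Subgroup.mem_sup_right hc)]; exact b5 c (Subgroup.mem_sup_right hc)
  refine ⟨τ ^ n, (c3.pow n).mor.mono (sup_le_sup_right le_sup_left _), d3, fun x hx => ?_⟩
  have x1 := Subgroup.mem_sup_right (S := VC S U') hx
  have x2 : x⁻¹ * (τ ^ n) x ∈ T ⊓ Q :=
    ⟨d4 x x1, Q.mul_mem (Q.inv_mem hx) (sc_mem hQ (c3.pow n).mor x1 hx)⟩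
  exact d1.fix_of hF.pg (c3.pow n).mor x1 (Subgroup.mem_sup_right x2.2) (by
    rw [d2 _ (Subgroup.mem_sup_left (h3 x2)), h4 _ x2])

theorem Nml.nkMor (h : Nml p E F) (hQ : F.StronglyClosed Q) (hZ : T ⊓ Q ≤ E.center)
    (hσ : Mor E P σ) : NKMor F (autInducedBy T Q) P σ := by
  have := finite_of_le h.le
  have hT := h.le.trans (sc_le_N hQ)
  obtain ⟨N, -, a⟩ := h.satF.exists_nkR (h.satF.fn_fc (sc_fn hQ)) hT
  obtain ⟨D, b⟩ := exists_inter E N le_sup_left
  refine (a _ _).1 ((b _ _).1 (h.satE.alperin_fcr D (fun U α c d _ e => (b _ _).2 ⟨e.mor,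
    h.satE.mor_of_pp le_sup_left c (fun α e g => ?_) e⟩) hσ)).2
  obtain ⟨γ, k, l, m⟩ := h.ext_fix hQ hZ ((h.inv.centric_iff_tc c.1).1 d) e g
  exact (a _ _).2 ⟨nK_autInducedBy hT ▸ c.1.trans le_sup_left, γ, k, l, (inK_one _).congr m⟩

theorem Nml.cm_of_comm (h : Nml p E F) (hQ : F.StronglyClosed Q) (hZ : T ⊓ Q ≤ E.center)
    (hc : T ≤ centralizerIn S Q) (hσ : Mor E P σ) : CM F Q P σ := by
  obtain ⟨-, τ, a, b, c⟩ := h.nkMor hQ hZ hσ
  obtain ⟨t, d, e⟩ := inK_autInducedBy.1 c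
  exact ⟨hσ.le.trans hc, τ, a, b, fun x hx => by rw [e x hx, (mem_C'.1 (hc d.1)).2 x hx]⟩

theorem Nml.cm_of_hyp (h : Nml p E F) (hQ : F.StronglyClosed Q) (hZ : T ⊓ Q ≤ E.center)
    {C : FusionSystem R} (hC : Sat p C) (h1 : C.IsSubsystemOf E) (h2 : C.hyperfocalSubgroup p = R)
    (hσ : Mor C P σ) : CM F Q P σ := by
  have := finite_of_le h.le
  have := finite_of_le (sub_le h1)
  have := finite_of_le hQ.1
  have hT := h.le.trans (sc_le_N hQ)
  have hc := h.satF.fn_fc (sc_fn hQ)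
  obtain ⟨N, -, a⟩ := h.satF.exists_nkR hc hT
  have := finite_of_le (sup_le h.le (C_le S Q))
  obtain ⟨D, b⟩ := exists_cm F hQ.1 rfl
  have key : ∀ P σ, Iso N P P σ → PP p P σ →
      ∃ τ, Mor F (P ⊔ Q) τ ∧ (∀ x ∈ P, τ x = σ x) ∧ ∀ x ∈ Q, τ x = x := fun P σ c d => by
    obtain ⟨-, τ, e, g, k⟩ := (a _ _).1 c.mor
    have i := e.iso_self (e.homOn.sup_maps (fun x hx => Subgroup.mem_sup_left
      (g x hx ▸ c.maps hx)) fun x hx => Subgroup.mem_sup_right (k.maps hx))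
    obtain ⟨n, l, m⟩ := i.exists_pp le_sup_left ⟨((a _ _).1 c.mor).mor, c.mem⟩ d g
    obtain ⟨j, q⟩ := (k.pow n).exists_pow (isPGroup_autInducedBy h.satE.pg Q)
    exact ⟨_, (i.pow n).mor, m, (l.mono le_sup_right).eq_of_pelt q fun _ => (k.pow n).maps⟩
  have i : PPI p D N := ⟨isSubsystemOf_iff.2 fun P σ c => by
      obtain ⟨d, τ, e, g, k⟩ := (b _ _).1 c
      exact (a _ _).2 ⟨d.trans (C_le_nK _), τ, e, g, (inK_one _).congr k⟩,
    hyp_le_iff.2 fun P σ c d x hx => by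
      obtain ⟨τ, e, g, k⟩ := key P σ c d
      have x1 := Subgroup.mem_sup_left (T := Q) hx
      refine mem_C'.2 ⟨e.le (mul_mem (inv_mem x1) (Subgroup.mem_sup_left (c.maps hx))),
        fun y hy => ?_⟩
      have := e.map_conj x1 (Subgroup.mem_sup_right hy)
      rw [k _ (sc_conj hQ (e.le x1) hy), k y hy, g x hx] at this
      calc _ = x⁻¹ * (σ x * y * (σ x)⁻¹) * x := by group
        _ = y := by rw [← this]; group,
    fun P σ c d e => (b _ _).2 ⟨c, key P σ d e⟩⟩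
  have j : C.IsSubsystemOf N := isSubsystemOf_iff.2 fun P σ c =>
    (a _ _).2 (h.nkMor hQ hZ (c.of_sub h1))
  exact (b _ _).1 (hσ.of_sub (i.sub_of hC j (h2.ge.trans ((hyp_mono j).trans i.hyp))))

variable {C : FusionSystem R} {D : FusionSystem U}

theorem Nml.le_cse (h : Nml p E F) [Finite R] (h2 : C.hyperfocalSubgroup p = R)
    (hc : ∀ P σ, Mor C P σ → CM F T P σ) : R ≤ cse p F E :=
  h2.ge.trans (hyp_le_iff.2 fun _ _ a _ _ => h.mem_cse_of_cm (hc _ _ a.mor))

theorem comp_contain (hC : C.IsComponentIn F p) (h : Sat p F) (hE : Sat p E) (hi : Invar E F)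
    (hR : R ≤ T) : C.IsComponentIn E p :=
  have a := sub_le (subnormal_sub hC.1)
  have := finite_of_le a
  ⟨contain hC.1 (qs_perf (h.pg.to_le a) hC.2) h hE hi hR, hC.2⟩

theorem comp_cm (hC : C.IsComponentIn F p) (h : Sat p F) (hE : Sat p E) (hi : Invar E F)
    (hR : T ⊓ R ≤ C.center) (hσ : Mor C P σ) : CM F T P σ := by
  have := finite_of_le (sub_le (subnormal_sub hC.1))
  refine subnormal_ind (fun _ _ F => Sat p F → ∀ (T : Subgroup Ω) (E : FusionSystem T), Sat p E →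
    Invar E F → T ⊓ R ≤ C.center → ∀ P σ, Mor C P σ → CM F T P σ) (fun h T E hE hi hR P σ a => ?_)
    (fun U S _ _ D F a b ih h T E hE hi hR P σ hσ => ?_) hC.1 h.pg h T E hE hi hR P σ hσ
  · exact cm_of_central (central_mono (center_central C) ((le_inf le_rfl hi.le).trans hR)) a
  have a' := subnormal_sub a
  have hC : C.IsComponentIn F p := ⟨.step a b.isNormalIn, hC.2⟩
  obtain ⟨W, c, -, d, -⟩ := exists_wedge h hE b.satE hi b.inv
  have e := c.le_cse hC.2.2.1 fun P σ e => (ih b.satE _ W d.satE d.inv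
    ((inf_le_inf_right _ inf_le_left).trans hR) P σ e).of_sub b.sub
  obtain ⟨X, g, k⟩ := c.exists_cfe
  have := finite_of_le g.le
  obtain ⟨Y, l, -, m, -⟩ := exists_wedge h b.satE g.satE b.inv g.inv
  have := finite_of_le l.le
  exact l.cm_of_hyp hi.sc (le_center (l.satE.central_of_fix inf_le_left fun P σ n x q r =>
    (k _ _ (n.of_sub m.sub)).fix q ⟨r.2, r.1.1⟩)) (subnormal_sat a b.satE) (subnormal_sub
      (comp_contain hC h l.satE l.inv (le_inf (sub_le a') e)).1) hC.2.2.1 hσ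

theorem comp_dich (hC : C.IsComponentIn F p) (h : Sat p F) (hE : Sat p E) (hi : Invar E F) :
    C.IsComponentIn E p ∨ ∀ P σ, Mor C P σ → CM F T P σ := by
  have a := sub_le (subnormal_sub hC.1)
  have := finite_of_le a
  obtain ⟨U, N, rfl, b, -⟩ := sub_wedge hC.1 h hE hi
  rcases qs_dich (h.pg.to_le a) hC.2 b.satE b.inv with c | c
  · exact Or.inr fun _ _ => comp_cm hC h hE hi c
  · exact Or.inl (comp_contain hC h hE hi ((sub_le c).trans inf_le_left))

theorem comp_cm_normal (hC : C.IsComponentIn F p) (h : Sat p F) (hQ : F.IsNormal Q)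
    (hσ : Mor C P σ) : CM F Q P σ :=
  have := finite_of_le (sub_le (subnormal_sub hC.1))
  have := finite_of_le hQ.1
  have a := h.nml_inner hQ
  (comp_dich hC h a.satE a.inv).resolve_left (fun b => qs_not_inner hC.2 a.satE.pg
    (subnormal_sub b.1)) _ _ hσ

theorem comp_not_le_C (hC : C.IsComponentIn F p) (h : Sat p F) : ¬ R ≤ centralizerIn S R := by
  have a := sub_le (subnormal_sub hC.1)
  have := finite_of_le a
  have b := subnormal_sat hC.1 h
  exact fun e => qs_not_constrained b.pg hC.2 ⟨b.sat, R, b.normal_of_abelian_sc (sc_top C)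
    fun x hx y hy => (mem_C.1 (e hy)).2 x hx, centric_top C⟩

/-- The components of `F` lie in `E`. -/
def HasComps (p : ℕ) (F : FusionSystem S) (E : FusionSystem T) : Prop :=
  ∀ (U : Subgroup Ω) (C : FusionSystem U), C.IsComponentIn F p → C.IsSubsystemOf E

structure Lay (p : ℕ) (E : FusionSystem T) (F : FusionSystem S) : Prop where
  nml : Nml p E F
  comps : HasComps p F E
  min : ∀ (R : Subgroup Ω) (D : FusionSystem R), Nml p D F → HasComps p F D → E.IsSubsystemOf D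

theorem lay_iff (hS : IsPGroup p S) : E.IsLayerOf F p ↔ Lay p E F :=
  ⟨fun a => ⟨(isNormalIn_iff hS).1 a.1, a.2.1, fun R D b => a.2.2 R D b.isNormalIn⟩,
    fun a => ⟨a.nml.isNormalIn, a.comps, fun R D b => a.min R D ((isNormalIn_iff hS).1 b)⟩⟩

theorem Lay.le (h : Lay p E F) (hD : Sat p D) (hi : Invar D F)
    (hc : ∀ (R : Subgroup Ω) (C : FusionSystem R), C.IsComponentIn F p → R ≤ U) :
    E.IsSubsystemOf D :=
  let ⟨N, a, b⟩ := hi.exists_nml h.nml.satF hD
  sub_trans (h.min _ N a fun R C c =>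
    subnormal_sub (comp_contain c a.satF a.satE a.inv (hc R C c)).1) b

theorem Sat.exists_lay (h : Sat p F) : ∃ (T : Subgroup Ω) (E : FusionSystem T), Lay p E F := by
  have w : WH p F {e | Nml p e.2 F ∧ HasComps p F e.2}
      (S ⊓ ⨅ e ∈ {e : Σ T : Subgroup Ω, FusionSystem T | Nml p e.2 F ∧ HasComps p F e.2}, e.1) :=
    ⟨h, fun _ a => a.1.satE, fun _ a => a.1.inv, fun x => by simp [Subgroup.mem_iInf]⟩
  obtain ⟨D, a, b, -⟩ := w.exists_wedge
  exact ⟨_, D, a, fun R C c => subnormal_sub (comp_contain c h a.satE a.inv fun x hx =>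
    (w.mem x).2 ⟨sub_le (subnormal_sub c.1) hx, fun e d => sub_le (d.2 R C c) hx⟩).1,
      fun R E c d => (b ⟨R, E⟩ ⟨c, d⟩).inv.sub⟩

theorem Lay.cm (h : Lay p E F) (hQ : F.IsNormal Q) (hσ : Mor E P σ) : CM F Q P σ :=
  let ⟨_, a, b, c⟩ := h.nml.satF.exists_cq hQ
  (c _ _).1 (hσ.of_sub (h.le a b fun _ C d =>
    (comp_cm_normal d h.nml.satF hQ (mor_one C le_rfl)).1))

theorem Lay.perf (h : Lay p E F) : E.IsPPrimeResidual p E := by
  have := finite_of_le h.nml.le
  obtain ⟨D, a⟩ := h.nml.satE.exists_ppres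
  have b := ppres_nml h.nml.satF h.nml.satE h.nml.inv a
  exact sub_antisymm (ppres_sub a) (h.le b.satE b.inv fun R C c => sub_le (h.comps R C c)) ▸ a

theorem Lay.unique (h : Lay p E F) (h' : Lay p D F) : E.IsSubsystemOf D :=
  h.min _ D h'.nml h'.comps

theorem Lay.eq_bot (h : Lay p E F) (hc : F.IsConstrained p) : T = ⊥ :=
  have a := h.nml.satF.nml_inner (normal_bot F)
  eq_bot_iff.2 (sub_le (h.min _ _ a fun R C c =>
    have := finite_of_le (sub_le (subnormal_sub c.1))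
    (qs_not_constrained (subnormal_sat c.1 a.satF).pg c.2
      (subnormal_constrained c.1 a.satF.pg hc)).elim))

theorem Lay.conj {L : FusionSystem U} (h : Lay p L E) (hi : Invar E F) (hβ : Iso F T T β)
    (hσ : Mor L P σ) : Mor L (img β P) (β * σ * β⁻¹) := by
  have := finite_of_le hi.le
  have := finite_of_le h.nml.le
  have a := hi.fac hβ.symm
  obtain ⟨L', b⟩ := a.exists_sub L h.nml.le
  obtain ⟨g, c, -, d⟩ := b.symm
  have := b.finite
  have e := hσ.of_sub (h.min _ L' (a.nml b h.nml) fun R C e => by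
    have k := sub_le (subnormal_sub e.1)
    have := finite_of_le k
    obtain ⟨C', l⟩ := (hi.fac hβ).exists_sub C k
    have m := h.comps _ _ (Fac.component e h.nml.satF.pg (hi.fac hβ) l)
    refine isSubsystemOf_iff.2 fun P σ n => ?_
    have := b.conj ((l.conj n).of_sub m)
    rw [(hβ.homOn.mono (n.le.trans k)).img_inv_img] at this
    convert this using 1; group)
  obtain ⟨τ, k, l⟩ := b.lift e
  have m : img β P ≤ pre U (β⁻¹ : Perm Ω) P := img_le_iff.2 fun x hx => by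
    obtain ⟨y, hy, rfl⟩ := b.exists_eq (e.le hx)
    exact b.mem_pre.2 ⟨by rwa [pai], by rwa [pia]⟩
  exact (k.mono m).congr fun x hx => by
    rw [Perm.mul_apply, Perm.mul_apply, l x (m hx), pai]

theorem Lay.nml_of {L : FusionSystem U} (h : Lay p L E) (hF : Sat p F) (hi : Invar E F) :
    Nml p L F :=
  have := finite_of_le hi.le
  ppres_nml hF h.nml.satE (h.nml.inv.trans' hi fun _ _ _ a b => h.conj hi b a) h.perf

theorem Lay.mono {L : FusionSystem U} {L' : FusionSystem V} (h : Lay p L E) (h' : Lay p L' F)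
    (hE : Nml p E F) : L.IsSubsystemOf L' := by
  have := finite_of_le hE.le
  obtain ⟨W, -, a, b, -⟩ := exists_wedge hE.satF hE.satE h'.nml.satE hE.inv h'.nml.inv
  exact sub_trans (h.le a.satE a.inv fun R C c => le_inf (sub_le (subnormal_sub c.1))
    (sub_le (h'.comps R C (comp_of_subnormal c hE.subnormal hE.satF.pg)))) b.inv.sub

end

end Cfsg.Agent.H9
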