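import Mathlib
import Cfsg.Agent.H9.ZJ
import Cfsg.Agent.H8.Subnormal
import Cfsg.Agent.H8.Frat
import Cfsg.Prelude.Def_DStar

/-! The characteristic subgroup `D*` and two replacement results. -/

namespace Cfsg.Agent.H9

open Subgroup Cfsg.Agent.H2
open scoped commutatorElement

variable {G : Type*} [Group G]

/-- class at most two -/
def Cl2 (X : Subgroup G) : Prop := ⁅⁅X, X⁆, X⁆ = ⊥

theorem Cl2.mono {X Y : Subgroup G} (h : Cl2 Y) (hXY : X ≤ Y) : Cl2 X :=
  le_bot_iff.mp (le_trans (commutator_mono (commutator_mono hXY hXY) hXY) (le_of_eq h))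

theorem cl2_sup [Finite G] {A B : Subgroup G} (hA : IsMulCommutative A) (hB : IsMulCommutative B)
    (h1 : A ≤ normalizer (B : Set G)) (h2 : B ≤ normalizer (A : Set G)) : Cl2 (A ⊔ B) := by
  have h3 : ⁅A ⊔ B, A ⊔ B⁆ ≤ A ⊓ B := H8.commutator_sup_sup_le hA hB
    (H8.commutator_le_inf_of_norm h2 h1)
    (H8.le_normalizer_inf (sup_le le_normalizer h2) (sup_le h1 le_normalizer))
  rw [Cl2, commutator_eq_bot_iff_le_centralizer]
  refine h3.trans ?_
  rw [le_centralizer_iff]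
  exact sup_le (le_centralizer_iff.mp (inf_le_left.trans (isMulCommutative_iff_le.mp hA)))
    (le_centralizer_iff.mp (inf_le_right.trans (isMulCommutative_iff_le.mp hB)))

theorem Cl2.map {G' : Type*} [Group G'] {X : Subgroup G} (h : Cl2 X) (f : G →* G') :
    Cl2 (X.map f) := by
  rw [Cl2, ← map_commutator, ← map_commutator, h, Subgroup.map_bot]

theorem Cl2.of_map {G' : Type*} [Group G'] {X : Subgroup G} {f : G →* G'}
    (hf : Function.Injective f) (h : Cl2 (X.map f)) : Cl2 X := by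
  rw [Cl2, ← map_commutator, ← map_commutator] at h
  exact (map_eq_bot_iff_of_injective _ hf).mp h

/-- the family defining `D*(S)` -/
structure DF (S A : Subgroup G) : Prop where
  le : A ≤ S
  comm : IsMulCommutative A
  cen : ∀ x ∈ S, Cl2 (A ⊔ zpowers x) → x ∈ centralizer (A : Set G)

/-- `D*(S)` -/
def DD (S : Subgroup G) : Subgroup G := sSup {A | DF S A}

section
variable {S T A B : Subgroup G}

theorem DF.le_DD (h : DF S A) : A ≤ DD S := le_sSup h

theorem DD_le_iff : DD S ≤ B ↔ ∀ A, DF S A → A ≤ B := sSup_le_iff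

theorem DD_le (S : Subgroup G) : DD S ≤ S := DD_le_iff.mpr fun _ h => h.le

theorem DF.mono (h : DF S A) (h1 : A ≤ T) (h2 : T ≤ S) : DF T A :=
  ⟨h1, h.comm, fun x hx hc => h.cen x (h2 hx) hc⟩

theorem DF.le_cen (h : DF S A) (hB : B ≤ S) (hc : Cl2 (A ⊔ B)) : B ≤ centralizer (A : Set G) :=
  fun x hx => h.cen x (hB hx) (hc.mono (sup_le_sup_left (zpowers_le.mpr hx) _))

theorem DF.map {G' : Type*} [Group G'] {f : G →* G'} (hf : Function.Injective f) (h : DF S A) :
    DF (S.map f) (A.map f) := by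
  refine ⟨map_mono h.le, ((ae_zero.mpr h.comm).map f).1, ?_⟩
  rintro _ ⟨x, hx, rfl⟩ hc
  rw [← MonoidHom.map_zpowers, ← Subgroup.map_sup] at hc
  have := h.cen x hx (hc.of_map hf)
  rintro _ ⟨a, ha, rfl⟩
  rw [← map_mul, ← map_mul, this a ha]

theorem DF.of_map {G' : Type*} [Group G'] {f : G →* G'} (hf : Function.Injective f) (hA : A ≤ S)
    (h : DF (S.map f) (A.map f)) : DF S A := by
  refine ⟨hA, (AE.of_map (e := 0) (f := f) (by rw [f.ker_eq_bot_iff.mpr hf, inf_bot_eq])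
    (ae_zero.mpr h.comm)).1, fun x hx hc => ?_⟩
  have h1 := hc.map f
  rw [Subgroup.map_sup, MonoidHom.map_zpowers] at h1
  have := h.cen _ (mem_map_of_mem f hx) h1
  intro a ha
  apply hf
  rw [map_mul, map_mul]
  exact this _ (mem_map_of_mem f ha)

theorem map_DD {G' : Type*} [Group G'] {f : G →* G'} (hf : Function.Injective f) :
    (DD S).map f = DD (S.map f) := by
  apply le_antisymm
  · rw [map_le_iff_le_comap, DD_le_iff]
    intro A hA
    rw [← map_le_iff_le_comap]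
    exact (hA.map hf).le_DD
  · rw [DD_le_iff]
    intro A hA
    have e : (A.comap f ⊓ S).map f = A := by
      apply le_antisymm (le_trans (map_mono inf_le_left) (map_comap_le _ _))
      intro a ha
      obtain ⟨x, hx, rfl⟩ := hA.le ha
      exact ⟨x, ⟨ha, hx⟩, rfl⟩
    rw [← e] at hA ⊢
    exact map_mono (DF.of_map hf inf_le_right hA).le_DD

theorem DF.cj (h : DF S A) (g : G) : DF (H2.cj g S) (H2.cj g A) := h.map (MulAut.conj g).injective

theorem DF.cj_of_mem (h : DF S A) {g : G} (hg : g ∈ normalizer (S : Set G)) : DF S (H2.cj g A) := by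
  have := h.cj g
  rwa [H2.cj_eq_of_mem_normalizer hg] at this

theorem normalizer_le_DD (S : Subgroup G) : normalizer (S : Set G) ≤ normalizer (DD S : Set G) := by
  intro g hg
  rw [H2.mem_normalizer_iff_cj] at hg ⊢
  have := map_DD (S := S) (f := (MulAut.conj g).toMonoidHom) (MulAut.conj g).injective
  change H2.cj g _ = DD (H2.cj g S) at this
  rw [this, hg]

theorem df_top : DF ⊤ A ↔ A ∈ dStarFamily G :=
  ⟨fun h => ⟨h.comm, fun x hx a ha => h.cen x trivial hx a ha⟩,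
    fun h => ⟨le_top, h.1, fun x _ hx a ha => h.2 x hx a ha⟩⟩

theorem DD_top : DD (⊤ : Subgroup G) = dStar G := by
  rw [DD, dStar]
  congr 1
  ext A
  exact df_top

theorem DD_eq (S : Subgroup G) : DD S = dStarOf S := by
  rw [dStarOf, ← DD_top, map_DD S.subtype_injective, ← MonoidHom.range_eq_map, range_subtype]

theorem df_Zc (S : Subgroup G) : DF S (Zc S) :=
  ⟨Zc_le _, isMulCommutative_Zc _, fun x hx _ _ ha => (ha.2 x hx).symm⟩

variable [Finite G] {p : ℕ} [hp : Fact p.Prime]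

theorem DD_comm (hS : IsPGroup p S) : IsMulCommutative (DD S) := by
  induction hn : Nat.card S using Nat.strong_induction_on generalizing S with
  | _ n ih =>
  have key : ∀ A, DF S A → ∃ N, A ≤ N ∧ N ≤ S ∧ IsMulCommutative N ∧
      S ≤ normalizer (N : Set G) := by
    intro A hA
    by_cases e : A = S
    · exact ⟨S, hA.le, le_rfl, e ▸ hA.comm, le_normalizer⟩
    have h1 := (H8.sn_of_nilpotent hS.isNilpotent hA.le).ncl_lt e
    exact ⟨DD (H8.ncl A S), (hA.mono (H8.le_ncl _ _) h1.le).le_DD, (DD_le _).trans h1.le,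
      ih _ (hn ▸ card_lt_of_lt h1) (hS.to_le h1.le) rfl,
      (H8.le_normalizer_ncl _ _).trans (normalizer_le_DD _)⟩
  rw [isMulCommutative_iff_le, DD_le_iff]
  intro A hA
  rw [le_centralizer_iff, DD_le_iff]
  intro B hB
  obtain ⟨N, h1, h2, h3, h4⟩ := key A hA
  obtain ⟨M, k1, k2, k3, k4⟩ := key B hB
  exact hA.le_cen hB.le ((cl2_sup h3 k3 (h2.trans k4) (k2.trans h4)).mono (sup_le_sup h1 k1))

theorem df_DD (hS : IsPGroup p S) : DF S (DD S) := by
  refine ⟨DD_le S, DD_comm hS, fun x hx hc => ?_⟩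
  rw [← zpowers_le, le_centralizer_iff, DD_le_iff]
  intro A hA
  rw [← le_centralizer_iff, zpowers_le]
  exact hA.cen x hx (hc.mono (sup_le_sup_right hA.le_DD _))

theorem le_cen_DD (hS : IsPGroup p S) (hA : A ≤ S) (hc : IsMulCommutative A)
    (hn : DD S ≤ normalizer (A : Set G)) : A ≤ centralizer (DD S : Set G) :=
  (df_DD hS).le_cen hA (cl2_sup (DD_comm hS) hc hn
    (hA.trans (le_normalizer.trans (normalizer_le_DD S))))

theorem DD_le_ma (hS : IsPGroup p S) (hA : MA 0 S A) : DD S ≤ A := by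
  by_contra hcon
  have hb : ⁅DD S, DD S⁆ = ⊥ := isMulCommutative_iff_comm.mp (DD_comm hS)
  obtain ⟨B, hB, -, h3, h4⟩ := exists_ma_normalized (p := p) (e := 0)
    (fun _ => ⟨DD_comm hS, rfl⟩) hS le_rfl
    le_normalizer (DD_le S) (le_normalizer.trans (normalizer_le_DD S))
    ⟨A, hA, hb.le.trans bot_le, hcon⟩
  exact h3 (hB.le_of_centralizer (DD_le S) (ae_zero.mpr (DD_comm hS))
    (le_centralizer_iff.mp (le_cen_DD hS hB.le hB.ae.1 h4)))

theorem DD_le_ZJ (hS : IsPGroup p S) : DD S ≤ Zc (JJ 0 S) := by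
  rw [← II_zero, le_II_iff]
  exact fun A hA => DD_le_ma hS hA

/-- **the `D*`-theorem** -/
theorem dstar_normal {H : Subgroup G} (hS : SylIn p S H) (hst : Stab p H S)
    (hc : H ⊓ centralizer (H8.Op p H : Set G) ≤ H8.Op p H) :
    H ≤ normalizer (DD S : Set G) := by
  set D := DD S with hD
  have hDF : DF S D := df_DD hS.pgrp
  have hO : H8.Op p H ≤ S := hS.normal_le (H8.Op_isPGroup p H) (H8.Op_le p H)
    (hS.le.trans (H8.le_normalizer_Op p H))
  have hDO : D ≤ H8.Op p H := hst.le_Op hS hc hDF.le hDF.comm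
    (hO.trans (le_normalizer.trans (normalizer_le_DD S)))
  set W := H8.ncl D H with hW
  have hWO : W ≤ DD (H8.Op p H) := H8.ncl_le (hDF.mono hDO hO).le_DD
    ((H8.le_normalizer_Op p H).trans (normalizer_le_DD _))
  have hWc : IsMulCommutative W := isMulCommutative_of_le hWO (DD_comm (H8.Op_isPGroup p H))
  have hWS : W ≤ S := hWO.trans ((DD_le _).trans hO)
  have hHW : H ≤ normalizer (W : Set G) := H8.le_normalizer_ncl _ _
  have hDW : D ≤ W := H8.le_ncl _ _
  have hWF : DF S W := by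
    refine ⟨hWS, hWc, fun x hx hcl => ?_⟩
    have h1 := hst W hWS hHW x hx (le_bot_iff.mp (le_trans (commutator_mono
      (commutator_mono le_sup_left le_sup_right) le_sup_right) (le_of_eq hcl)))
    set R := H8.ncl (zpowers x) H with hR
    have hRH : R ≤ H := H8.ncl_le_of_le (zpowers_le.mpr (hS.le hx))
    have hHR : H ≤ normalizer (R : Set G) := H8.le_normalizer_ncl _ _
    set L := R ⊔ W with hL
    have hLH : L ≤ H := sup_le hRH (hWS.trans hS.le)
    have hHL : H ≤ normalizer (L : Set G) := H8.le_normalizer_sup hHR hHW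
    have hT := hS.inf_normal' hHL hLH
    have hTR := hS.inf_normal' hHR hRH
    have hDT : DF (S ⊓ L) D := hDF.mono (le_inf hDF.le (hDW.trans le_sup_right)) inf_le_left
    have hLD : L ≤ normalizer (D : Set G) := by
      refine sup_le ?_ (hWS.trans (le_normalizer.trans (normalizer_le_DD S)))
      exact le_normalizer_of_resOf hS hRH hHR
        (H8.le_normalizer_of_le_centralizer (h1.trans (centralizer_le hDW)))
        (le_normalizer.trans (normalizer_le_DD S))
    rw [← zpowers_le, le_centralizer_iff, hW, H8.ncl_le_iff]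
    intro g hg
    obtain ⟨l, hl, hn⟩ := hT.frattini' (hHL hg)
    have e1 : H2.cj g D = H2.cj (g * l⁻¹) D := by
      rw [H2.cj_mul, H2.cj_eq_of_mem_normalizer (hLD (inv_mem hl))]
    have h2 := hDT.cj_of_mem hn
    rw [← e1] at h2
    change H2.cj g D ≤ _
    rw [← le_centralizer_iff, zpowers_le]
    refine h2.cen x ⟨hx, (le_sup_left : R ≤ L) (H8.le_ncl _ _ (mem_zpowers x))⟩
      (hcl.mono (sup_le_sup_right ?_ _))
    exact H8.cj_le_of_mem hDW (hHW hg)
  have : W = D := le_antisymm hWF.le_DD hDW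
  rw [← this]
  exact hHW

omit hp in
/-- the counting step of a replacement argument -/
theorem card_le_of_repl {E E' X : Subgroup G} (h1 : E' ≤ normalizer (E : Set G))
    (h2 : X ≤ normalizer (E : Set G)) (hc : Nat.card E' = Nat.card E) (h3 : E' ≤ X ⊔ E)
    (h4 : E' ⊓ E ≤ X) : Nat.card E ≤ Nat.card X := by
  have k1 := L.card_sup_mul_card_inf h1
  have k2 := L.card_sup_mul_card_inf h2
  have k3 : Nat.card ↥(E' ⊔ E) ≤ Nat.card ↥(X ⊔ E) := card_le_of_le (sup_le h3 le_sup_right)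
  have k4 : Nat.card ↥(E' ⊓ E) ≤ Nat.card ↥(X ⊓ E) := card_le_of_le (le_inf h4 inf_le_right)
  have k5 := Nat.mul_le_mul k3 k4
  rw [k1, k2, hc] at k5
  exact Nat.le_of_mul_le_mul_right k5 Nat.card_pos

/-- weak replacement for metabelian `p`-groups -/
theorem weak_repl (hS : IsPGroup p S) (hm : IsMulCommutative ↥⁅S, S⁆) {N A₀ : Subgroup G}
    (hN : S ≤ normalizer (N : Set G)) (h₀ : MA 0 S A₀) (h₀N : A₀ ≤ N) :
    ∃ B, MA 0 S B ∧ S ≤ normalizer (B : Set G) ∧ B ≤ N := by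
  obtain ⟨A, ⟨hA, hAN⟩, hmin⟩ := Set.exists_min_image {A | MA 0 S A ∧ A ≤ N}
    (fun A => Nat.card ↥(A ⊔ ⁅S, S⁆)) (Set.toFinite _) ⟨A₀, h₀, h₀N⟩
  refine ⟨A, hA, ?_, hAN⟩
  by_contra hnot
  obtain ⟨b, hb, hbN, hbA⟩ := exists_repl_elt hS le_rfl le_normalizer hA.le hnot
  have hAN' : A ≤ S ⊓ normalizer (A : Set G) := le_inf hA.le le_normalizer
  have n1 : H2.cj b⁻¹ A ≤ normalizer (A : Set G) := by
    refine le_trans ?_ (inf_le_right (a := S))
    rw [← H2.cj_eq_of_mem_normalizer (inv_mem hbN)]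
    exact H2.cj_mono _ hAN'
  have hA' : MA 0 S (H2.cj b⁻¹ A) := hA.cj_of_mem (le_normalizer (inv_mem hb))
  set X := (A ⊓ H2.cj b⁻¹ A) ⊔ ((A ⊔ H2.cj b⁻¹ A) ⊓ ⁅S, S⁆) with hX
  have hXle : X ≤ A ⊔ H2.cj b⁻¹ A := sup_le (inf_le_left.trans le_sup_left) inf_le_left
  have hXS : X ≤ S := hXle.trans (sup_le hA.le hA'.le)
  have hXc : AE 0 X := by
    refine AE.sup (hA.ae.of_le inf_le_left) ((ae_zero.mpr hm).of_le inf_le_right) ?_
    refine le_trans (b := centralizer ((A ⊔ H2.cj b⁻¹ A : Subgroup G) : Set G)) ?_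
      (centralizer_le (show (A ⊔ H2.cj b⁻¹ A) ⊓ ⁅S, S⁆ ≤ A ⊔ H2.cj b⁻¹ A from inf_le_left))
    rw [le_centralizer_iff]
    exact sup_le (le_centralizer_iff.mp (inf_le_left.trans hA.ae.le_centralizer))
      (le_centralizer_iff.mp (inf_le_right.trans hA'.ae.le_centralizer))
  have hcj : H2.cj b⁻¹ A ≤ X ⊔ A := by
    rintro _ ⟨a, ha, rfl⟩
    have e : (MulAut.conj b⁻¹).toMonoidHom a = ⁅b⁻¹, a⁆ * a := by simp [commutatorElement_def]
    rw [e]
    exact mul_mem (mem_sup_left (mem_sup_right ⟨RepH.cmA_le_sup (mem_cmA ha),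
      commutator_mem_commutator (inv_mem hb) (hA.le ha)⟩)) (mem_sup_right ha)
  have hcard := card_le_of_repl n1 (hXle.trans (sup_le le_normalizer n1)) (H2.card_cj _ _) hcj
    (le_trans (inf_comm _ _).le le_sup_left)
  have hXm : MA 0 S X := hA.of_card hXS hXc hcard
  have hXN : X ≤ N := hXle.trans (sup_le hAN (H8.cj_le_of_mem hAN (hN (inv_mem hb))))
  have h1 : X ⊔ ⁅S, S⁆ ≤ (A ⊓ H2.cj b⁻¹ A) ⊔ ⁅S, S⁆ :=
    sup_le (sup_le le_sup_left (inf_le_right.trans le_sup_right)) le_sup_right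
  have h2 : (A ⊓ H2.cj b⁻¹ A) ⊔ ⁅S, S⁆ ≤ A ⊔ ⁅S, S⁆ := sup_le_sup_right inf_le_left _
  have h3 : (A ⊓ H2.cj b⁻¹ A) ⊔ ⁅S, S⁆ = A ⊔ ⁅S, S⁆ :=
    eq_of_le_of_card_ge h2 ((hmin X ⟨hXm, hXN⟩).trans (card_le_of_le h1))
  have hAX : A ≤ X := by
    intro a ha
    have h4 : a ∈ (A ⊓ H2.cj b⁻¹ A) ⊔ ⁅S, S⁆ := by rw [h3]; exact mem_sup_left ha
    obtain ⟨y, hy, s, hs, rfl⟩ := H8.mem_sup_of_norm_right ((inf_le_left.trans hA.le).trans
      (H8.le_normalizer_commutator le_normalizer le_normalizer)) h4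
    refine mul_mem (mem_sup_left hy) (mem_sup_right ⟨mem_sup_left ?_, hs⟩)
    have := A.mul_mem (A.inv_mem (mem_inf.mp hy).1) ha
    rwa [inv_mul_cancel_left] at this
  have h5 : X = A := hA.eq_of_le hXS hXc hAX
  rw [h5, sup_idem] at hcj
  exact hbA (inv_mem_iff.mp (H2.mem_normalizer_of_cj_le hcj))

theorem RepH.card_omega {b : G} (R : RepH A B b) (hp2 : p ≠ 2)
    (hP : IsPGroup p ↥(A ⊔ H2.cj b⁻¹ A)) :
    Nat.card (omegaOne p A) ≤ Nat.card (omegaOne p (repl A B b)) := by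
  have hcl : Cl2 (A ⊔ H2.cj b⁻¹ A) := cl2_sup R.comm R.comm' R.n2 R.n1
  have hE : ∀ x ∈ omegaOne p A, x ^ p = 1 := pow_eq_one_of_class2 hp2 (hP.to_le le_sup_left)
    (hcl.mono le_sup_left)
  refine card_le_of_repl (E' := H2.cj b⁻¹ (omegaOne p A))
    ((H2.cj_mono _ (omegaOne_le _ _)).trans (R.n1.trans (normalizer_le_omegaOne _ _)))
    ((omegaOne_le _ _).trans (R.repl_le_normalizer.trans (normalizer_le_omegaOne _ _)))
    (H2.card_cj _ _) ?_ ?_
  · rintro _ ⟨a, ha, rfl⟩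
    have e : (MulAut.conj b⁻¹).toMonoidHom a = ⁅b⁻¹, a⁆ * a := by simp [commutatorElement_def]
    rw [e]
    have haA := omegaOne_le _ _ ha
    refine mul_mem (mem_sup_left (subset_closure ⟨?_, ?_⟩)) (mem_sup_right ha)
    · rw [R.repl_eq]; exact mem_sup_right (mem_cmA haA)
    · refine pow_eq_one_of_class2 hp2 hP hcl _ ?_
      rw [commutatorElement_def]
      refine mul_mem (subset_closure ⟨mem_sup_right (H2.conj_mem_cj _ haA), ?_⟩)
        (inv_mem (subset_closure ⟨mem_sup_left haA, hE a ha⟩))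
      rw [conj_pow, hE a ha]; simp
  · intro x hx
    exact subset_closure ⟨mem_sup_left ⟨omegaOne_le _ _ hx.2, H2.cj_mono _ (omegaOne_le _ _) hx.1⟩,
      hE x hx.2⟩

end

end Cfsg.Agent.H9
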