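import Cfsg.Agent.H9.CP2
import Cfsg.Agent.H9.GT

/-! Direct factors, local subsystems of constrained systems, descent along `p`-solvable
automizer quotients. -/

set_option autoImplicit false
set_option linter.unusedSectionVars false

namespace Cfsg.Agent.H9

open Cfsg Cfsg.FusionSystem Equiv
open scoped commutatorElement

section grp
variable {G : Type*} [Group G] {p : ℕ} [hp : Fact p.Prime]

omit hp in
theorem psolv_desc {A : Subgroup G} {H : Type*} [Group H] (π : A →* H) (h : IsPSolvable p H)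
    (M : Subgroup G → Prop) (h0 : M A)
    (hs : ∀ K L m, M K → π.ker.map A.subtype ≤ L → L ≤ K → K ≤ A →
      (∀ a ∈ A, ∀ x ∈ K, a * x * a⁻¹ ∈ K) → (∀ a ∈ A, ∀ x ∈ L, a * x * a⁻¹ ∈ L) → PorP' p m →
      (∀ g ∈ K, g ^ m ∈ L) → M L) : M (π.ker.map A.subtype) := by
  obtain ⟨n, K, k0, k1, km, kn, ks⟩ := h
  have nm : ∀ i, ∀ a ∈ A, ∀ x ∈ ((K i).comap π).map A.subtype,
      a * x * a⁻¹ ∈ ((K i).comap π).map A.subtype := by
    rintro i a ha _ ⟨x, hx, rfl⟩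
    exact ⟨_, ((kn i).comap π).conj_mem x hx ⟨a, ha⟩, rfl⟩
  have : ∀ i, M (((K i).comap π).map A.subtype) := fun i => by
    induction i using Fin.reverseInduction with
    | last => rwa [k1, Subgroup.comap_top, ← MonoidHom.range_eq_map, Subgroup.range_subtype]
    | cast i ih =>
      have := kn i.castSucc
      refine hs _ _ _ ih (Subgroup.map_mono fun x hx => ?_) (Subgroup.map_mono
        (Subgroup.comap_mono (km (Fin.castSucc_le_succ i)))) (Subgroup.map_subtype_le _) (nm _)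
        (nm _) (ks i) ?_
      · rw [Subgroup.mem_comap, hx]; exact one_mem _
      · rintro _ ⟨x, hx, rfl⟩
        exact ⟨x ^ _, by rw [SetLike.mem_coe, Subgroup.mem_comap, map_pow]
                         exact Subgroup.pow_relIndex_mem _ hx, rfl⟩
  simpa [k0] using this 0

omit hp in
theorem psolv_of_steps [Finite G] (h : ∀ N : Subgroup G, N.Normal → N ≠ ⊥ →
    ∃ M : Subgroup G, M.Normal ∧ M < N ∧ PorP' p (M.relIndex N)) : IsPSolvable p G := by
  suffices ∀ N : Subgroup G, N.Normal → ∃ (n : ℕ) (H : Fin (n + 1) → Subgroup G),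
      H 0 = ⊥ ∧ H (Fin.last n) = N ∧ Monotone H ∧ (∀ i, (H i).Normal) ∧
      ∀ i : Fin n, PorP' p ((H i.castSucc).relIndex (H i.succ)) from this ⊤ inferInstance
  intro N
  induction N using WellFoundedLT.induction with
  | _ N ih =>
  intro hN
  by_cases h0 : N = ⊥
  · exact ⟨0, fun _ => ⊥, rfl, h0.symm, monotone_const, fun _ => inferInstance, fun i => i.elim0⟩
  obtain ⟨M, a, b, c⟩ := h N hN h0
  obtain ⟨n, H, d, e, f, g, k⟩ := ih M b a
  refine ⟨n + 1, Fin.snoc H N, ?_, Fin.snoc_last _ _, ?_, fun i => ?_, fun i => ?_⟩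
  · rw [← Fin.castSucc_zero, Fin.snoc_castSucc, d]
  · rw [Fin.monotone_iff_le_succ]
    intro i
    refine Fin.lastCases ?_ (fun i => ?_) i
    · rw [Fin.succ_last, Fin.snoc_last, Fin.snoc_castSucc, e]; exact b.le
    · rw [Fin.succ_castSucc, Fin.snoc_castSucc, Fin.snoc_castSucc]
      exact f (Fin.castSucc_le_succ i)
  · refine Fin.lastCases ?_ (fun i => ?_) i
    · rwa [Fin.snoc_last]
    · rw [Fin.snoc_castSucc]; exact g i
  · refine Fin.lastCases ?_ (fun i => ?_) i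
    · rwa [Fin.succ_last, Fin.snoc_last, Fin.snoc_castSucc, e]
    · rw [Fin.succ_castSucc, Fin.snoc_castSucc, Fin.snoc_castSucc]; exact k i

theorem psolv_of_perfect [Finite G] (h : ∀ N : Subgroup G,
    (∀ L : Subgroup G, (∀ g ∈ N, (orderOf g).Coprime p → g ∈ L) → N ≤ L) →
    (∀ L : Subgroup G, (∀ g ∈ N, (∃ k, orderOf g = p ^ k) → g ∈ L) → N ≤ L) → N = ⊥) :
    IsPSolvable p G := psolv_of_steps fun N hN h0 => by
  by_contra! hc
  refine h0 (h N (fun L a => ?_) fun L a => ?_)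
  · refine (((H2.resOf_le p N).lt_or_eq.resolve_left fun b => hc _ ?_ b
      (Or.inl (H2.relIndex_resOf N))).ge).trans (H2.resOf_le_iff.2 a)
    exact Subgroup.normalizer_eq_top_iff.1 (top_unique ((Subgroup.normalizer_eq_top_iff.2
      hN).ge.trans (H2.normalizer_le_normalizer_resOf p N)))
  · let M := Subgroup.closure {g | g ∈ N ∧ ∃ k, orderOf g = p ^ k}
    have m : M ≤ N := (Subgroup.closure_le _).2 fun g b => b.1
    obtain ⟨P, -, b⟩ := exists_syl (p := p) (bot_le : ⊥ ≤ N) IsPGroup.of_bot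
    have c : P ≤ M := fun g hg => Subgroup.subset_closure ⟨b.le hg, by
      simpa using (IsPGroup.iff_orderOf.1 b.pg) ⟨g, hg⟩⟩
    refine ((m.lt_or_eq.resolve_left fun d => hc _ ⟨fun x hx g => ?_⟩ d (Or.inr ((Nat.Prime.coprime_iff_not_dvd
      hp.out).2 fun e => b.nd (e.trans (Subgroup.relIndex_dvd_of_le_left _ c))).symm)).ge).trans
        ((Subgroup.closure_le _).2 fun g b => a g b.1 b.2)
    refine (Subgroup.closure_le (M.comap (MulAut.conj g).toMonoidHom)).2 (fun y e =>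
      Subgroup.subset_closure ⟨hN.conj_mem y e.1 g, ?_⟩) hx
    rw [MulEquiv.coe_toMonoidHom, MulEquiv.orderOf_eq]; exact e.2

end grp

section
variable {Ω : Type*} [Group Ω] {S : Subgroup Ω} [Finite S]
  {p : ℕ} [hp : Fact p.Prime] {F : FusionSystem S}
  {P Q R T U V W X Y Z T₁ T₂ P₁ P₂ : Subgroup Ω} {σ τ χ α β γ ρ δ σ₁ σ₂ : Perm Ω}

theorem Sat.ext_dir (h : Sat p F) (h1 : F.StronglyClosed T₁) (h2 : F.StronglyClosed T₂)
    (h3 : T₁ ⊓ T₂ = ⊥) (hP : P ≤ T₁) (hσ : Mor F P σ) :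
    ∃ τ, Mor F (P ⊔ T₂) τ ∧ ∀ x ∈ P, τ x = σ x := by
  obtain ⟨τ, a, b⟩ := h.ext_mod h2 hσ
  refine ⟨τ, a, fun x hx => inv_mul_eq_one.1 (Subgroup.mem_bot.1 (h3 ▸ ⟨T₁.mul_mem (T₁.inv_mem
    (sc_mem h1 a (Subgroup.mem_sup_left hx) (hP hx))) (sc_mem h1 hσ hx (hP hx)), b x hx⟩))⟩

theorem Sat.full_sat (h : Sat p F) (h1 : F.StronglyClosed T₁) (h2 : F.StronglyClosed T₂)
    (h3 : T₁ ⊓ T₂ = ⊥) (hc : Cm T₁ T₂) (hS : S ≤ T₁ ⊔ T₂) {E : FusionSystem T₁}
    (hE : ∀ P σ, Mor E P σ ↔ P ≤ T₁ ∧ Mor F P σ) : Sat p E := by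
  classical
  choose u u1 v v1 uv using fun x : S => hc.mem_sup.1 (hS x.2)
  let f : Ω → Ω := fun x => if hx : x ∈ S then u ⟨x, hx⟩ else 1
  have f1 : ∀ a ∈ T₁, ∀ b ∈ T₂, f (a * b) = a := fun a ha b hb => by
    have k := S.mul_mem (h1.1 ha) (h2.1 hb)
    have l : a⁻¹ * u ⟨_, k⟩ = b * (v ⟨_, k⟩)⁻¹ := by
      rw [inv_mul_eq_iff_eq_mul, ← mul_assoc, eq_mul_inv_iff_mul_eq, uv]
    simp only [f, dif_pos k]
    exact (inv_mul_eq_one.1 (Subgroup.mem_bot.1 (h3 ▸ ⟨T₁.mul_mem (T₁.inv_mem ha) (u1 _),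
      l ▸ T₂.mul_mem hb (T₂.inv_mem (v1 _))⟩))).symm
  have f2 : ∀ a ∈ T₁, f a = a := fun a ha => by simpa using f1 a ha 1 (one_mem _)
  have hf : PHom S f := fun x hx y hy => by
    obtain ⟨a, ha, b, hb, rfl⟩ := hc.mem_sup.1 (hS hx)
    obtain ⟨c, hc', d, hd, rfl⟩ := hc.mem_sup.1 (hS hy)
    rw [f1 a ha b hb, f1 c hc' d hd, mul_assoc, ← mul_assoc b, ← hc c hc' b hb, mul_assoc,
      ← mul_assoc, f1 _ (mul_mem ha hc') _ (mul_mem hb hd)]
  refine Fac.sat (f := f) ⟨hf, h2, fun x hx => ?_, le_antisymm (im_le_iff.2 fun x hx => ?_)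
    fun x hx => f2 x hx ▸ mem_im_of_mem f (h1.1 hx), fun P σ => (hE P σ).trans
      (and_congr_right fun hP => ⟨fun a => ?_, fun ⟨τ, a, b⟩ => ?_⟩)⟩ h
  · obtain ⟨a, ha, b, hb, rfl⟩ := hc.mem_sup.1 (hS hx)
    rw [f1 a ha b hb]
    exact ⟨fun e => by simpa [e], fun e => Subgroup.mem_bot.1 (h3 ▸ ⟨ha, by
      simpa using T₂.mul_mem e (T₂.inv_mem hb)⟩)⟩
  · obtain ⟨a, ha, b, hb, rfl⟩ := hc.mem_sup.1 (hS hx)
    rwa [f1 a ha b hb]
  · obtain ⟨τ, b, c⟩ := h.ext_dir h1 h2 h3 hP a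
    have k : ∀ x ∈ pre S f P, x ∈ P ⊔ T₂ ∧ σ (f x) = f (τ x) := fun x hx => by
      obtain ⟨d, e⟩ := hf.mem_pre.1 hx
      obtain ⟨s, hs, t, ht, rfl⟩ := hc.mem_sup.1 (hS d)
      rw [f1 s hs t ht] at e ⊢
      have l := Subgroup.mem_sup_left (T := T₂) e
      have m := Subgroup.mem_sup_right (S := P) ht
      rw [b.map_mul l m, f1 _ (sc_mem h1 b l hs) _ (sc_mem h2 b m ht), c s e]
      exact ⟨mul_mem l m, rfl⟩
    exact ⟨τ, b.mono fun x hx => (k x hx).1, fun x hx => (k x hx).2⟩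
  · have k : P ≤ pre S f P := fun x hx => hf.mem_pre.2 ⟨h1.1 (hP hx), by rwa [f2 x (hP hx)]⟩
    exact (a.mono k).congr fun x hx => by
      rw [← f2 _ (sc_mem h1 a (k hx) (hP hx)), ← b x (k hx), f2 x (hP hx)]

theorem Sat.dir_cm (h : Sat p F) (h1 : F.StronglyClosed T₁) (h2 : F.StronglyClosed T₂)
    (h3 : T₁ ⊓ T₂ = ⊥) (hc : Cm T₁ T₂) (hS : S ≤ T₁ ⊔ T₂) {E : FusionSystem T₁}
    (hE : ∀ P σ, Mor E P σ ↔ P ≤ T₁ ∧ CM F T₂ P σ) : Nml p E F := by
  have := finite_of_le h1.1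
  obtain ⟨_, C, a, b, -, c⟩ := h.exists_cm (h.fn_fc (sc_fn h2)) rfl
  have d := hc.le_C h1.1
  have e : E.IsSubsystemOf F := isSubsystemOf_iff.2 fun P σ k => ((hE _ _).1 k).2.mor
  refine ⟨a.full_sat (sc_of_sub b h1 d) (sc_inf_of_sub b h2) (by rw [← inf_assoc, h3, bot_inf_eq])
    (hc.mono le_rfl inf_le_left) (fun x hx => ?_) fun P σ => by rw [hE, c], h,
      ⟨e, h1, fun P σ α k l => ?_, fun P σ k l => ?_⟩, fun α k => ?_⟩
  · obtain ⟨s, hs, t, ht, rfl⟩ := hc.mem_sup.1 (hS hx.1)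
    exact mul_mem (Subgroup.mem_sup_left hs) (Subgroup.mem_sup_right ⟨ht, by
      simpa using (centralizerIn S T₂).mul_mem (Subgroup.inv_mem _ (d hs)) hx⟩)
  · obtain ⟨ρ, m, n⟩ := h.ext_dir h1 h2 h3 le_rfl l.mor
    have q := ((hE _ _).1 k).2.conj m (k.le.trans le_sup_left) le_sup_right
      fun x hx => Subgroup.mem_sup_left (k.mem hx)
    rw [(sc_iso h2 (m.mono le_sup_right)).img_eq] at q
    exact Mor.congr_conj ((hE _ _).2 ⟨img_le_iff.2 fun x hx => n x (k.le hx) ▸ l.maps (k.le hx), q⟩)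
      l.homOn k.le (fun _ => k.mem) n
  · obtain ⟨τ, m, n⟩ := h.ext_dir h1 h2 h3 k l
    obtain ⟨ρ, q, r⟩ := h.ext_dir h2 h1 (inf_comm T₁ T₂ ▸ h3) le_rfl (m.mono le_sup_right)
    have s := (q.mono (sup_comm T₁ T₂ ▸ hS)).iso_top
    exact ⟨ρ, sc_iso h1 (q.mono le_sup_right), (hE _ _).2 ⟨k, k.trans d, ρ⁻¹ * τ,
      m.comp s.symm.mor fun _ => m.mem, fun x hx => by simp [n x hx],
        fun x hx => by rw [Perm.mul_apply, ← r x hx, pia]⟩⟩
  · obtain ⟨-, β, m, n, q⟩ := ((hE _ _).1 k.mor).2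
    refine ⟨β, m.mono ((VC_le h1.1).trans hS), n, fun x hx => ?_⟩
    obtain ⟨s, hs, t, ht, rfl⟩ := hc.mem_sup.1 (hS hx.1)
    have l := T₁.mul_mem (T₁.inv_mem hs) (k.maps hs)
    rwa [m.map_mul (Subgroup.mem_sup_left hs) (Subgroup.mem_sup_right ht), n s hs, q t ht,
      mul_inv_rev, mul_assoc, ← mul_assoc s⁻¹, hc _ l t ht, inv_mul_cancel_left]

/-- The `A × B` lemma for automorphisms. -/
theorem PP.fix_AxB (hS : IsPGroup p S) (hp : PP p R ρ) (hρ : Mor F R ρ) (hQ : Q ≤ R) (hU : U ≤ R)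
    (hn : ∀ g ∈ U, ∀ x ∈ Q, g * x * g⁻¹ ∈ Q) (h1 : ∀ x ∈ Q, ρ x ∈ Q) (h2 : ∀ x ∈ U, ρ x = x)
    (h3 : ∀ x ∈ centralizerIn Q U, ρ x = x) : ∀ x ∈ Q, ρ x = x := by
  have := hρ.finite
  have := finite_of_le (sup_le hU hQ)
  obtain ⟨n, a⟩ := exists_icomm_eq_bot (hS.to_le ((sup_le hU hQ).trans hρ.le))
    (le_sup_right : Q ≤ U ⊔ Q)
  have b : ∀ g ∈ U ⊔ Q, ∀ x ∈ Q, g * x * g⁻¹ ∈ Q := fun g hg x => conj_mem_of_mem_normalizer
    (sup_le (le_normalizer_of_conj hn) Subgroup.le_normalizer hg)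
  refine Nat.decreasingInduction (motive := fun k _ => ∀ x ∈ icomm (U ⊔ Q) Q k, ρ x = x)
    (fun k _ ih x hx => ?_) (fun x hx => ?_) (Nat.zero_le n)
  · have c := icomm_le b k hx
    have d : x⁻¹ * ρ x ∈ centralizerIn Q U := mem_C'.2 ⟨Q.mul_mem (Q.inv_mem c) (h1 x c),
      fun u hu => by
        have := ih _ (Subgroup.commutator_mem_commutator (Subgroup.inv_mem _ hx)
          (Subgroup.mem_sup_left (T := Q) hu))
        rw [hρ.homOn.map_commutator (R.inv_mem (hQ c)) (hU hu), hρ.map_inv (hQ c), h2 u hu,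
          commutatorElement_def, commutatorElement_def, mul_left_inj] at this
        have e : u = ρ x * (x⁻¹ * u * x⁻¹⁻¹) * (ρ x)⁻¹ := by rw [← this]; group
        have := ih _ (Subgroup.commutator_mem_commutator hx (Subgroup.mem_sup_left (T := Q) hu))
        rw [hρ.homOn.map_commutator (hQ c) (hU hu), h2 u hu,
          commutatorElement_def, commutatorElement_def, mul_left_inj] at this
        calc _ = x⁻¹ * (ρ x * u * (ρ x)⁻¹) * x := by group
          _ = u := by rw [this]; group⟩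
    exact hp.fix_of hS hρ (hQ c) (hQ d.1) (h3 _ d)
  · rw [a] at hx; rw [Subgroup.mem_bot.1 hx, hρ.map_one]

theorem cm_constrained (hc : F.IsConstrained p) (hS : IsPGroup p S) (hU : U ≤ S)
    {D : FusionSystem T} (hD : Sat p D) (hT : T = centralizerIn S U)
    (hm : ∀ P σ, Mor D P σ ↔ CM F U P σ) : D.IsConstrained p := by
  subst hT
  obtain ⟨h, Q, a, b⟩ := hc
  have h : Sat p F := ⟨hS, h⟩
  have k : D.IsNormal (Q ⊓ centralizerIn S U) := isNormal_iff.2 ⟨inf_le_right, fun P σ c => by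
    obtain ⟨d, τ, e, f, g⟩ := (hm _ _).1 c
    obtain ⟨ρ, l, m, n⟩ := normal_ext a e
    have q : P ⊔ Q ⊓ centralizerIn S U ≤ P ⊔ U ⊔ Q := sup_le_sup le_sup_left inf_le_left
    have r := cm_of (sup_le d inf_le_right) l q (le_sup_right.trans le_sup_left)
      fun x hx => by rw [m x (Subgroup.mem_sup_right hx), g x hx]
    exact ⟨ρ, (hm _ _).2 r, fun x hx => by rw [m x (Subgroup.mem_sup_left hx), f x hx],
      fun x hx => ⟨n x hx.1, r.maps (Subgroup.mem_sup_right hx)⟩⟩⟩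
  refine hD.constrained_of_fix k fun R κ c d e f => ?_
  obtain ⟨g, τ, l, m, n⟩ := (hm _ _).1 d.mor
  obtain ⟨ρ, q, r, s⟩ := normal_ext a l
  have r1 : ∀ x ∈ R, ρ x = κ x := fun x hx => by rw [r x (Subgroup.mem_sup_left hx), m x hx]
  have r2 : ∀ x ∈ U, ρ x = x := fun x hx => by rw [r x (Subgroup.mem_sup_right hx), n x hx]
  have t : Iso F (R ⊔ U ⊔ Q) (R ⊔ U ⊔ Q) ρ := q.iso_self (q.homOn.sup_maps
    ((q.homOn.mono le_sup_left).sup_maps (fun x hx => r1 x hx ▸ Subgroup.mem_sup_left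
      (Subgroup.mem_sup_left (d.maps hx))) fun x hx => (r2 x hx).symm ▸ Subgroup.mem_sup_left
        (Subgroup.mem_sup_right hx)) fun x hx => Subgroup.mem_sup_right (s x hx))
  have w : R ≤ R ⊔ U ⊔ Q := le_sup_left.trans le_sup_left
  obtain ⟨N, u, v⟩ := t.exists_pp w ⟨((hm _ _).1 d.mor).mor, d.mem⟩ e r1
  have z := u.fix_AxB hS (t.pow N).mor le_sup_right (le_sup_right.trans le_sup_left)
    (fun g hg x => sc_conj (normal_sc a) (hU hg)) (pow_maps s N) (fun x hx => pow_fix (r2 x hx) N)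
    fun x hx => have y : x ∈ Q ⊓ centralizerIn S U := ⟨hx.1, C_mono a.1 U hx⟩
      by rw [v x (c y), f x y]
  obtain ⟨k, y⟩ := h.pelt_of_centric b le_sup_right (t.pow N) (k := 0) (by simpa using z)
  exact fun x hx => by rw [← v x hx, u.eq_of_pelt y (fun _ => (t.pow N).maps) x (w hx)]

theorem Sat.cm_fac (h : Sat p F) (hU : F.IsFullyCentralized U) (hV : F.IsFullyCentralized V)
    (hσ : Iso F U V σ) {D : FusionSystem (centralizerIn S U)} {E : FusionSystem (centralizerIn S V)}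
    (hD : ∀ P σ, Mor D P σ ↔ CM F U P σ) (hE : ∀ P σ, Mor E P σ ↔ CM F V P σ) :
    ∃ ρ : Perm Ω, Fac D E ρ ⊥ := by
  obtain ⟨ρ, a, -, b⟩ := h.iso_VC hU hV hσ
  exact ⟨ρ, fac_perm (a.homOn.mono le_sup_right) (b.iso_C a.mor le_sup_left le_sup_right hU).mem
    (fun P σ c => (hE _ _).2 (b.img_eq ▸ ((hD _ _).1 c).conj a.mor (c.le.trans le_sup_right)
      le_sup_left fun _ hx => Subgroup.mem_sup_right (c.mem hx)))
    fun P σ c => (hD _ _).2 (b.symm.img_eq ▸ ((hE _ _).1 c).conj a.symm.mor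
      (c.le.trans le_sup_right) le_sup_left fun _ hx => Subgroup.mem_sup_right (c.mem hx))⟩

theorem nm_constrained (hU : U ≤ S) {N : FusionSystem (normalizerIn S U)} (hN : Sat p N)
    (hn : ∀ P σ, Mor N P σ ↔ NM F U P σ) {D : FusionSystem (centralizerIn S U)}
    (hD : ∀ P σ, Mor D P σ ↔ CM F U P σ) (hc : D.IsConstrained p) : N.IsConstrained p := by
  have a := (normal_nm hU rfl hn).1
  have b : centralizerIn S U = centralizerIn (normalizerIn S U) U :=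
    le_antisymm (fun x hx => ⟨C_le_N _ _ hx, hx.2⟩) (C_mono (N_le _ _) U)
  have c := hN.invar_cm a b fun P σ => (hD P σ).trans ⟨fun ⟨d, τ, e, f, g⟩ => ⟨d.trans b.le, τ,
    (hn _ _).2 (nm_of (sup_le (d.trans (C_le_N _ _)) a.1) e le_rfl le_sup_right
      fun x hx => (g x hx).symm ▸ hx), f, g⟩,
    fun d => d.of_sub (isSubsystemOf_iff.2 fun _ _ e => ((hn _ _).1 e).mor)⟩
  have d := normal_sup a (c.core_normal hN)
  have e := (Sat.constrained_iff ⟨hN.pg.to_le c.le, hc.1⟩).1 hc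
  exact ⟨hN.sat, _, d, centric_of_wc (wc_of_sc (normal_sc d)) fun x hx => Subgroup.mem_sup_right
    (e (mem_C.2 ⟨b.ge (C_anti _ le_sup_left hx), fun y hy =>
      (mem_C.1 hx).2 y (Subgroup.mem_sup_right hy)⟩))⟩

theorem Sat.dichotomy (h : Sat p F) (hn : ¬ F.IsOfComponentType p) :
    F.IsOfCharacteristicPType p := fun U h0 hU N hN => by
  have := finite_of_le hU.1
  obtain ⟨z, a, b, c⟩ := exists_central (h.pg.to_le hU.1) le_rfl
    (fun g hg x hx => U.mul_mem (U.mul_mem hg hx) (U.inv_mem hg)) h0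
  obtain ⟨x, d, e⟩ := exists_orderOf_prime (h.pg.to_le ((C_le U U).trans hU.1))
    fun e => b (Subgroup.mem_bot.1 (e ▸ mem_C.2 ⟨a, c⟩))
  have f : Subgroup.zpowers x ≤ U := Subgroup.zpowers_le.2 d.1
  have g : U ≤ centralizerIn S (Subgroup.zpowers x) := C_symm hU.1
    (Subgroup.zpowers_le.2 (C_mono hU.1 U d))
  obtain ⟨X, χ, k, l, m⟩ := h.exists_fn (f.trans hU.1)
  have n := (k.mono (g.trans (C_le_N _ _))).iso
  have q := fc_of_card (h.fn_fc hU) n (n.card_C_le k (g.trans (C_le_N _ _))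
    ((C_anti S f).trans (C_le_N _ _)))
  obtain ⟨G, r⟩ := exists_centralizerSystem F m.1
  have s := h.centralizer_sat (h.fn_fc m) r
  have t := s.constrained_of_no_comp fun T D t => hn ⟨X, by
    rw [← l.card_eq, Nat.card_zpowers, e], m, G, r, T, D, t⟩
  obtain ⟨_, D, u, -, -, v⟩ := h.exists_cm (h.fn_fc hU) rfl
  obtain ⟨_, D', u', -, -, v'⟩ := h.exists_cm q rfl
  obtain ⟨ρ, w⟩ := h.cm_fac q (h.fn_fc hU) n.symm v' v
  have y : X ≤ img χ U := l.img_eq ▸ img_mono χ f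
  have z : img χ U ≤ centralizerIn S X := img_le_iff.2 fun y hy => l.maps_C k
    (le_N (f.trans hU.1)) (C_le_N _ _ (g hy)) (mem_C.1 (g hy)).2
  have i : centralizerIn S (img χ U) = centralizerIn (centralizerIn S X) (img χ U) :=
    le_antisymm (fun x hx => ⟨C_anti S y hx, hx.2⟩) (C_mono (C_le _ _) _)
  exact nm_constrained hU.1 (h.normalizer_sat hU hN) (fun _ _ => nm_iff hN hU.1) v
    (w.constrained u'.pg (cm_constrained t s.pg z u' i fun P σ => (v' P σ).trans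
      ⟨fun ⟨d, τ, e, f, g⟩ => ⟨d.trans i.le, τ, (cm_iff r).2 (cm_of (sup_le (d.trans (C_anti S y)) z)
        e le_rfl (y.trans le_sup_right) fun x hx => g x (y hx)), f, g⟩,
          fun d => d.of_sub (centralizer_sub r)⟩))

end

end Cfsg.Agent.H9
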