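import Cfsg.Agent.H9.Desc

/-! Residual limits, descent along `p`-solvable automizer quotients, normal subsystems of
constrained systems. -/

set_option autoImplicit false
set_option linter.unusedSectionVars false

namespace Cfsg.Agent.H9

open Cfsg Cfsg.FusionSystem Equiv
open scoped commutatorElement

section
variable {Ω : Type*} [Group Ω] {S : Subgroup Ω} [Finite S]
  {p : ℕ} [hp : Fact p.Prime] {F : FusionSystem S}
  {P Q R T U V W X Y Z : Subgroup Ω} {σ τ χ α β γ ρ δ : Perm Ω}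
  {E : FusionSystem T} {D : FusionSystem W} {L : FusionSystem U}

theorem Sat.hyp_le_of_sc (h : Sat p F) (hT : F.StronglyClosed T) (h1 : T ≤ U) (h2 : U ≤ S)
    (hU : ∀ P σ, T ≤ P → Iso F P P σ → PP p P σ → ∀ x ∈ P, x⁻¹ * σ x ∈ U) :
    F.hyperfocalSubgroup p ≤ U := by
  obtain ⟨G, _, S', _, E, f, a⟩ := exists_quot F hT
  exact (a.im_le_im_iff (hyp_le F) h2 h1).1 (a.hyp_eq h ▸ a.hyp_le_im hU)

/-- A perfect subnormal subsystem. -/
structure PS' (p : ℕ) (L : FusionSystem U) (F : FusionSystem S) : Prop where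
  sn : L.IsSubnormalIn F p
  hyp : L.hyperfocalSubgroup p = U
  ppr : L.IsPPrimeResidual p L

theorem PS'.contain (h : PS' p L F) (hF : Sat p F) (hE : Sat p E) (hi : Invar E F) (hU : U ≤ T) :
    PS' p L E := ⟨H9.contain h.sn h.ppr hF hE hi hU, h.hyp, h.ppr⟩

theorem PS'.le_hyp (h : PS' p L F) : U ≤ F.hyperfocalSubgroup p :=
  have := finite_of_le (sub_le (subnormal_sub h.sn))
  h.hyp.ge.trans (hyp_mono (subnormal_sub h.sn))

theorem PS'.up (h : PS' p L E) (hE : Nml p E F) : PS' p L F :=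
  ⟨.step h.sn hE.isNormalIn, h.hyp, h.ppr⟩

theorem lim_ps (hL : L.IsResidualLimitOf F p) (h : Sat p F) : PS' p L F :=
  lim_ind' (fun _ _ F => PS' p L F) (fun _ a b => ⟨.refl _ _, a, b⟩)
    (fun _ _ F _ _ _ a b c _ e _ g => (g.up (b.nml_ppres e)).up (c.nml a b fun _ k _ =>
      hyp_conj F k)) hL h

theorem lim_max (hL : L.IsResidualLimitOf F p) (h : Sat p F) {C : FusionSystem R}
    (hC : PS' p C F) : C.IsSubsystemOf L :=
  lim_ind' (fun _ _ F => PS' p C F → C.IsSubsystemOf L) (fun _ _ _ a => subnormal_sub a.sn)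
    (fun _ _ F _ _ _ a b c d e _ g k => g ((k.contain a b (c.nml a b fun _ k _ =>
      hyp_conj F k).inv k.le_hyp).contain b d (b.nml_ppres e).inv k.le_hyp)) hL h hC

theorem lim_eq (hE : Nml p E F) (hL : L.IsResidualLimitOf F p) (hU : U ≤ T)
    {L' : FusionSystem V} (hL' : L'.IsResidualLimitOf E p) (P : Subgroup Ω) :
    L'.Hom P = L.Hom P :=
  have := finite_of_le hE.le
  Set.Subset.antisymm (lim_max hL hE.satF ((lim_ps hL' hE.satE).up hE) P)
    (lim_max hL' hE.satE ((lim_ps hL hE.satF).contain hE.satF hE.satE hE.inv hU) P)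

structure DS (p : ℕ) (F : FusionSystem S) (E : FusionSystem T) (K : Subgroup (MulAut T))
    (D : FusionSystem W) : Prop where
  nml : Nml p D F
  sub : E.IsSubsystemOf D
  aut : D.autGroup T = K
  cen : centralizerIn S T ≤ W
  per : ∀ (U : Subgroup Ω) (L : FusionSystem U), PS' p L F → U ≤ W

variable {K M : Subgroup (MulAut T)}

omit [Finite S] hp in
theorem InK.pow_of (h : InK K σ) {m : ℕ} (hm : ∀ g ∈ K, g ^ m ∈ M) : InK M (σ ^ m) :=
  let ⟨a, b, c⟩ := h; ⟨a ^ m, hm a b, aut_pow_eq c m⟩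

theorem DS.step' (h : DS p F E K D) (hE : Nml p E F) (h1 : E.autGroup T ≤ M) (h2 : M ≤ K)
    (h3 : ∀ a ∈ F.autGroup T, ∀ x ∈ M, a * x * a⁻¹ ∈ M) {m : ℕ} (hm : m.Coprime p)
    (h4 : ∀ g ∈ K, g ^ m ∈ M) : ∃ D' : FusionSystem W, DS p F E M D' := by
  have := finite_of_le h.nml.le
  have hD := h.nml.satE
  have tw := sub_le h.sub
  have c : ∀ σ τ, Iso F T T σ → InK M τ → InK M (σ * τ * σ⁻¹) := fun σ τ a =>
    InK.conj_of h3 ((inK_autGroup hE.le).2 a)
  obtain ⟨D', a, b, d, e⟩ := hD.exists_ppr_of hE.satE (hE.inv.of_le hD h.sub h.nml.sub)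
    (h.aut ▸ h2) h1 (fun σ τ a => c σ τ (a.of_sub h.nml.sub)) fun σ k a b =>
      have f : InK K σ := h.aut ▸ (inK_autGroup tw).2 a
      f.of_pow b (f.pow_of h4) (hm.symm.pow_left k)
  refine ⟨D', nml_of_C_le a.satE hE.satF (a.inv.trans' h.nml.inv fun P σ β f g => ?_)
    ((C_anti S tw).trans h.cen), b, d, h.cen, h.per⟩
  obtain ⟨α, k, l⟩ := a.satE.gp_frat f
  have n := h.nml.inv.conj_iso (k.of_sub a.sub) g
  rw [g.img_eq] at n
  have q := (e _).2 ⟨n, c _ _ (sc_iso hE.sc (g.mor.mono tw)) ((e _).1 k).2⟩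
  have r := ((l.of_gen (B' := fun R γ => Iso D R R γ ∧ PE p R γ) fun R γ s => Gen.base
    ⟨s.2.1.of_sub a.sub, s.2.2⟩ le_rfl s.2.1.le).conj g.homOn (fun _ => g.maps) fun R γ s =>
      have t := h.nml.inv.conj_iso s.1 g
      Gen.base ⟨t, s.2.conj fun _ => (g.homOn.mono s.1.le).mem_img.1⟩ le_rfl t.le).mor
        fun R γ s => (a.inv.ppr hD).pe _ _ s.1 s.2
  convert r.comp q.mor fun _ => r.mem using 1
  group

theorem DS.step (h : DS p F E K D) (hE : Nml p E F) (h1 : E.autGroup T ≤ M) (h2 : M ≤ K)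
    (h3 : ∀ a ∈ F.autGroup T, ∀ x ∈ M, a * x * a⁻¹ ∈ M) {k : ℕ}
    (h4 : ∀ g ∈ K, g ^ p ^ k ∈ M) : ∃ D' : FusionSystem (nK W M), DS p F E M D' := by
  have := finite_of_le h.nml.le
  have := finite_of_le hE.le
  have hD := h.nml.satE
  have tw := sub_le h.sub
  have sc := sc_of_sub h.nml.sub hE.sc tw
  have c : ∀ σ τ, Iso F T T σ → InK M τ → InK M (σ * τ * σ⁻¹) := fun σ τ a =>
    InK.conj_of h3 ((inK_autGroup hE.le).2 a)
  have pp : ∀ σ, Iso D T T σ → PP p T σ → InK M σ := fun σ a b =>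
    have f : InK K σ := h.aut ▸ (inK_autGroup tw).2 a
    f.of_pp b (f.pow_of h4)
  have tm : T ≤ nK W M := fun t ht => mem_nK.2 ⟨tw ht, ((inK_autGroup le_rfl).2 (iso_cj E le_rfl
    ((N_self T).ge ht))).mono h1⟩
  have cj' : ∀ g ∈ W, Iso F T T (cj g) := fun g hg => iso_cj F hE.le (sc_le_N hE.sc (h.nml.le hg))
  have bm : ∀ P β, T ≤ P → Mor F P β → ∀ x ∈ P, ∀ y ∈ T, cj (β x) y = (β * cj x * β⁻¹) y :=
    fun P β a b x hx y hy => by
      have d := (sc_iso hE.sc (b.mono a)).inv_maps hy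
      rw [Perm.mul_apply, Perm.mul_apply, cj_apply, cj_apply, b.map_conj hx (a d), pai]
  have hh : D.hyperfocalSubgroup p ≤ nK W M := hD.hyp_le_of_sc sc tm (nK_le M)
    fun P σ a b d x hx => mem_nK.2 ⟨W.mul_mem (W.inv_mem (b.le hx)) (b.mor.mem hx), by
      have e := pp σ (sc_iso sc (b.mor.mono a)) (d.mono a)
      refine ((c _ _ (cj' x (b.le hx)).symm e).mul e.inv).congr fun y hy => ?_
      rw [map_mul, map_inv, Perm.mul_apply, bm P σ a (b.mor.of_sub h.nml.sub) x hx y hy]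
      simp only [Perm.mul_apply, inv_inv]⟩
  obtain ⟨D', a, b⟩ := hD.exists_ppi (nK_le M) hh
  have n := b.nml hD a fun g hg x hx => mem_nK.2 ⟨W.mul_mem (W.mul_mem hg hx.1) (W.inv_mem hg), by
    rw [map_mul, map_mul, map_inv]; exact c _ _ (cj' g hg) (mem_nK.1 hx).2⟩
  have cm : centralizerIn S T ≤ nK W M := fun x hx => C_le_nK M ⟨h.cen hx, hx.2⟩
  refine ⟨D', nml_of_C_le a hE.satF (n.inv.trans' h.nml.inv fun P σ β f g => b.conj a
    (g.mor.mono (nK_le M)) (sub_trans b.sub h.nml.sub) (fun x hx => mem_nK.2 ⟨g.maps hx.1, (c _ _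
      (sc_iso hE.sc (g.mor.mono tw)) (mem_nK.1 hx).2).congr (bm W β tw g.mor x hx.1)⟩)
        (fun P σ l => h.nml.inv.conj P σ β (l.of_sub b.sub) g) f) ((C_anti S tm).trans cm),
    b.sub_of hE.satE h.sub tm, le_antisymm ?_ ?_, cm, fun U L l =>
      (l.contain hE.satF hD h.nml.inv (h.per U L l)).le_hyp.trans hh⟩
  · rw [← (a.fn_syl (sc_fn (sc_of_sub b.sub sc tm))).sylIn.resOf_sup, autInducedBy_nK]
    exact sup_le (resOf_le_of_pp fun σ d => pp σ (((inK_autGroup tm).1 d).of_sub b.sub))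
      inf_le_right
  · exact ((hD.fn_syl (sc_fn sc)).inf (h2.trans h.aut.ge) fun g hg => h3 g (autGroup_mono h.nml.sub T
      hg)).sylIn.resOf_sup.ge.trans (sup_le (resOf_le_of_pp fun σ d e =>
        have f := (inK_autGroup tw).1 (h.aut ▸ d.mono h2)
        (inK_autGroup tm).2 ⟨b.pp _ _ tm f e, f.mem⟩) ((autInducedBy_nK W M).ge.trans
          (autInducedBy_le_autGroup D' le_rfl tm)))

theorem Nml.exists_ds (hE : Nml p E F) [((E.autGroup T).subgroupOf (F.autGroup T)).Normal]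
    (hs : IsPSolvable p (F.autGroup T ⧸ (E.autGroup T).subgroupOf (F.autGroup T))) :
    ∃ D : FusionSystem (VC S T), DS p F E (E.autGroup T) D := by
  have := finite_of_le hE.le
  have k : (QuotientGroup.mk' ((E.autGroup T).subgroupOf (F.autGroup T))).ker.map
      (F.autGroup T).subtype = E.autGroup T := by
    rw [QuotientGroup.ker_mk', Subgroup.subgroupOf_map_subtype,
      inf_eq_left.2 (autGroup_mono hE.sub T)]
  obtain ⟨W, D, h⟩ := psolv_desc _ hs (fun K => ∃ (W : Subgroup Ω) (D : FusionSystem W),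
    DS p F E K D) ⟨S, F, hE.satF.nml_refl, hE.sub, rfl, C_le _ _,
      fun U L a => sub_le (subnormal_sub a.sn)⟩ fun K M m ⟨W, D, a⟩ b c _ _ d e f => by
        rw [k] at b
        rcases e with ⟨n, rfl⟩ | e
        · exact ⟨_, a.step hE b c d f⟩
        · exact ⟨_, a.step' hE b c d e f⟩
  rw [k] at h
  have := finite_of_le h.nml.le
  obtain rfl : W = VC S T := le_antisymm (fun g hg => by
    have a := sc_le_N (sc_of_sub h.nml.sub hE.sc (sub_le h.sub)) hg
    obtain ⟨t, b, c⟩ := hE.inv.exists_T hE.satF hE.satE (hE.satF.fn_fc (sc_fn hE.sc))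
      (N_mono h.nml.le T a) ((inK_autGroup le_rfl).1 (h.aut ▸ (inK_autGroup (sub_le h.sub)).2
        (iso_cj D (sub_le h.sub) a))).mor
    exact mem_VC.2 ⟨t, b.1, _, c, by simp⟩) (sup_le (sub_le h.sub) h.cen)
  exact ⟨D, h⟩

theorem DS.hyp_le {D : FusionSystem (VC S T)} (h : DS p F E (E.autGroup T) D) (hE : Nml p E F)
    (hc : cse p F E ≤ T) : D.hyperfocalSubgroup p ≤ T := by
  have := finite_of_le h.nml.le
  have sc := sc_of_sub h.nml.sub hE.sc le_sup_left
  refine h.nml.satE.hyp_le_of_sc sc le_rfl le_sup_left fun P σ a b _ x hx => ?_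
  have c := (inK_autGroup le_rfl).1 (h.aut ▸ (inK_autGroup le_sup_left).2 (sc_iso sc (b.mor.mono a)))
  obtain ⟨β, d, e, f⟩ := (inK_extG hE.le).1 ((nml_iff.1 hE).2.2.2 σ c)
  obtain ⟨t, ht, y, hy, rfl⟩ := mem_VC.1 (b.le hx)
  have g : y ∈ P := by simpa using P.mul_mem (P.inv_mem (a ht)) hx
  have k := (b.mor.of_sub h.nml.sub).comp d.symm.mor fun z hz => b.le (b.maps hz)
  have l := hc (hE.mem_cse_of_cm (cm_of (P := P ⊓ centralizerIn S T) inf_le_right k inf_le_left a
    fun z hz => by rw [Perm.mul_apply, ← e z hz, pia]) ⟨g, hy⟩)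
  have m := T.mul_mem l (f _ (d.inv_maps (b.le (b.maps g))))
  rw [pai, Perm.mul_apply, mul_assoc, mul_inv_cancel_left] at m
  have n := sc_conj hE.sc (S.inv_mem hy.1) (T.mul_mem (T.inv_mem ht) (c.maps ht))
  rw [b.mor.map_mul (a ht) g]
  convert T.mul_mem n m using 1
  group

theorem PS'.le_of_psolv (h : PS' p L F) (hE : Nml p E F) (hc : cse p F E ≤ T)
    [((E.autGroup T).subgroupOf (F.autGroup T)).Normal]
    (hs : IsPSolvable p (F.autGroup T ⧸ (E.autGroup T).subgroupOf (F.autGroup T))) : U ≤ T := by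
  obtain ⟨D, a⟩ := hE.exists_ds hs
  have := finite_of_le a.nml.le
  exact (h.contain hE.satF a.nml.satE a.nml.inv (a.per U L h)).le_hyp.trans (a.hyp_le hE hc)

omit hp in
theorem Invar.aut_normal (h : Invar E F) : ((E.autGroup T).subgroupOf (F.autGroup T)).Normal :=
  (Subgroup.normal_subgroupOf_iff (autGroup_mono h.sub T)).2 fun a b c d => normalized_of_inK
    (fun σ τ e f => (inK_autGroup le_rfl).2 (h.strong_iso ((inK_autGroup h.le).1 e) le_rfl
      ((inK_autGroup le_rfl).1 f))) b d a c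

theorem PS'.eq_bot (h : PS' p L F) (hF : Sat p F) (hc : F.IsConstrained p)
    (hs : IsPSolvable p (F.autGroup F.core)) : U = ⊥ := by
  have a := hF.nml_inner (core_normal F)
  have := a.inv.aut_normal
  have := finite_of_le a.le
  have b := (h.contain hF a.satE a.inv (h.le_of_psolv a (cse_le.trans (hF.constrained_iff.1 hc))
    (pSolv_map _ (QuotientGroup.mk'_surjective _) hs))).le_hyp
  rwa [hyp_inner a.satE.pg, le_bot_iff] at b

theorem psolv_aut_of_normal (hQ : F.IsNormal Q) (hU : F.StronglyClosed U) (h : U ≤ Q)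
    (hs : IsPSolvable p (F.autGroup Q)) : IsPSolvable p (F.autGroup U) := by
  have a : F.autGroup Q ≤ stabAut Q U := fun α b x => by
    have := sc_mem_iff hU (iso_ap hQ.1 b).mor x.2
    rwa [ap_coe] at this
  refine pSolv_of_le (H := resGrp h (F.autGroup Q)) (le_of_inK fun σ b => ?_) (pSolv_map _
    (MonoidHom.subgroupMap_surjective _ _) (pSolv_comap
      (Subgroup.subgroupOfEquivOfLe a).toMonoidHom (MulEquiv.injective _) hs))
  obtain ⟨β, c, d⟩ := normal_res hQ h ((inK_autGroup hU.1).1 b).mor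
  exact (inK_resGrp h a).2 ⟨β, (inK_autGroup hQ.1).2 c, d⟩

end

universe u in
theorem Sat.term_of_psolv {Ω : Type u} [Group Ω] {S : Subgroup Ω} [Finite S] {p : ℕ}
    [Fact p.Prime] {F : FusionSystem S} (h : Sat p F) (hc : F.IsConstrained p)
    (hs : IsPSolvable p (F.autGroup F.core)) : F.HasTerminatingResidualSeries p := by
  refine fs_ind (M := fun {Ω} _ {S} _ F => Sat p F → F.IsConstrained p →
    IsPSolvable p (F.autGroup F.core) → F.HasTerminatingResidualSeries p)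
    (fun {Ω} _ {S} _ F _ ih h hc hs => ?_) F h hc hs
  by_cases h0 : S = ⊥
  · exact .trivial F p h0
  obtain ⟨E, a⟩ := h.exists_ppres
  have b := h.nml_ppres a
  obtain ⟨D, c, d⟩ := b.satE.exists_opp
  have := finite_of_le c.le
  have e : Invar D F := c.inv.trans' b.inv fun P σ β f g => d.conj c.satE (g.mor.mono c.le)
    (sub_trans c.sub b.sub) (b.inv.hyp_maps g) (fun P σ l => b.inv.conj P σ β (l.of_sub c.sub) g) f
  refine .step F E p D a ((isPResidual_iff h.pg).2 ⟨c.satE, d⟩) (ih D e.sub (fun f => h0 ?_) c.satE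
    (e.constrained h c.satE hc) (pSolv_of_le (autGroup_mono e.sub _) (psolv_aut_of_normal
      (core_normal F) (normal_sc (e.core_normal h)) (le_core (e.core_normal h)) hs)))
  obtain rfl : F = E := sub_antisymm (sub_trans f c.sub) b.sub
  exact PS'.eq_bot ⟨.refl _ _, le_antisymm (hyp_le F) (sub_le f), a⟩ h hc hs

section
variable {Ω : Type*} [Group Ω] {S : Subgroup Ω} {p : ℕ} {F : FusionSystem S}
  {P Q R T U V W X Y Z : Subgroup Ω} {σ τ χ α β γ ρ δ : Perm Ω}

theorem term_ind (M : ∀ (S : Subgroup Ω) [Finite S], FusionSystem S → Prop)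
    (h0 : ∀ (S : Subgroup Ω) [Finite S] (F : FusionSystem S), S = ⊥ → M S F)
    (hs : ∀ (S : Subgroup Ω) [Finite S] (F E : FusionSystem S) [Finite (E.hyperfocalSubgroup p)]
      (D : FusionSystem (E.hyperfocalSubgroup p)), Sat p F → F.IsPPrimeResidual p E → Sat p D →
      PPI p D E → M _ D → M S F)
    (h : F.HasTerminatingResidualSeries p) : ∀ [Finite S] [Fact p.Prime], Sat p F → M S F := by
  induction h with
  | trivial F p a => exact fun _ => h0 _ F a
  | step F E p D a b c ih =>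
    intro _ _ h
    have := finite_of_le (hyp_le (p := p) E)
    obtain ⟨d, e⟩ := (isPResidual_iff h.pg).1 b
    exact hs _ F E D h a d e (ih hs d)

variable [Finite S] [hp : Fact p.Prime]

theorem term_ps (h : F.HasTerminatingResidualSeries p) (hF : Sat p F) {L : FusionSystem U}
    (hL : PS' p L F) : U = ⊥ :=
  term_ind (fun _ _ F => PS' p L F → U = ⊥)
    (fun _ _ _ a b => le_bot_iff.1 (a ▸ sub_le (subnormal_sub b.sn)))
    (fun _ _ _ E _ _ a b c d ih e =>
      have f := a.nml_ppres b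
      have g := e.contain a f.satE f.inv (sub_le (subnormal_sub e.sn))
      ih (g.contain f.satE c (d.nml f.satE c fun _ k _ => hyp_conj E k).inv g.le_hyp)) h hF hL

theorem term_constrained (h : F.HasTerminatingResidualSeries p) (hF : Sat p F) :
    F.IsConstrained p := hF.constrained_of_no_comp fun R C a => by
  have := finite_of_le (sub_le (subnormal_sub a.1))
  exact qs_ne a.2 ((term_ps h hF ⟨a.1, a.2.2.1, qs_perf (subnormal_sat a.1 hF).pg a.2⟩).le.trans
    bot_le)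

theorem term_perfect (h : F.HasTerminatingResidualSeries p) (hF : Sat p F) :
    ∀ P ≤ S, ∀ N ≤ F.autGroup P, (∀ L, (∀ σ, InK N σ → PP p P σ → InK L σ) → N ≤ L) →
      (∀ L, (∀ σ, InK N σ → PE p P σ → InK L σ) → N ≤ L) → N ≤ ⊥ := by
  refine term_ind (fun S _ F => ∀ P ≤ S, ∀ N ≤ F.autGroup P, (∀ L, (∀ σ, InK N σ → PP p P σ →
    InK L σ) → N ≤ L) → (∀ L, (∀ σ, InK N σ → PE p P σ → InK L σ) → N ≤ L) → N ≤ ⊥)
    (fun S _ F a P b N _ _ _ => le_of_inK fun σ c => inK_bot.2 fun x hx => ?_)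
    (fun S _ F E _ D a b c d ih P e N f g k => ?_) h hF
  · rw [Subgroup.mem_bot.1 (a.le (b hx)), c.homOn.map_one]
  have i : ∀ σ, InK N σ → Iso E P P σ := fun σ l => (inK_autGroup e).1 (l.mono (k _ fun σ l m =>
    have n := (inK_autGroup e).1 (l.mono f)
    (inK_autGroup e).2 ⟨(ppr_iff.1 b.2.1).pe _ _ n m, n.mem⟩))
  have sc := (ppres_sat a b).sc_hyp
  have m : ∀ σ, InK N σ → ∀ x ∈ P, x⁻¹ * σ x ∈ E.hyperfocalSubgroup p := fun σ l =>
    (inK_modAut' (i σ l).inK_top).1 (l.mono (g _ fun σ l m => (inK_modAut' (i σ l).inK_top).2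
      fun _ => mem_hyp (i σ l) m))
  have s : N ≤ stabAut P (P ⊓ E.hyperfocalSubgroup p) := fun α l x => by
    have := ((i _ (inK_ap.2 l)).inf sc).mem x
    rwa [ap_coe] at this
  have r : ∀ L : Subgroup (MulAut (P ⊓ E.hyperfocalSubgroup p : Subgroup Ω)),
      N ≤ liftK P L → resGrp inf_le_left N ≤ L := fun L l => le_of_inK fun σ n => by
    obtain ⟨τ, q, r⟩ := (inK_resGrp _ s).1 n
    exact ((inK_liftK inf_le_left).1 (q.mono l)).2.congr fun x hx => (r x hx).symm
  have t : ∀ σ, InK N σ → InK (resGrp inf_le_left N : Subgroup (MulAut (P ⊓ E.hyperfocalSubgroup p :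
    Subgroup Ω))) σ := fun σ l => (inK_resGrp _ s).2 ⟨σ, l, fun _ _ => rfl⟩
  have u := ih _ inf_le_right (resGrp inf_le_left N) (r _ (g _ fun σ l n => (inK_liftK
    inf_le_left).2 ⟨(i σ l).inK_top, (inK_autGroup inf_le_right).2 ⟨d.pp _ _ inf_le_right
      ((i σ l).inf sc) (n.mono inf_le_left), ((i σ l).inf sc).mem⟩⟩))
    (fun L l => r L (g _ fun σ n q => (inK_liftK inf_le_left).2 ⟨(i σ n).inK_top,
      l σ (t σ n) (q.mono inf_le_left)⟩))
    fun L l => r L (k _ fun σ n q => (inK_liftK inf_le_left).2 ⟨(i σ n).inK_top,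
      l σ (t σ n) (q.mono inf_le_left)⟩)
  refine g _ fun σ l n => inK_bot.2 fun x hx => ?_
  have v := P.mul_mem (P.inv_mem hx) (l.maps hx)
  exact n.fix_of a.pg (i σ l).mor hx v (inK_bot.1 ((t σ l).mono u) _ ⟨v, m σ l x hx⟩)

theorem term_psolv (h : F.HasTerminatingResidualSeries p) (hF : Sat p F) (hP : P ≤ S) :
    IsPSolvable p (F.autGroup P) := psolv_of_perfect fun N a b => by
  have := term_perfect h hF P hP (N.map (F.autGroup P).subtype) (Subgroup.map_subtype_le _)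
    (fun L c => Subgroup.map_le_iff_le_comap.2 (a _ fun g d e => inK_ap.1 (c _ (inK_ap.2 ⟨g, d, rfl⟩)
      ((pp_iff fun x => (ap_coe _ x).symm).2 (by simpa using e)))))
    fun L c => Subgroup.map_le_iff_le_comap.2 (b _ fun g d e => inK_ap.1 (c _ (inK_ap.2 ⟨g, d, rfl⟩)
      ((pe_iff fun x => (ap_coe _ x).symm).2 (by simpa using e))))
  exact (Subgroup.map_eq_bot_iff_of_injective _ Subtype.val_injective).1 (le_bot_iff.1 this)

theorem NC.MD.psolv_iff {h : NC p F Q} {G : Type*} [Group G] [Finite G] {ι : S →* G}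
    {π : G →* F.autGroup Q} (d : h.MD ι π) : IsPSolvable p G ↔ IsPSolvable p (F.autGroup Q) :=
  ⟨pSolv_map π d.surj, fun a => pSolv_of_quot π.ker (Or.inl (IsPGroup.exists_card_eq
    ((h.sat.pg.of_surjective _ ι.rangeRestrict_surjective).to_le fun g hg => let ⟨v, e⟩ := d.ker g hg; ⟨_, e.symm⟩)))
      (pSolv_comap _ (QuotientGroup.kerLift_injective π) a)⟩

end

section
variable {G : Type*} [Group G] [Finite G] {S T H K N U Q : Subgroup G} {p : ℕ} [hp : Fact p.Prime]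
  {F : FusionSystem S} {E E' : FusionSystem T}

theorem GrpFS.constrained_of_psolv (h : GrpFS F H) (hs : Syl p S H) (hp' : IsPSolvable p H) :
    F.IsConstrained p := (h.sat hs).constrained_of_no_comp fun R C a => by
  have b := subnormal_sat a.1 (h.sat hs)
  have c := sub_le (subnormal_sub a.1)
  have := psolv_desc (MonoidHom.id H) hp' (fun K => R ≤ K) (c.trans hs.le)
    fun K L m d _ _ e f _ g k => by
      rcases g with ⟨n, rfl⟩ | g
      · have l := grpFS_subgroup (inf_le_right : S ⊓ K ≤ K)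
        have q := h.nml hs l e f rfl
        exact ((PS'.mk a.1 a.2.2.1 (qs_perf b.pg a.2)).contain q.satF q.satE q.inv
          (le_inf c d)).le_hyp.trans (l.hyp_le.trans (inf_le_right.trans
            (H2.resOf_le_of_pow_mem fun g hg => ⟨n, k g hg⟩)))
      · intro x hx
        obtain ⟨n, l⟩ := b.pg ⟨x, hx⟩
        exact mem_of_pow_coprime (k x (d hx)) (by
          rw [show x ^ p ^ n = 1 from congrArg Subtype.val l]; exact L.one_mem) (g.pow_right n)
  rw [MonoidHom.ker_id, Subgroup.map_bot] at this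
  exact qs_ne a.2 (this.trans bot_le)

omit [Finite G] in
theorem le_of_autU {Ω : Type*} [Group Ω] {S T U : Subgroup Ω} [Finite S] {F : FusionSystem S}
    {E E' : FusionSystem T} (hE : Sat p E) (hEF : E.IsSubsystemOf F) (hE' : Sat p E')
    (hi : Invar E' F) (hU : E.IsNormal U) (hc : TC F T U)
    (h : ∀ α, Iso E U U α → PP p U α → Mor E' U α) : E.IsSubsystemOf E' :=
  have := finite_of_le hi.le
  isSubsystemOf_iff.2 fun _ _ => hE.alperin_fcr E' fun R _ a b c => hE.mor_of_pp le_rfl a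
    fun α d e => have f := normal_le_cr hE.pg hU b c
      (hi.pd hE' a.1 f ((hi.centric_iff_tc hU.1).2 hc) (d.of_sub hEF) e
        (h α (sc_iso (normal_sc hU) (d.mor.mono f)) (e.mono f))).mor

theorem exists_pp_elt {g : G} {P : Subgroup G} {σ : Perm G} (hm : ∀ x ∈ P, σ x ∈ P)
    (hp : PP p P σ) (e : ∀ x ∈ P, σ x = g * x * g⁻¹) :
    ∃ n : ℕ, (orderOf (g ^ n)).Coprime p ∧ ∀ x ∈ P, g ^ n * x * (g ^ n)⁻¹ = σ x := by
  obtain ⟨n, hn, b⟩ := hp
  obtain ⟨a, m, hm', f⟩ := Nat.exists_eq_pow_mul_and_not_dvd (orderOf_pos g).ne' p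
    (Fact.out : p.Prime).ne_one
  obtain ⟨N, h1, h2⟩ := Nat.chineseRemainder (hn.symm.pow_left a) 0 1
  obtain ⟨k, rfl⟩ := (Nat.modEq_zero_iff_dvd).1 h1
  refine ⟨p ^ a * k, (((Nat.Prime.coprime_iff_not_dvd Fact.out).2 hm').symm).coprime_dvd_left
    (orderOf_dvd_of_pow_eq_one ?_), fun x hx => ?_⟩
  · rw [← pow_mul, show p ^ a * k * m = orderOf g * k by rw [f]; ring, pow_mul,
      pow_orderOf_eq_one, one_pow]
  · rw [← pow_eq_of_modEq h2 hm b x hx, ← pow_congr_on (τ := cj g) hm (fun x hx => (e x hx).symm) _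
      x hx, ← map_pow, cj_apply]

omit [Finite G] hp in
theorem pp_cj {g : G} (h : (orderOf g).Coprime p) (P : Subgroup G) : PP p P (cj g) :=
  ⟨_, h, fun x _ => by rw [← map_pow, pow_orderOf_eq_one, map_one, Perm.one_apply]⟩

theorem exists_normal_of_nml (hS : Syl p S ⊤) (hC : centralizerIn ⊤ (opm p (⊤ : Subgroup G)) ≤
    opm p ⊤) (hE : Nml p E (groupFusionSystem S)) : ∃ H : Subgroup G, (H.Normal ∧ Syl p T H ∧
      GrpFS E H) ∧ ∀ H' : Subgroup G, H'.Normal → Syl p T H' → GrpFS E H' → H' = H := by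
  have hF := grpFS_group S
  have sat := hE.satF
  have core := hF.core_eq hS hC
  have Qn : ∀ g : G, ∀ x ∈ opm p (⊤ : Subgroup G), g * x * g⁻¹ ∈ opm p ⊤ :=
    fun g => opm_conj g trivial
  have lq : ∀ C : Subgroup G, IsPGroup p C → (∀ g : G, ∀ x ∈ C, g * x * g⁻¹ ∈ C) → C ≤ opm p ⊤ :=
    fun C a b => le_opm le_top a fun g _ => b g
  have Un := fun g => ((hF.normal_iff hS hC).1 (hE.inv.core_normal sat)).2 g trivial
  generalize opm p (⊤ : Subgroup G) = Q at hC core Qn lq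
  have scQ : (groupFusionSystem S).StronglyClosed Q := core ▸ normal_sc (core_normal _)
  have cE := hE.inv.constrained sat hE.satE (sat.constrained_iff.2 (by
    rw [core]; exact (C_mono le_top Q).trans hC))
  have eU : E.core = Q ⊓ T := core ▸ hE.inv.core_eq sat hE.satE
  have UT := core_le E
  have tc := (hE.inv.centric_iff_tc UT).1 (hE.satE.nc cE).cen
  have fc := sat.fn_fc (sc_fn (normal_sc (hE.inv.core_normal sat)))
  have iU : ∀ g, Iso (groupFusionSystem S) E.core E.core (cj g) := fun g =>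
    hF.iso_cj (UT.trans hE.le) (mem_N_of_finite trivial (Un g))
  have scT := fun x hx g => (hF.sc_iff.1 hE.sc).2 x hx g trivial
  let H₀ : Subgroup G :=
    { carrier := {g | Iso E E.core E.core (cj g) ∧ ∀ q ∈ Q, q⁻¹ * cj g q ∈ E.core}
      one_mem' := ⟨by simpa using iso_refl E UT, by simp⟩
      mul_mem' := fun {a b} ha hb => by
        rw [Set.mem_setOf_eq, map_mul]; exact ⟨hb.1.trans ha.1, mod_mul (Qn b) hb.2 ha.2⟩
      inv_mem' := fun {a} ha => by
        rw [Set.mem_setOf_eq, map_inv]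
        exact ⟨ha.1.symm, mod_inv (fun x hx => by simpa using Qn a⁻¹ x hx) ha.2⟩ }
  have n0 : ∀ g, ∀ x ∈ H₀, g * x * g⁻¹ ∈ H₀ := fun g x hx => by
    refine show _ ∧ _ from ?_
    rw [map_mul, map_mul, map_inv]
    exact ⟨hE.inv.strong_iso (iU g) UT hx.1, mod_conj (homOn_cj ⊤ g) le_top (fun _ _ => trivial)
      (fun x _ => Un g x) hx.2 fun x hx => by simpa using Qn g⁻¹ x hx⟩
  have T0 : T ≤ H₀ := fun t ht => ⟨⟨mor_cj E UT ht, (iU t).mem⟩, fun q hq =>
    eU ▸ sc_comm scQ hE.sc hq ht⟩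
  have cQ : H₀ ⊓ centralizerIn ⊤ E.core ≤ Q := lq _ (fun c => by
    obtain ⟨k, a⟩ := pe_of_two (sat.pg.to_le scQ.1) (homOn_cj Q c) (eU.le.trans inf_le_left)
      (mem_C'.1 c.2.2).2 c.2.1.2
    obtain ⟨l, b⟩ := sat.pg.to_le scQ.1 ⟨_, hC (mem_C'.2 ⟨trivial, by
      simpa only [← map_pow, cj_apply] using a⟩)⟩
    exact ⟨k + l, Subtype.ext (by simpa [pow_add, pow_mul] using congrArg Subtype.val b)⟩)
    fun g x hx => ⟨n0 g x hx.1, C_conj_mem g (mem_N_of_finite (S := ⊤) trivial (Un g)) x hx.2⟩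
  have md : ∀ g ∈ H₀, (orderOf g).Coprime p → ∀ W, Q ≤ W → W ≤ S → (∀ x ∈ W, cj g x ∈ W) →
      ∀ x ∈ W, x⁻¹ * cj g x ∈ T := fun g a b W c d e x hx => by
    refine (pp_cj b W).mod (sat.pg.to_le d) (homOn_cj W g) e (D := T ⊔ Q) (fun x hx => ?_)
      (fun x hx f => ?_) hx
    · obtain ⟨t, f, k⟩ := hE.inv.mod_TC sat hE.satE fc (hF.iso_cj d (mem_N_of_finite trivial e))
        ((eU.le.trans inf_le_left).trans c) (fun y hy => mem_N_of_finite (d hy) (Un y)) a.1 hx
      simpa using mul_mem (Subgroup.mem_sup_left f.1) (Subgroup.mem_sup_right (cQ ⟨H₀.mul_mem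
        (H₀.inv_mem (T0 f.1)) (by simpa [mul_assoc] using H₀.mul_mem (n0 x⁻¹ g a) (H₀.inv_mem a)),
          C_mono le_top _ k⟩))
    · obtain ⟨t, ht, q, hq, rfl⟩ := (mem_sup_of_le_normalizer (le_normalizer_of_conj
        fun a _ => Qn a)).1 f
      have k := T.mul_mem (T.inv_mem ht) (scT t ht g (d (e t (by
        simpa using W.mul_mem hx (W.inv_mem (c hq))))))
      convert T.mul_mem (sc_conj hE.sc (S.inv_mem (scQ.1 hq)) k) (UT (a.2 q hq)) using 1
      simp only [cj_apply]; group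
  have Kn : ∀ g, ∀ x ∈ H2.resOf p H₀, g * x * g⁻¹ ∈ H2.resOf p H₀ := fun g x =>
    conj_mem_of_mem_normalizer (H2.normalizer_le_normalizer_resOf p H₀
      (mem_normalizer_of_finite (n0 g)))
  have S0 := hS.inf le_top fun g _ => n0 g
  have SK : S ⊓ H2.resOf p H₀ ≤ T := by
    have a := grpFS_subgroup (inf_le_right : S ⊓ H₀ ≤ H₀)
    refine le_trans (fun x hx => (a.hyp_eq S0).ge ⟨⟨hx.1, H2.resOf_le p _ hx.2⟩, hx.2⟩)
      (hyp_le_iff.2 fun P σ b c x hx => ?_)
    obtain ⟨g, d, e⟩ := a.exists_cj b.mor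
    obtain ⟨n, f, k⟩ := exists_pp_elt (fun _ => b.maps) c e
    rw [← k x hx]
    exact md _ (H₀.pow_mem d n) f (P ⊔ Q) le_sup_right (sup_le (b.le.trans inf_le_left) scQ.1)
      ((homOn_cj _ _).sup_maps (fun x hx => Subgroup.mem_sup_left (by
        rw [cj_apply, k x hx]; exact b.maps hx)) fun x hx => Subgroup.mem_sup_right (Qn _ x hx))
      x (Subgroup.mem_sup_left hx)
  have Hn : ∀ g, ∀ x ∈ H2.resOf p H₀ ⊔ T, g * x * g⁻¹ ∈ H2.resOf p H₀ ⊔ T := fun g =>
    (homOn_cj _ g).sup_maps (fun x hx => Subgroup.mem_sup_left (Kn g x hx)) fun t ht => by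
      obtain ⟨a, b, c⟩ := S0.conj (K := img (cj g) T) (img_le_iff.2 fun x hx => n0 g x (T0 hx))
        (img_cj g T ▸ hE.satE.pg.map _)
      obtain ⟨u, d, k, e, rfl⟩ := S0.sylIn.exists_mul_resOf b
      have f := sc_conj hE.sc (S.inv_mem d.1) (scT t ht (u * k * g) (by
        simpa [mul_assoc] using (c _ (apply_mem_img_of_mem _ ht)).1))
      convert mul_mem (mul_mem (Subgroup.mem_sup_left (Subgroup.inv_mem _ e))
        (Subgroup.mem_sup_right f)) (Subgroup.mem_sup_left e) using 1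
      simp only [cj_apply]; group
  have sy : Syl p T (H2.resOf p H₀ ⊔ T) := syl_sup_of_inf hE.satE.pg (le_normalizer_of_conj
    fun g _ => Kn g) (le_antisymm (inf_le_inf_right _ hE.le) (le_inf SK inf_le_right) ▸
      hS.inf le_top fun g _ => Kn g)
  have g' := grpFS_subgroup sy.le
  have hE' := hF.nml hS g' le_top (fun g _ => Hn g) (sy.eq_of_le inf_le_right sat.pg.to_inf_left
    (le_inf hE.le sy.le))
  have HH : H2.resOf p H₀ ⊔ T ≤ H₀ := sup_le (H2.resOf_le p _) T0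
  have oq : autInducedBy Q E.core ≤ opm p ((groupFusionSystem S).autGroup E.core) := le_opm
    (autInducedBy_le_autGroup _ scQ.1 tc.1) (isPGroup_autInducedBy (sat.pg.to_le scQ.1) _)
    (normalized_of_inK fun σ τ a b => by
      obtain ⟨g, -, c⟩ := hF.exists_cj ((inK_autGroup tc.1).1 a).mor
      obtain ⟨q, d, e⟩ := inK_autInducedBy.1 b
      refine inK_autInducedBy.2 ⟨_, mem_N_of_finite (Qn g q d.1) (Un _), fun x hx => ?_⟩
      obtain ⟨y, f, rfl⟩ := ((inK_autGroup tc.1).1 a).exists_eq hx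
      rw [Perm.mul_apply, Perm.mul_apply, pia, c _ (b.maps f), e y f, c y f]; group)
  have ee : E = _ := sub_antisymm (le_of_autU hE.satE hE.sub hE'.satE hE'.inv (core_normal E) tc
    fun α a b => by
      obtain ⟨β, c, d, e, f⟩ := hE.ext_pp fc tc a b
      obtain ⟨g, -, k⟩ := hF.exists_cj c.mor
      obtain ⟨n, l, m⟩ := exists_pp_elt (fun _ => c.maps) d k
      have q : ∀ x ∈ E.core, cj (g ^ n) x = α x := fun x hx => by
        rw [cj_apply, m x (Subgroup.mem_sup_left hx), e x hx]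
      have r := a.congr q
      refine (g'.mor_cj UT (Subgroup.mem_sup_left (H2.mem_resOf ⟨r, fun x hx => (pp_cj l Q).mod
        (sat.pg.to_le scQ.1) (homOn_cj _ _) (Qn _) (D := VC S E.core) (fun x hx => ?_)
          (fun x _ s => by rw [cj_apply, m x s]; exact f x s) hx⟩ l))
            fun x hx => UT (Un _ x hx)).congr fun x hx => (q x hx).symm
      have s := Q.mul_mem (Q.inv_mem hx) (Qn (g ^ n) x hx)
      have t : Iso E E.core E.core (cj (x⁻¹ * (g ^ n * x * (g ^ n)⁻¹))) := by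
        convert r.symm.trans (hE.inv.strong_iso (iU x⁻¹) UT r) using 1
        simp only [map_mul, map_inv]; group
      obtain ⟨u, v, w⟩ := hE.inv.exists_T sat hE.satE fc (mem_N_of_finite (scQ.1 s) (Un _)) t.mor
      refine mem_VC.2 ⟨u, hE.satE.mem_core_of_opm cE v.1 (InK.opm_sub hE.sub ((inK_autInducedBy.2
        ⟨_, mem_N_of_finite s (Un _), fun y hy => ?_⟩).mono oq) (iso_cj E UT v)), _, w,
          mul_inv_cancel_left _ _⟩
      rw [cj_apply, ← (mem_C'.1 w).2 y hy]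
      conv_rhs => rw [(mem_C'.1 w).2 y hy]
      group)
    (le_of_autU hE'.satE hE'.sub hE.satE hE.inv (g'.normal UT fun g _ => Un g) tc fun α a _ =>
      let ⟨g, b, c⟩ := g'.exists_cj a.mor
      (HH b).1.mor.congr c)
  refine ⟨_, ⟨⟨fun x hx g => Hn g x hx⟩, sy, g'.le, fun P σ => (mor_iff_of_hom_eq
    (congrArg (FusionSystem.Hom · P) ee) σ).trans (g'.iff P σ)⟩, fun H' a b c => ?_⟩
  have d : H' ≤ H₀ := fun h hh => ⟨c.iso_cj UT (mem_N_of_finite hh (Un h)), fun q hq => eU.ge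
    (have e := Q.mul_mem (Q.inv_mem hq) (Qn h q hq)
    ⟨e, b.le_of_normal (K := Q ⊓ H') inf_le_right (sat.pg.to_le scQ.1).to_inf_left
      (fun g _ x hx => ⟨Qn g x hx.1, a.conj_mem x hx.2 g⟩) ⟨e, by
        simpa [mul_assoc] using H'.mul_mem (a.conj_mem h hh q⁻¹) (H'.inv_mem hh)⟩⟩)⟩
  refine le_antisymm (b.sylIn.resOf_sup.ge.trans (sup_le_sup_right (H2.resOf_mono d) _))
    (sup_le (H2.resOf_le_iff.2 fun g e f => ?_) b.le)
  obtain ⟨h, k, l⟩ := c.exists_cj e.1.mor
  obtain ⟨n, m⟩ := sat.pg.to_le scQ.1 ⟨_, cQ ⟨H₀.mul_mem (H₀.inv_mem (d k)) e, mem_C'.2 ⟨trivial,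
    fun x hx => by
      calc _ = h⁻¹ * cj g x * h := by simp only [cj_apply]; group
        _ = x := by rw [l x hx]; group⟩⟩⟩
  refine mem_of_pow_coprime (a := p ^ n) ((QuotientGroup.eq_one_iff _).1 ?_)
    (pow_orderOf_eq_one g ▸ H'.one_mem) (f.symm.pow_left n)
  have := congrArg (fun x : Q => ((x : G) : G ⧸ H')) m
  simpa [(QuotientGroup.eq_one_iff h).2 k] using this

end

end Cfsg.Agent.H9
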