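import Cfsg.Agent.H9.SmB

/-!
Strongly closed generalized extraspecial subgroups.
-/

set_option autoImplicit false
set_option linter.unusedSectionVars false

namespace Cfsg.Agent.H9

open Cfsg Cfsg.FusionSystem Equiv
open scoped commutatorElement

variable {Ω : Type*} [Group Ω] {S : Subgroup Ω} [Finite S] {p : ℕ} [hp : Fact p.Prime]
  {F : FusionSystem S} {P Q R T U V W A B C D E Z Y : Subgroup Ω} {σ τ χ α β γ : Perm Ω}

/-- The automorphisms induced by a strongly closed subgroup are strongly closed. -/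
theorem Sat.sc_aut (h : Sat p F) (hP : F.StronglyClosed P) (hV : F.IsFullyCentralized V)
    (hγ : Iso F U V γ) {g s : Ω} (hg : g ∈ P) (hg' : g ∈ normalizerIn S U) (hs : s ∈ S)
    (e : ∀ x ∈ U, γ (g * x * g⁻¹) = s * γ x * s⁻¹) : ∃ τ, Mor F (U ⊔ Subgroup.zpowers g) τ ∧
      (∀ x ∈ U, τ x = γ x) ∧ τ g ∈ P ∧ ∀ x ∈ U, γ (g * x * g⁻¹) = τ g * γ x * (τ g)⁻¹ := by
  obtain ⟨τ, hτ, e'⟩ := (isReceptive_iff.1 (h.fc_recep hV)).2 U _ hγ
  have m : g ∈ extN S U γ := mem_extN.2 ⟨hg', s, hs, e⟩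
  have l := hγ.mor.le_extN
  exact ⟨τ, hτ.mono (sup_le l (Subgroup.zpowers_le.2 m)), e', sc_mem hP hτ m hg, fun x hx => by
    rw [← e' x hx, ← hτ.map_conj m (l hx), e' _ (conj_mem_of_mem_N hg' hx)]⟩

omit [Finite S] hp in
theorem exists_small_comm [Finite W] (hab : ∀ x ∈ W, ∀ y ∈ W, x * y = y * x) {n : ℕ}
    (he : ∀ x ∈ W, x ^ n = 1) :
    ∃ (A : Type) (_ : CommGroup A), (∀ a : A, a ^ n = 1) ∧ Nonempty (W ≃* A) := by
  obtain ⟨A, i, _, ⟨q⟩⟩ := Finite.exists_type_univ_nonempty_mulEquiv.{_, 0} W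
  refine ⟨A, { i with mul_comm := fun x y => ?_ }, fun x => ?_, ⟨q⟩⟩
  · obtain ⟨x, rfl⟩ := q.surjective x
    obtain ⟨y, rfl⟩ := q.surjective y
    rw [← map_mul, ← map_mul]
    exact congrArg q (Subtype.ext (hab x x.2 y y.2))
  · obtain ⟨x, rfl⟩ := q.surjective x
    exact (map_pow q x n).symm.trans (by rw [show x ^ n = 1 from Subtype.ext (he x x.2), map_one])

/-- A strongly closed subgroup whose Frattini subgroup is generated by `a`, of order `p`. -/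
structure GE (p : ℕ) (F : FusionSystem S) (P : Subgroup Ω) (a : Ω) : Prop where
  sat : Sat p F
  sc : F.StronglyClosed P
  ne : a ≠ 1
  pa : a ^ p = 1
  comm : Subgroup.zpowers a = ⁅P, P⁆
  pow : ∀ x ∈ P, x ^ p ∈ Subgroup.zpowers a

namespace GE
variable {a b g k x : Ω}

theorem fin (h : GE p F P a) : Finite P := finite_of_le h.sc.1
theorem pg (h : GE p F P a) : IsPGroup p P := h.sat.pg.to_le h.sc.1
theorem le (h : GE p F P a) : Subgroup.zpowers a ≤ P :=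
  have := h.fin; h.comm ▸ P.commutator_le_self
theorem mem (h : GE p F P a) : a ∈ P := h.le (Subgroup.mem_zpowers a)
theorem th (h : GE p F P a) (hx : x ∈ P) (hg : g ∈ P) : x⁻¹ * (g * x * g⁻¹) ∈ Subgroup.zpowers a :=
  have := h.fin; h.comm ▸ Ix.th_mem hx hg
theorem conj (h : GE p F P a) (h1 : a ∈ V) (h2 : V ≤ P) : ∀ g ∈ P, ∀ x ∈ V, g * x * g⁻¹ ∈ V :=
  have := h.fin; Ix.conj_mem (h.comm ▸ Subgroup.zpowers_le.2 h1) h2
theorem cen (h : GE p F P a) : ∀ g ∈ P, ∀ x ∈ Subgroup.zpowers a, g * x * g⁻¹ = x := fun _ hg _ hx =>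
  have := h.fin
  fix_of_card h.pg h.le (h.conj (Subgroup.mem_zpowers a) h.le) (card_zpowers_le h.pa) hg hx
theorem le_Z (h : GE p F P a) : Subgroup.zpowers a ≤ centralizerIn P P := fun x hx =>
  mem_C.2 ⟨h.le hx, fun g hg => mul_inv_eq_iff_eq_mul.1 (h.cen g hg x hx)⟩
theorem le_N (h : GE p F P a) (h1 : a ∈ V) (h2 : V ≤ P) : P ≤ normalizerIn S V := fun g hg =>
  have := finite_of_le (h2.trans h.sc.1)
  mem_N_of_finite (h.sc.1 hg) (h.conj h1 h2 g hg)
theorem maps (h : GE p F P a) (hσ : Iso F P P σ) : ∀ x ∈ Subgroup.zpowers a,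
    σ x ∈ Subgroup.zpowers a := fun x hx =>
  (h.comm ▸ ainv_self.comm ainv_self le_rfl le_rfl : AInv F P _) σ hσ x (h.le hx) hx

theorem not_fix (h : GE p F P a) (hV : F.IsFullyNormalized V) (h1 : a ∈ V) (h2 : V ≤ P)
    (hC : centralizerIn P V ≤ V) (hβ : Iso F V V β) (hb : β a ∉ Subgroup.zpowers a)
    (hk : k ∈ P) (hk' : k ∉ V) : k * β⁻¹ a * k⁻¹ ≠ β⁻¹ a := fun e => by
  have := finite_of_le hV.1
  have hN := h.le_N h1 h2
  have l := Subgroup.zpowers_le.2 h1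
  have hm : ∀ x, x ∈ img β (centralizerIn V (Subgroup.zpowers k)) ↔
      β⁻¹ x ∈ V ∧ β⁻¹ x * k = k * β⁻¹ x := fun x => by
    rw [(hβ.homOn.mono (C_le _ _)).mem_img, mem_C_zpowers, eq_comm]
  have hB : img β (centralizerIn V (Subgroup.zpowers k)) ≤ V := fun x hx => by
    simpa using hβ.maps ((hm x).1 hx).1
  have hAB : Subgroup.zpowers a ≤ img β (centralizerIn V (Subgroup.zpowers k)) :=
    Subgroup.zpowers_le.2 ((hm a).2 ⟨hβ.inv_maps h1, (mul_inv_eq_iff_eq_mul.1 e).symm⟩)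
  obtain ⟨K, hK, hK'⟩ := exists_stab (h.sat.pg.to_le hV.1) 3 (ch4 (Subgroup.zpowers a)
    (img β (centralizerIn V (Subgroup.zpowers k))) V V) rfl rfl (fun i => by
      match i with
      | 0 => exact bot_le
      | 1 => exact hAB
      | 2 => exact hB
      | 3 => exact le_rfl
      | n + 4 => exact le_rfl)
  have t := iso_cj F hV.1 (hN hk)
  have s := (hβ.symm.trans t).trans hβ
  have fx : ∀ x ∈ img β (centralizerIn V (Subgroup.zpowers k)), (β * (cj k * β⁻¹)) x = x :=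
    fun x hx => by
      rw [Perm.mul_apply, Perm.mul_apply, cj_apply, ← ((hm x).1 hx).2, mul_inv_cancel_right, pai]
  have k1 := (hK' _ t.inK_top fun i hi => by
    match i with
    | 0 => exact fun x hx => by simp [ch4, h.cen k hk x hx]
    | 1 => exact fun x hx => h.th (h2 (hB hx)) hk
    | 2 => exact fun x hx => hAB (h.th (h2 hx) hk)).inf ((inK_autGroup hV.1).2 t)
  have k2 := (hK' _ s.inK_top fun i hi => by
    match i with
    | 0 => exact fun x hx => by rw [fx x (hAB hx)]; simp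
    | 1 => exact fun x hx => by rw [fx x hx]; simp
    | 2 =>
      intro x hx
      have hy := hβ.inv_maps hx
      have hz := conj_mem_of_mem_N (hN hk) hy
      change _ ∈ img β _
      rw [hm, Perm.mul_apply, Perm.mul_apply, cj_apply, hβ.symm.homOn.map_mul (V.inv_mem hx)
        (hβ.maps hz), hβ.symm.homOn.map_inv hx, pia]
      exact ⟨V.mul_mem (V.inv_mem hy) hz,
        (mul_inv_eq_iff_eq_mul.1 (h.cen k hk _ (h.th (h2 hy) hk))).symm⟩).inf
    ((inK_autGroup hV.1).2 s)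
  obtain ⟨γ, hγ, e'⟩ := fa_conj (h.sat.fn_fa hV) (iso_refl F hV.1) _ inf_le_right
    (hK.to_le inf_le_left)
  obtain ⟨y, hy, hy'⟩ : ∃ y ∈ V, y⁻¹ * (k * y * k⁻¹) ≠ 1 := by
    by_contra c
    push Not at c
    exact hk' (hC (mem_C'.2 ⟨hk, fun y hy => (inv_mul_eq_one.1 (c y hy)).symm⟩))
  have key : ∀ δ, Iso F V V δ → (∃ s ∈ S, ∀ x ∈ V, δ (k * x * k⁻¹) = s * δ x * s⁻¹) →
      δ a ∈ Subgroup.zpowers a := by
    rintro δ hδ ⟨s, hs, e⟩
    obtain ⟨τ, -, -, m, e⟩ := h.sat.sc_aut h.sc (h.sat.fn_fc hV) hδ hk (hN hk) hs e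
    obtain ⟨n, hn⟩ := (zpowers_eq_of_mem h.pa (h.th (h2 hy) hk) hy').ge (Subgroup.mem_zpowers a)
    simp only at hn
    have hz := conj_mem_of_mem_N (hN hk) hy
    rw [← hn, hδ.homOn.map_zpow (V.mul_mem (V.inv_mem hy) hz), hδ.homOn.map_mul (V.inv_mem hy) hz,
      hδ.homOn.map_inv hy, e y hy, hn]
    exact Subgroup.zpow_mem _ (h.th (h2 (hδ.maps hy)) m) _
  obtain ⟨u, hu, eu⟩ := k1
  obtain ⟨s1, hs1, e1⟩ := e' u hu
  obtain ⟨v, hv, ev⟩ := k2
  obtain ⟨s2, hs2, e2⟩ := e' v hv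
  have m1 := key γ hγ ⟨s1, hs1.1, fun x hx => by rw [← e1 ⟨x, hx⟩, eu]; rfl⟩
  have m2 := key _ (hβ.trans hγ) ⟨s2, hs2.1, fun x hx => by
    have := e2 ⟨β x, hβ.maps hx⟩
    rw [ev] at this
    simpa using this⟩
  have m3 : ∀ x ∈ Subgroup.zpowers a, γ x ∈ Subgroup.zpowers a := by
    rintro _ ⟨n, rfl⟩
    simp only
    rw [hγ.homOn.map_zpow h1]
    exact Subgroup.zpow_mem _ m1 _
  exact hb (by simpa using hγ.inv_maps_of l m3 _ m2)

/-- The structure of `P` when it has a suitable elementary abelian subgroup. -/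
theorem struct (h : GE p F P a) (hV : F.IsFullyNormalized V) (h1 : a ∈ V) (h2 : V < P)
    (hC : centralizerIn P V ≤ V) (hab : ∀ x ∈ V, ∀ y ∈ V, x * y = y * x) (he : ∀ x ∈ V, x ^ p = 1)
    (hβ : Iso F V V β) (hb : β a ∉ Subgroup.zpowers a) : ∃ E ≤ P, ∃ W ≤ V, Nat.card E = p ^ 3 ∧
      (∃ b ∈ E, b ^ p = 1 ∧ b ∉ centralizerIn E E) ∧ Nonempty (P ≃* E × W) ∧
      (p ≠ 2 → ∀ x ∈ P, x ^ p = 1) := by
  have := h.fin
  have := finite_of_le h2.le
  have hN := h.le_N h1 h2.le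
  have n1 := fun k hk hk' => h.not_fix (k := k) hV h1 h2.le hC hβ hb hk hk'
  have n2 := fun k hk hk' => h.not_fix (k := k) hV h1 h2.le hC hβ.symm
    (fun e => hb (hβ.inv_mem_zpowers h1 e)) hk hk'
  simp only [inv_inv] at n2
  have hb1 := hβ.maps h1
  have hb2 := hβ.inv_maps h1
  have : Finite (Subgroup.zpowers a) := finite_of_le h.le
  obtain ⟨x, hx, hx'⟩ := SetLike.exists_of_lt h2
  have c1 := card_le_C_of_th (Q := P) (b := β a) (card_zpowers_le h.pa)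
    (fun x hx d hd => (mem_C.1 (h.le_Z hd)).2 x hx) fun x hx => h.th (h2.le hb1) hx
  have l1 : centralizerIn P (Subgroup.zpowers (β a)) ≤ V := fun k hk => by
    by_contra hk'
    exact n2 k hk.1 hk' (by rw [← (mem_C_zpowers.1 hk).2, mul_inv_cancel_right])
  have j : AbI p P V := ⟨h.pg, h2.le, hab, le_antisymm (c1.trans (Nat.mul_le_mul_left _
    (Subgroup.card_le_of_le l1))) (mul_card_le_of_lt h.pg h2), fun e =>
      hx' (hC (mem_C.2 ⟨hx, fun y hy => e y (h2.le hy) x hx⟩))⟩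
  have cV := j.card_A
  rw [← h.comm, card_zpowers_eq h.pa h.ne, mul_comm] at cV
  have nz : ∀ y, x * y * x⁻¹ ≠ y → y ∉ centralizerIn P P := fun y e hy =>
    e (mul_inv_eq_iff_eq_mul.2 ((mem_C.1 hy).2 x hx))
  have z1 := nz _ (n1 x hx hx')
  have z2 := nz _ (n2 x hx hx')
  have hm := hβ.homOn.mono j.ZA
  have aZ := h.le_Z (Subgroup.mem_zpowers a)
  have aW : a ∉ centralizerIn P P ⊓ img β (centralizerIn P P) := fun e => z1 (hm.mem_img.1 e.2)
  have eZ : centralizerIn P P ⊓ img β (centralizerIn P P) ⊔ Subgroup.zpowers a =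
      centralizerIn P P := sup_zpowers_eq (h.pg.to_le (C_le _ _)) inf_le_left (by
    have := card_inf_le (A := img β (centralizerIn P P)) (B := V) (n := p)
      (img_le_iff.2 fun y hy => hβ.maps (j.ZA hy)) (by rw [hm.card_img, cV]) (centralizerIn P P)
    rwa [inf_eq_right.2 j.ZA, inf_comm] at this) aZ aW
  have eV := sup_zpowers_eq (h.pg.to_le h2.le) j.ZA cV.le hb1 z2
  have eP := j.gen hx hx'
  have l2 := sup_le h.le (Subgroup.zpowers_le.2 (h2.le hb1))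
  have l3 := sup_le l2 (Subgroup.zpowers_le.2 hx)
  have := finite_of_le l2
  have := finite_of_le l3
  have ma : ∀ y, a ∈ Subgroup.zpowers a ⊔ Subgroup.zpowers y := fun y =>
    Subgroup.mem_sup_left (Subgroup.mem_zpowers a)
  have mb : β a ∈ Subgroup.zpowers a ⊔ Subgroup.zpowers (β a) ⊔ Subgroup.zpowers x :=
    Subgroup.mem_sup_left (Subgroup.mem_sup_right (Subgroup.mem_zpowers _))
  have mx : x ∈ Subgroup.zpowers a ⊔ Subgroup.zpowers (β a) ⊔ Subgroup.zpowers x :=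
    Subgroup.mem_sup_right (Subgroup.mem_zpowers _)
  have c2 := card_sup_zpowers_le (h.conj (Subgroup.mem_zpowers a) h.le _ (h2.le hb1))
    (h.pow _ (h2.le hb1))
  have c3 := card_sup_zpowers_le (h.conj (ma _) l2 _ hx) (Subgroup.mem_sup_left (h.pow _ hx))
  rw [card_zpowers_eq h.pa h.ne] at c2
  have nb : β a ∉ centralizerIn (Subgroup.zpowers a ⊔ Subgroup.zpowers (β a) ⊔ Subgroup.zpowers x)
      (Subgroup.zpowers a ⊔ Subgroup.zpowers (β a) ⊔ Subgroup.zpowers x) := fun e =>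
    n2 x hx hx' (mul_inv_eq_iff_eq_mul.2 ((mem_C.1 e).2 x mx))
  have na : ¬ ∀ y ∈ Subgroup.zpowers a ⊔ Subgroup.zpowers (β a) ⊔ Subgroup.zpowers x,
      ∀ z ∈ Subgroup.zpowers a ⊔ Subgroup.zpowers (β a) ⊔ Subgroup.zpowers x, y * z = z * y :=
    fun e => nb (mem_C.2 ⟨mb, fun y hy => e y hy _ mb⟩)
  have c4 : Nat.card (Subgroup.zpowers a ⊔ Subgroup.zpowers (β a) ⊔ Subgroup.zpowers x :
      Subgroup Ω) = p ^ 3 := by
    obtain ⟨n, hn⟩ := IsPGroup.iff_card.1 (h.pg.to_le l3)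
    have d1 := c3.trans (Nat.mul_le_mul_left _ c2)
    have d2 := mt (comm_of_card_le (h.pg.to_le l3)) na
    rw [hn] at d1 d2 ⊢
    rw [show p * (p * p) = p ^ 3 by ring] at d1
    rw [Nat.pow_le_pow_iff_right hp.out.one_lt] at d1 d2
    congr 1; omega
  obtain ⟨f, -⟩ := prod_equiv (R := P) (A := Subgroup.zpowers a ⊔ Subgroup.zpowers (β a) ⊔
      Subgroup.zpowers x) (B := centralizerIn P P ⊓ img β (centralizerIn P P))
    (le_antisymm (sup_le l3 (inf_le_left.trans (C_le _ _))) (eP.ge.trans (sup_le (eV.ge.trans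
      (sup_le (eZ.ge.trans (sup_le le_sup_right (le_sup_of_le_left (le_sup_of_le_left le_sup_left))))
      (le_sup_of_le_left (le_sup_of_le_left le_sup_right)))) (le_sup_of_le_left le_sup_right))))
    (fun y hy hy' => by
      by_contra e
      obtain ⟨-, d1, -⟩ := ix_of_cube (h.pg.to_le l3) c4 na
      have k : ∀ y ∈ Subgroup.zpowers a ⊔ Subgroup.zpowers (β a) ⊔ Subgroup.zpowers x,
          y ∈ centralizerIn P P → y ∈ centralizerIn _ _ := fun y hy hy' =>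
        mem_C.2 ⟨hy, fun u hu => (mem_C.1 hy').2 u (l3 hu)⟩
      have d2 := Subgroup.eq_of_le_of_card_ge (Subgroup.zpowers_le.2
        (k a (Subgroup.mem_sup_left (ma _)) aZ)) (by rw [d1, card_zpowers_eq h.pa h.ne])
      exact aW (Subgroup.zpowers_le.2 hy' ((zpowers_eq_of_mem h.pa (d2.ge (k y hy hy'.1)) e).ge
        (Subgroup.mem_zpowers a))))
    fun y hy u hu => (mem_C.1 hu.1).2 y (l3 hy)
  refine ⟨_, l3, _, inf_le_left.trans j.ZA, c4, ⟨_, mb, he _ hb1, nb⟩, ⟨f.symm⟩, fun hp2 => ?_⟩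
  have hf := pHom_pow_odd (R := P) hp2 (h.comm ▸ h.le_Z)
    (h.comm ▸ fun y hy => he y (Subgroup.zpowers_le.2 h1 hy))
  have ht := iso_cj F hV.1 (hN hx)
  have cz : ∀ y ∈ centralizerIn P P, x * y * x⁻¹ = y := fun y hy =>
    mul_inv_eq_iff_eq_mul.2 ((mem_C.1 hy).2 x hx)
  obtain ⟨σ, i, e1, e2⟩ := sl2_ab hab (Tv.fixM F V (centralizerIn P P ⊓ img β (centralizerIn P P))
    hβ.le) (fun σ c => ⟨c.1.homOn, fun _ => c.1.maps⟩) ⟨ht, fun y hy => cz y hy.1⟩
    ⟨by rw [mul_assoc]; exact (hβ.symm.trans ht).trans hβ, fun y hy => by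
      simp only [Perm.mul_apply, cj_apply, cz _ (hm.mem_img.1 hy.2), pai]⟩
    hβ.homOn hβ.mem h1 h.pa (fun y hy => h.th (h2.le hy) hx) (cz a aZ) (n2 x hx hx') (n1 x hx hx')
    (l := -1) (m := -1) (by simp)
  have inv : ∀ y ∈ Subgroup.zpowers a, σ y = y⁻¹ := by
    rintro _ ⟨n, rfl⟩
    simp only
    rw [i.1.homOn.map_zpow h1, e1]; simp
  have sZ : ∀ y ∈ centralizerIn P P, σ y ∈ centralizerIn P P := by
    have := i.1.homOn.mono j.ZA
    rw [← eZ] at this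
    intro y hy
    refine this.sup_maps (fun y hy => by rw [i.2 y hy]; exact hy.1) (fun y hy => ?_) y (eZ.ge hy)
    rw [inv y hy]; exact Subgroup.inv_mem _ (h.le_Z hy)
  have cm : ∀ y ∈ V, σ (x * y * x⁻¹) = x * σ y * x⁻¹ := by
    have a1 := (ht.trans i.1).homOn
    have a2 := (i.1.trans ht).homOn
    rw [← eV] at a1 a2 ⊢
    refine a1.eqOn_sup a2 (fun y hy => by simp [cz y hy, cz _ (sZ y hy)]) ?_
    rintro _ ⟨n, rfl⟩
    simp only
    rw [(ht.trans i.1).homOn.map_zpow hb1, (i.1.trans ht).homOn.map_zpow hb1]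
    congr 1
    have m := h.th (h2.le hb1) hx
    have m' := Subgroup.zpowers_le.2 h1 m
    rw [Perm.mul_apply, Perm.mul_apply, cj_apply, cj_apply, ← mul_inv_cancel_left (β a) (x * _ * _),
      i.1.homOn.map_mul hb1 m', inv _ m, e2, zpow_neg_one, hab _ (V.inv_mem hb1) _ (V.inv_mem m')]
    group
  obtain ⟨τ, t1, t2, t3, t4⟩ := h.sat.sc_aut h.sc (h.sat.fn_fc hV) i.1 hx (hN hx) (h.sc.1 hx) cm
  have m : x⁻¹ * τ x ∈ V := hC (mem_C'.2 ⟨P.mul_mem (P.inv_mem hx) t3, fun y hy => by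
    obtain ⟨y, hy', rfl⟩ := i.1.exists_eq hy
    have := (t4 y hy').symm.trans (cm y hy')
    calc x⁻¹ * τ x * σ y * (x⁻¹ * τ x)⁻¹ = x⁻¹ * (τ x * σ y * (τ x)⁻¹) * x := by group
      _ = _ := by rw [this]; group⟩)
  have e3 := hf x hx _ (h2.le m)
  simp only [mul_inv_cancel_left, he _ m, mul_one] at e3
  rw [← t1.homOn.map_pow (Subgroup.mem_sup_right (Subgroup.mem_zpowers x)),
    t2 _ (Subgroup.zpowers_le.2 h1 (h.pow x hx)), inv _ (h.pow x hx)] at e3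
  have e4 : x ^ p = 1 := eq_one_of_pow_coprime h.pg (P.pow_mem hx p) (n := 2)
    ((Nat.coprime_primes Nat.prime_two hp.out).2 hp2.symm) (by
      rw [pow_two]; nth_rw 1 [← e3]; simp)
  have : V ⊔ Subgroup.zpowers x ≤ pre P (fun x => x ^ p) ⊥ := sup_le
    (fun y hy => hf.mem_pre.2 ⟨h2.le hy, he y hy⟩) (Subgroup.zpowers_le.2 (hf.mem_pre.2 ⟨hx, e4⟩))
  exact fun y hy => (hf.mem_pre.1 (this (eP.ge hy))).2

theorem normal_or (h : GE p F P a) : F.IsNormal P ∨ ∃ E ≤ P, ∃ W ≤ P, Nat.card E = p ^ 3 ∧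
    (∃ b ∈ E, b ^ p = 1 ∧ b ∉ centralizerIn E E) ∧ Nonempty (P ≃* E × W) ∧
    (p ≠ 2 → ∀ x ∈ P, x ^ p = 1) ∧ (∀ x ∈ W, ∀ y ∈ W, x * y = y * x) ∧ ∀ x ∈ W, x ^ p = 1 := by
  have := h.fin
  refine or_iff_not_imp_right.2 fun hn => h.sat.normal_of_sc_le h.sc fun R _ hc hr =>
    le_of_N_le' h.sat.pg hc.1 h.sc.1 (fun g hg x hx => sc_conj h.sc (hc.1 hg) hx) fun g hg hg' => ?_
  by_contra hgR
  have hC := C_inf_le_of_cr h.sat.pg h.sc hc hr
  have aV : a ∈ R ⊓ P := ⟨hC (C_anti _ inf_le_right (h.le_Z (Subgroup.mem_zpowers a))), h.mem⟩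
  obtain ⟨β, hβ, hb⟩ : ∃ β, Iso F R R β ∧ β a ∉ Subgroup.zpowers a := by
    by_contra c
    push Not at c
    refine hgR (mem_of_chain3 h.sat.pg hc hr ⟨h.sc.1 hg, hg'⟩ (A := Subgroup.zpowers a)
      (B := R ⊓ P) ?_ (ainv_self.inf (ainv_sc h.sc)) (h.cen g hg) (fun x hx => h.th hx.2 hg)
      fun x hx => ⟨R.mul_mem (R.inv_mem hx) (conj_mem_of_mem_normalizer hg' hx), ?_⟩)
    · rintro τ hτ _ - ⟨n, rfl⟩
      simp only
      rw [hτ.homOn.map_zpow aV.1]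
      exact Subgroup.zpow_mem _ (c τ hτ) _
    · have := P.mul_mem (sc_conj h.sc (S.inv_mem (hc.1 hx)) hg) (P.inv_mem hg)
      simpa [mul_assoc] using this
  have hβ := hβ.inf h.sc
  have key : ∀ y ∈ R ⊓ P, y ∈ Subgroup.zpowers a → β y ∈ Subgroup.zpowers a → y = 1 :=
    fun y hy h1 h2 => by
      by_contra e
      obtain ⟨n, hn⟩ := (zpowers_eq_of_mem h.pa h1 e).ge (Subgroup.mem_zpowers a)
      simp only at hn
      exact hb (by rw [← hn, hβ.homOn.map_zpow hy, hn]; exact Subgroup.zpow_mem _ h2 _)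
  have cm : ∀ x ∈ P, ∀ y ∈ P, ⁅x, y⁆ ∈ Subgroup.zpowers a := fun x hx y hy =>
    h.comm ▸ Subgroup.commutator_mem_commutator hx hy
  have hab : ∀ x ∈ R ⊓ P, ∀ y ∈ R ⊓ P, x * y = y * x := fun x hx y hy =>
    commutatorElement_eq_one_iff_mul_comm.1 (key _ (Subgroup.zpowers_le.2 aV (cm x hx.2 y hy.2))
      (cm x hx.2 y hy.2) (by
        rw [hβ.homOn.map_commutator hx hy]; exact cm _ (hβ.maps hx).2 _ (hβ.maps hy).2))
  have he : ∀ x ∈ R ⊓ P, x ^ p = 1 := fun x hx => key _ (Subgroup.pow_mem _ hx _) (h.pow x hx.2) (by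
    rw [hβ.homOn.map_pow hx]; exact h.pow _ (hβ.maps hx).2)
  obtain ⟨V, χ, c1, c2, c3⟩ := h.sat.exists_fn hβ.le
  have c4 := sc_iso h.sc (c1.mono (h.le_N aV inf_le_right))
  have hV : V ≤ P := fun y hy => by simpa using c4.maps (c2.inv_maps hy).2
  have ab' : ∀ x ∈ V, ∀ y ∈ V, x * y = y * x := fun x hx y hy => by
    obtain ⟨u, hu, rfl⟩ := c2.exists_eq hx
    obtain ⟨v, hv, rfl⟩ := c2.exists_eq hy
    rw [← c2.homOn.map_mul hu hv, hab u hu v hv, c2.homOn.map_mul hv hu]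
  have he' : ∀ x ∈ V, x ^ p = 1 := fun x hx => by
    obtain ⟨u, hu, rfl⟩ := c2.exists_eq hx
    rw [← c2.homOn.map_pow hu, he u hu, c2.mor.map_one]
  have m := h.maps c4.symm a (Subgroup.mem_zpowers a)
  obtain ⟨E, e1, W, e2, e3, e4, e5, e6⟩ := h.struct c3 ((c2.inv_iff a).1
    (Subgroup.zpowers_le.2 aV m)) (lt_of_le_of_ne hV fun e => hgR ((c2.mem g).1 (e ▸ c4.maps hg)).1)
    ((h.sat.tc_of_cr h.sc hc hr).2 _ _ c2) ab' he' ((c2.symm.trans hβ).trans c2) fun e => by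
      have := key _ (Subgroup.zpowers_le.2 aV m) m (by simpa using h.maps c4.symm _ e)
      exact h.ne (by simpa [c4.mor.map_one] using congrArg χ this)
  exact hn ⟨E, e1, W, e2.trans hV, e3, e4, e5, e6, fun x hx y hy => ab' x (e2 hx) y (e2 hy),
    fun x hx => he' x (e2 hx)⟩

end GE

theorem Sat.normal_of_ges (h : Sat p F) (hP : F.StronglyClosed P)
    (hge : frattini P = commutator P ∧ Nat.card (commutator P) = p)
    (h2 : p = 2 → ¬ ∃ (A : Type) (_ : CommGroup A), (∀ a : A, a ^ 2 = 1) ∧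
      Nonempty (P ≃* DihedralGroup 4 × A))
    (hodd : p ≠ 2 → ¬ ∃ (E : Type) (_ : Group E) (A : Type) (_ : CommGroup A), IsExtraspecial p E ∧
      Nat.card E = p ^ 3 ∧ Monoid.exponent E = p ∧ (∀ a : A, a ^ p = 1) ∧ Nonempty (P ≃* E × A)) :
    F.IsNormal P := by
  have := finite_of_le hP.1
  have hPp := h.pg.to_le hP.1
  have c : Nat.card (⁅P, P⁆ : Subgroup Ω) = p := by rw [← map_commutator_eq, card_map_subtype, hge.2]
  have := finite_of_le P.commutator_le_self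
  obtain ⟨a, a1, a2⟩ := exists_orderOf_prime (hPp.to_le P.commutator_le_self) (fun e => by
    rw [e] at c; exact hp.out.one_lt.ne (by simpa using c))
  have a3 := Subgroup.eq_of_le_of_card_ge (Subgroup.zpowers_le.2 a1) (by
    rw [c, Nat.card_zpowers, a2])
  have g : GE p F P a := ⟨h, hP, by rintro rfl; exact hp.out.one_lt.ne (by simpa using a2),
    a2 ▸ pow_orderOf_eq_one a, a3, fun x hx => by
      rw [a3, ← map_commutator_eq, ← hge.1]
      exact ⟨_, H1.pow_mem_frattini hPp ⟨x, hx⟩, rfl⟩⟩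
  refine g.normal_or.resolve_right ?_
  rintro ⟨E, e1, W, e2, e3, ⟨b, b1, b2, b3⟩, ⟨f⟩, e6, e7, e8⟩
  have := finite_of_le e1
  have := finite_of_le e2
  obtain ⟨A, i, hA, ⟨q⟩⟩ := exists_small_comm e7 e8
  by_cases hp2 : p = 2
  · subst hp2
    obtain ⟨d⟩ := dihedral_of_card (hPp.to_le e1) e3 b1 b2 b3
    exact h2 rfl ⟨A, i, hA, ⟨f.trans (d.prodCongr q)⟩⟩
  · obtain ⟨E', _, _, ⟨d⟩⟩ := Finite.exists_type_univ_nonempty_mulEquiv.{_, 0} E
    refine hodd hp2 ⟨E', inferInstance, A, i, extraspecial_equiv (extraspecial_of_cube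
      (hPp.to_le e1) e3 fun e => b3 (mem_C.2 ⟨b1, fun y hy => e y hy b b1⟩)) d,
      by rw [← Nat.card_congr d.toEquiv, e3], ?_, hA, ⟨f.trans (d.prodCongr q)⟩⟩
    have : Nontrivial E := (Subgroup.nontrivial_iff_ne_bot _).2 fun e => b3 (by
      rw [Subgroup.mem_bot.1 (e.le b1)]; exact one_mem _)
    rw [← Monoid.exponent_eq_of_mulEquiv d]
    exact (Monoid.exponent_eq_prime_iff hp.out).2 fun x hx => orderOf_eq_prime
      (Subtype.ext (e6 hp2 x (e1 x.2))) hx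

end Cfsg.Agent.H9
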