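import Cfsg.Agent.H9.GlM

/-!
Normality of `J(S)` in class two, and generation of a fusion system by `C(℧¹ Z(S))` and `N(J(S))`.
-/

set_option autoImplicit false
set_option linter.unusedSectionVars false

namespace Cfsg.Agent.H9

open Subgroup Cfsg.Agent.H2 Cfsg.Agent.BG Cfsg.FusionSystem Equiv
open Cfsg.Agent.H8 (Op Opp SN)
open scoped commutatorElement

universe u

section grp
variable {G : Type u} [Group G] [Finite G] {p : ℕ} [hp : Fact p.Prime] {S M V : Subgroup G}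

theorem resOf_top_le_of_sup (hS : IsPGroup p S) {N : Subgroup G} [N.Normal] (h : S ⊔ N = ⊤) :
    resOf p (⊤ : Subgroup G) = resOf p N := by
  rw [← h]
  exact (H8.resOf_eq_of_le (H8.resOf_sup_le_of_le le_normalizer_of_normal
    (by rw [resOf_eq_bot_of_isPGroup hS]; exact bot_le)) le_sup_right).symm

theorem qd_of_MA {e : ℕ} (hS : SylIn p S ⊤) (hmax : ∀ K, S ≤ K → K ≠ ⊤ → K ≤ M) (hM : ¬ ⊤ ≤ M)
    (hSM : S ≤ M) [V.Normal] (hVS : V ≤ S) (hV : AE e V) (hres : ¬ resOf p (⊤ : Subgroup G) ≤ 𝒞 V)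
    (hO : pCore p G ≤ 𝒞 V) (hJ : ¬ (JJ e S).Normal) : H2.Sec (qd p) G := by
  have k0 : ∀ N : Subgroup G, N.Normal → resOf p N ≤ 𝒞 V → S ⊓ N ≤ pCore p G := fun N _ h =>
    frat_max hS hmax hM (le_sup_right.trans (hmax (S ⊔ N) le_sup_left fun e =>
      hres (by rwa [resOf_top_le_of_sup hS.pgrp e])))
  have hJ' : ¬ JJ e S ≤ 𝒞 V := fun h => hJ (by
    rw [← JJ_eq_of_le ((le_inf (JJ_le e S) h).trans (k0 _ inferInstance (resOf_le p _))) hS.pCore_le]
    exact H8.normal_of_top_le (le_normalizer_of_normal.trans (normalizer_le_JJ e _)))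
  obtain ⟨A, hA, hAV⟩ : ∃ A, MA e S A ∧ ¬ A ≤ 𝒞 V := by
    by_contra hc
    push Not at hc
    exact hJ' (JJ_le_iff.2 hc)
  have hAn : A ≤ 𝒩 V := le_normalizer_of_normal
  have h1 := hA.repl hV hVS hAn
  have h2 := hA.repl_ne hS.pgrp hV hVS hAn fun e => hAV (le_cent_comm.1 (le_cent_iff_comm.2 e))
  have h3 := repl_quad hV.1 hAn
  generalize ⁅V, A⁆ ⊔ (A ⊓ 𝒞 ⁅V, A⁆) = B at h1 h2 h3
  refine KM.concl (p := p) (H := ⊤) (V := V) (S := S) (A := B) (M := M) ⟨hS, hVS,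
    le_normalizer_of_normal, hV.1, fun N _ h4 h5 => ?_, hSM, fun K h4 h5 => hmax K h4 h5.ne, hM,
    h1.le, h3, fun e => h2 (le_cent_iff_comm.1 (le_cent_comm.1 e)), ?_⟩
  · rw [← (hS.inf_normal' h4 le_top).resOf_sup]
    exact sup_le h5 ((k0 N (H8.normal_of_top_le h4) h5).trans hO)
  have h4 := h1.bm hV hVS (B ⊓ 𝒞 V) inf_le_left
  simp only [ms] at h4
  rw [inf_eq_left.2 (le_cent_comm.1 (inf_le_right : B ⊓ 𝒞 V ≤ 𝒞 V)), inf_comm B, inf_comm V] at h4
  have h5 := H1.card_inf_mul_relIndex (𝒞 V) B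
  have h6 := H1.card_inf_mul_relIndex (𝒞 B) V
  have h7 : 0 < ♯↥(𝒞 V ⊓ B) * ♯↥(𝒞 B ⊓ V) := Nat.mul_pos Nat.card_pos Nat.card_pos
  rw [← h5, ← h6] at h4
  exact Nat.le_of_mul_le_mul_left (by nlinarith) h7

theorem resOf_le_cent_of_omega {K : Subgroup G} (hV : IsPGroup p V) (hc : IsMulCommutative V)
    (hn : K ≤ 𝒩 V) (h : resOf p K ≤ 𝒞 (omegaOne p V)) : resOf p K ≤ 𝒞 V := by
  refine resOf_le_iff.2 fun g hg hco => zpowers_le.1 (H1.le_centralizer_of_prime_order_abelian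
    (zpowers_le.2 (hn hg)) ?_ fun v hv hv' => ?_)
  · obtain ⟨k, hk⟩ := IsPGroup.iff_card.1 hV
    rw [hk, Nat.card_zpowers]; exact hco.pow_right k
  · refine le_cent_comm.1 (zpowers_le.2 (h (mem_resOf hg hco))) (mem_omegaOne hv ?_)
    obtain ⟨k, hk⟩ := isPGroup_iff_forall.1 hV v hv
    rw [← (Nat.prime_dvd_prime_iff_eq hv' hp.out).1 (hv'.dvd_of_dvd_pow (orderOf_dvd_of_pow_eq_one hk))]
    exact pow_orderOf_eq_one v

theorem JJ_normal_of_class2 (hS : SylIn p S ⊤) (hc : CharP' p G) (h2 : ⁅⁅S, S⁆, S⁆ = ⊥)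
    (hq : ¬ H2.Sec (qd p) G) : (JJ p S).Normal := by
  induction hn : Nat.card G using Nat.strong_induction_on generalizing G with
  | _ n ih =>
  by_contra hJ
  have hmax : ∀ K, S ≤ K → K ≠ ⊤ → K ≤ 𝒩 (JJ p S) := fun K hK hne => by
    have := ih _ (hn ▸ card_lt_of_ne_top hne) (hS.mono hK le_top).subgroupOf_top
      (charP_sub hS hc hK) (map_eq_bot_iff_of_injective _ K.subtype_injective |>.1 (by
        rw [map_commutator, map_commutator, map_subgroupOf_eq_of_le hK, h2]))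
      (fun h => hq (h.trans (Sec.sub K))) rfl
    rw [← map_subgroupOf_eq_of_le hK, ← map_JJ_inj K.subtype_injective]
    intro x hx
    exact le_normalizer_map K.subtype ⟨⟨x, hx⟩, le_normalizer_of_normal (mem_top _), rfl⟩
  have hM : ¬ ⊤ ≤ 𝒩 (JJ p S) := fun e => hJ (H8.normal_of_top_le e)
  set Q := pCore p G with hQ
  have hQS : Q ≤ S := hS.pCore_le
  have hQp : IsPGroup p Q := hS.pgrp.to_le hQS
  haveI : (omegaOne p (Zc Q)).Normal :=
    H8.normal_of_top_le (le_normalizer_of_normal.trans (H8.normalizer_le_omega_Zc p Q))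
  refine hq (qd_of_MA hS hmax hM (le_normalizer.trans (normalizer_le_JJ p S))
    ((H8.omega_Zc_le p Q).trans hQS) (ae_iff_elem.2 (H8.elem_omega_Zc p Q)) (fun h => ?_)
    (H8.le_centralizer_omega_Zc p Q) hJ)
  haveI := Zc_normal Q
  have h3 := resOf_le_cent_of_omega (hQp.to_le (Zc_le Q)) (isMulCommutative_Zc Q)
    le_normalizer_of_normal h
  have h4 : normalClosure (S : Set G) = ⊤ := by_contra fun e => hJ (by
    have := frat_max hS hmax hM (hmax _ le_normalClosure e)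
    rw [inf_eq_left.2 le_normalClosure] at this
    rw [le_antisymm this hQS]
    exact H8.normal_of_top_le (le_normalizer_of_normal.trans (normalizer_le_JJ p _)))
  have h5 : ⁅Q, S⁆ ≤ Zc Q := by
    have : ⁅Q, S⁆ ≤ 𝒞 Q := (commutator_mono hQS le_rfl).trans
      ((le_cent_iff_comm.2 h2).trans (centralizer_le hQS))
    exact le_inf (commutator_le_left Q S) this
  have h6 : ⁅Q, ⊤⁆ ≤ Zc Q := by
    rw [← h4]
    exact commutator_normalClosure_le fun g hg => (commutator_mono le_rfl (zpowers_le.2 hg)).trans h5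
  have h7 := hc.trans hQS |>.trans' (H8.resOf_le_centralizer_of_chain hQp le_normalizer_of_normal
    ((commutator_mono le_rfl le_top).trans h6) h3)
  have h8 : S ≤ 𝒩 (JJ p S) := le_normalizer.trans (normalizer_le_JJ p S)
  exact hM (hS.resOf_sup.ge.trans (sup_le (h7.trans h8) h8))

/-- If `J(P)` is not normal, some element outside `O_p(G)` centralizes `℧¹(Z(O_p(G)))`. -/
theorem exists_cent_mho (hS : SylIn p S ⊤) (h : ¬ (JJ 0 S).Normal) :
    ∃ g ∈ S, g ∉ pCore p G ∧ ∀ v ∈ Zc (pCore p G), g * v ^ p * g⁻¹ = v ^ p := by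
  obtain ⟨g, h1, h2, h3⟩ := exists_quad_of_not_normal hS h
  obtain ⟨j, h4, h5⟩ := exists_pow_step hS.pgrp h1 h2
  have hle : zpowers (g ^ p ^ j) ≤ zpowers g := zpowers_le_of_mem (pow_mem (mem_zpowers g) _)
  exact ⟨_, pow_mem h1 _, h4, fun v hv => quad_pow_comm (isMulCommutative_Zc _)
    (normalizer_le_Zc _ (le_normalizer_of_normal (mem_top _)))
    (eq_bot_mono h3 (commutator_mono (commutator_mono le_rfl hle) hle)) (le_cent_Zc _ h5) hv⟩

end grp

section fus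
variable {Ω : Type*} [Group Ω] {S : Subgroup Ω} [Finite S] {p : ℕ} [hp : Fact p.Prime]
  {F : FusionSystem S} {P Q R U : Subgroup Ω} {σ : Perm Ω}

theorem Iso.normal_of (h : Iso F R U σ) (hU : F.IsNormal U) : F.IsNormal R := by
  have := finite_of_le h.symm.le
  obtain rfl : R = U := eq_of_le_of_card_ge (fun x hx => by
    simpa using sc_mem (normal_sc hU) h.symm.mor (h.maps hx) (h.maps hx)) h.card_eq.ge
  exact hU

/-- Local-to-global control along well-placed subgroups which are never normal. -/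
theorem Sat.ctl_local' (h : Sat p F) {w : Subgroup Ω → Subgroup Ω} (hw : Eqv F w)
    (E : FusionSystem S) (g : Subgroup Ω → Prop)
    (hg : ∀ T T' σ, Mor F T σ → (∀ x ∈ T, σ x ∈ T') → g T → g T')
    (hgw : ∀ T ≤ S, g T → ¬ F.IsNormal (w T))
    (hR : ∀ R, F.IsCentric R → F.IsRadical p R → g (normalizerIn S R) ∧ ¬ F.IsNormal R)
    (h0 : ∀ P σ, NM F (w S) P σ → Mor E P σ)
    (loc : ∀ U, ¬ F.IsNormal U → F.IsFullyNormalized U →
      (∀ P σ, NM F (w (normalizerIn S U)) P σ → Mor E P σ) → ∀ P σ, NM F U P σ → Mor E P σ)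
    (hσ : Mor F P σ) : Mor E P σ := by
  have key : ∀ T, T ≤ S → g T → ∀ U, ¬ F.IsNormal U → F.IsFullyNormalized U →
      normalizerIn S U = T →
      ∃ U' χ, Iso F U U' χ ∧ F.IsFullyNormalized U' ∧ ∀ P σ, NM F U' P σ → Mor E P σ := by
    refine subgroup_strong_induction_down _ fun T hT ih hgT U hU hn e => ?_
    rcases hT.eq_or_lt with rfl | hlt
    · exact ⟨U, 1, iso_refl F hn.1, hn, loc U hU hn (by rwa [e])⟩
    have hV := (hw.le T hT).trans hT
    obtain ⟨V, ψ, h1, h2, h3⟩ := h.exists_fn hV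
    have hlt' : T < normalizerIn S (w T) := (lt_N h.pg hlt).trans_le (hw.N_le hT)
    obtain ⟨V', χ, h4, h5, h6⟩ := ih _ (N_le S V)
      ((card_lt_of_lt hlt').trans_le (h2.card_N_le h1))
      (hg T _ ψ (h1.mono hlt'.le) (fun x hx => h2.maps_N' h1 (hlt'.le hx)) hgT) V
      (fun e => hgw T hT hgT (h2.normal_of e)) h3 rfl
    obtain ⟨ρ, h7, h8⟩ := h.mor_N h5 (h2.trans h4)
    have hUT : U ≤ T := e ▸ le_N hn.1
    have h9 := (h7.mono (hUT.trans hlt'.le)).iso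
    have h10 := h9.iso_N (h7.mono (e ▸ hlt'.le)) hn
    have h11 := fn_of_card hn h9 h10.card_eq.le
    refine ⟨_, ρ, h9, h11, loc _ (fun h0 => hU (h9.normal_of h0)) h11 ?_⟩
    rw [e] at h10
    rwa [← (hw.iso h10).img_eq, h8.img_eq]
  refine h.alperin_family E (fun R hc hr => ?_) hσ
  obtain ⟨U, χ, h0, h1, h2⟩ := h.exists_fn hc.1
  obtain ⟨U', χ', h3, h4, h5⟩ := key _ (N_le S U) (hg _ _ χ h0 (fun x hx => h1.maps_N' h0 hx)
    (hR R hc hr).1) U (fun e => (hR R hc hr).2 (h1.normal_of e)) h2 rfl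
  exact ⟨U', _, h1.trans h3, h4, fun α hα =>
    h5 _ _ (nm_of (le_N h4.1) hα.mor le_rfl le_rfl fun x hx => hα.maps hx)⟩

/-- Control by a self-centralizing functor in a system which is not constrained. -/
theorem Sat.ctl_nc (h : Sat p F) {w : Subgroup Ω → Subgroup Ω} (hw : Eqv F w)
    (hwc : ∀ T ≤ S, centralizerIn T (w T) ≤ w T) (hc : ¬ centralizerIn S F.core ≤ F.core)
    (E : FusionSystem S) (h0 : ∀ P σ, NM F (w S) P σ → Mor E P σ)
    (loc : ∀ U, ¬ F.IsNormal U → F.IsFullyNormalized U →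
      (∀ P σ, NM F (w (normalizerIn S U)) P σ → Mor E P σ) → ∀ P σ, NM F U P σ → Mor E P σ)
    (hσ : Mor F P σ) : Mor E P σ := by
  have hQ := core_normal F
  have hsc := normal_sc hQ
  have hsC := normal_sc_C hQ
  refine h.ctl_local' hw E (fun T => ∃ c ∈ T, c ∈ centralizerIn S F.core ∧ c ∉ F.core)
    (fun T T' σ h1 h2 ⟨c, h3, h4, h5⟩ => ⟨σ c, h2 c h3, sc_mem hsC h1 h3 h4, fun e => h5 ?_⟩)
    (fun T hT ⟨c, h3, h4, h5⟩ hn => h5 (le_core hn (hwc T hT (mem_C.2 ⟨h3, fun x hx =>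
      (mem_C.1 h4).2 x (le_core hn hx)⟩)))) (fun R h1 h2 => ?_) h0 loc hσ
  · simpa using sc_mem hsc h1.iso.symm.mor (h1.iso.maps h3) e
  have hQR := normal_le_cr h.pg hQ h1 h2
  refine ⟨by_contra fun e => hc ?_, fun hn => hc ?_⟩
  · push Not at e
    have : centralizerIn S F.core ≤ R := le_of_N_le' h.pg h1.1 (C_le _ _)
      (fun g hg x hx => sc_conj hsC (h1.1 hg) hx) fun g hg hgn => hQR (e g ⟨hg.1, hgn⟩ hg)
    exact fun g hg => e g (le_N h1.1 (this hg)) hg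
  · rw [← le_antisymm (le_core hn) hQR]; exact centric_C_le h1

end fus

section gen
variable {Ω : Type u} [Group Ω] {S : Subgroup Ω} [Finite S] {p : ℕ} [hp : Fact p.Prime]
  {F : FusionSystem S} {P Q R U : Subgroup Ω} {σ : Perm Ω}

/-- `℧¹(Z(T))`. -/
def mz (p : ℕ) (T : Subgroup Ω) : Subgroup Ω := closure ((fun z : Ω => z ^ p) '' (Zc T : Set Ω))

omit [Finite S] hp in
theorem mz_mono {T T' : Subgroup Ω} (h : Zc T ≤ Zc T') : mz p T ≤ mz p T' :=
  closure_mono (Set.image_mono h)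

omit [Finite S] hp in
theorem mz_le (T : Subgroup Ω) : mz p T ≤ Zc T :=
  (closure_le _).2 (by rintro _ ⟨x, hx, rfl⟩; exact pow_mem hx p)

theorem normal_mz (hQ : F.IsNormal Q) : F.IsNormal (mz p Q) := by
  refine normal_of_invariant hQ ((mz_le Q).trans (Zc_le Q)) fun σ hσ x hx => ?_
  obtain ⟨y, hy, rfl⟩ := exists_pow_of_mem_mho hx
  rw [hσ.homOn.map_pow hy.1]
  exact subset_closure ⟨_, hσ.maps_center hy, rfl⟩

theorem Sat.exists_cent_mho (h : Sat p F) (hc : centralizerIn S F.core ≤ F.core)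
    (hn : ¬ F.IsNormal (JJ 0 S)) : ¬ centralizerIn S (mz p F.core) ≤ F.core := by
  obtain ⟨L, _, _, T, f, a, b, c, -, d⟩ := h.exists_grp hc
  have hW := charP_JT.{u} (p := p) (e := 0) (Or.inl rfl)
  have h1 : ¬ (JJ 0 T).Normal := fun h4 => hn (by
    have h5 := a.normal_pre ((grpFS_group T).normal (JJ_le 0 T) fun x _ y hy => h4.conj_mem y hy x)
    rwa [← induced_JT, ← a.range, ← a.im_induced hW h.pg le_rfl, a.pre_im_bot (H2.induced_le _ S),
      induced_JT] at h5)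
  obtain ⟨g, h2, h3, h4⟩ := H9.exists_cent_mho b.sylIn h1
  have hQ := core_normal F
  have e : im f F.core = pCore p L := by
    refine le_antisymm (H1.le_pCore (d _ hQ) (b.pg.to_le (a.im_le hQ.1))) fun x hx => ?_
    have h5 := le_core (a.normal_pre ((grpFS_group T).normal b.sylIn.pCore_le
      fun x _ y hy => (inferInstance : (pCore p L).Normal).conj_mem y hy x))
    obtain ⟨y, hy, rfl⟩ := (a.hom.mem_im le_rfl).1 (a.range.ge (b.sylIn.pCore_le hx))
    exact mem_im_of_mem f (h5 (mem_pre_of hy hx))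
  obtain ⟨s, hs, rfl⟩ := (a.hom.mem_im le_rfl).1 (a.range.ge h2)
  refine fun h5 => h3 (e ▸ mem_im_of_mem f (h5 (mem_C'.2 ⟨hs, fun x hx => ?_⟩)))
  obtain ⟨y, hy, rfl⟩ := exists_pow_of_mem_mho hx
  have hyS := hQ.1 hy.1
  have h6 : f y ∈ Zc (pCore p L) := by
    rw [← e]
    refine ⟨mem_im_of_mem f hy.1, fun z hz => ?_⟩
    obtain ⟨z, hz', rfl⟩ := (a.hom.mem_im hQ.1).1 hz
    rw [← a.hom.map_mul (hQ.1 hz') hyS, ← a.hom.map_mul hyS (hQ.1 hz'), (mem_C.1 hy).2 z hz']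
  refine (a.inj (mul_mem (mul_mem hs (pow_mem hyS p)) (inv_mem hs)) (pow_mem hyS p)).1 ?_
  rw [a.hom.map_mul (mul_mem hs (pow_mem hyS p)) (inv_mem hs), a.hom.map_mul hs (pow_mem hyS p),
    a.hom.map_inv hs, a.hom.map_pow hyS, h4 _ h6]

theorem Sat.gen_mho_J (h : Sat p F) (E : FusionSystem S)
    (hC : ∀ P σ, CM F (mz p S) P σ → Mor E P σ) (hN : ∀ P σ, NM F (JJ 0 S) P σ → Mor E P σ)
    (hσ : Mor F P σ) : Mor E P σ := by
  revert h E P σ
  refine fs_ind (M := fun {Ω} _ {S} _ F => ∀ {P : Subgroup Ω} {σ : Perm Ω}, Sat p F →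
    ∀ E : FusionSystem S, (∀ P σ, CM F (mz p S) P σ → Mor E P σ) →
      (∀ P σ, NM F (JJ 0 S) P σ → Mor E P σ) → Mor F P σ → Mor E P σ)
    (fun {Ω} _ {S} _ F _ ih P σ h E hC hN hσ => ?_) F
  have loc : ∀ U, ¬ F.IsNormal U → F.IsFullyNormalized U →
      (∀ P σ, NM F (JJ 0 (normalizerIn S U)) P σ → Mor E P σ) → ∀ P σ, NM F U P σ → Mor E P σ := by
    intro U hU hn hl P σ hσ
    obtain ⟨_, N, a, b, c, d⟩ := h.exists_nm hn rfl
    obtain ⟨D, hD⟩ := exists_inter N E (N_le S U)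
    refine ((hD P σ).1 (ih N b (c hU) a D (fun P σ hσ => (hD P σ).2 ⟨hσ.nm.mor,
      hC P σ ?_⟩) (fun P σ hσ => (hD P σ).2 ⟨hσ.mor, hl P σ (hσ.of_sub b)⟩) ((d P σ).2 hσ))).2
    refine (hσ.of_sub b).anti (mz_mono fun z hz => ?_)
    exact mem_C.2 ⟨C_le_N _ _ (C_anti S hn.1 hz), fun x hx => (mem_C.1 hz).2 x hx.1⟩
  have hw : Eqv F (JJ 0) := by
    have := eqv_induced (charP_JT.{u} (p := p) (e := 0) (Or.inl rfl)) h.pg F
    rwa [show inducedFunctor (G := Ω) (JT 0) = JJ 0 from funext induced_JT] at this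
  by_cases hc : centralizerIn S F.core ≤ F.core
  swap
  · exact h.ctl_nc hw (fun T hT => have := finite_of_le hT; C_JJ_le T) hc E hN loc hσ
  by_cases hJ : F.IsNormal (JJ 0 S)
  · exact hN P σ (nm_of_normal hJ hσ)
  have hQ := core_normal F
  have hY := normal_mz (p := p) hQ
  have hsc := h.sc_sup_C (normal_sc hY)
  refine h.stancu hY E (loc _ (fun hn => h.exists_cent_mho hc hJ (le_sup_right.trans (le_core hn)))
    (sc_fn hsc) (by rwa [← eq_N_of_le (sc_le_N hsc)])) (fun R κ h1 h2 h3 => hC R κ ?_) hσ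
  have h4 : mz p S ≤ mz p F.core := mz_mono fun z hz =>
    ⟨hc (C_anti S hQ.1 hz), fun x hx => hz.2 x (hQ.1 hx)⟩
  refine ⟨fun x hx => mem_C.2 ⟨h2.le hx, fun y hy => ((mz_le S hy).2 x (h2.le hx)).symm⟩, κ, ?_,
    fun _ _ => rfl, fun x hx => h3 x (h4 hx)⟩
  rw [sup_eq_left.2 (h4.trans h1)]
  exact h2.mor

end gen

end Cfsg.Agent.H9
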