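import Cfsg.Agent.H9.SymI

/-! Stabilisers of partitions into equal blocks (imprimitive wreath products). -/

set_option autoImplicit false

namespace Cfsg.Agent.H9.Impr

open Equiv Subgroup MulAction
open scoped Pointwise

variable {Ω ι : Type*}

def W (f : Ω → ι) : Subgroup (Perm Ω) where
  carrier := {g | ∀ x y, f x = f y ↔ f (g x) = f (g y)}
  one_mem' := fun _ _ => Iff.rfl
  mul_mem' := fun {g h} hg hh x y => (hh x y).trans (hg _ _)
  inv_mem' := fun {g} hg x y => by simpa using (hg (g⁻¹ x) (g⁻¹ y)).symm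

theorem closure_W (f : Ω → ι) : closure {g : Perm Ω | ∀ x y, f x = f y ↔ f (g x) = f (g y)} = W f :=
  closure_eq (W f)

theorem mem_W_of [Finite Ω] {f : Ω → ι} {g : Perm Ω} (h : ∀ x y, f x = f y → f (g x) = f (g y)) : g ∈ W f := by
  have hp : ∀ n : ℕ, ∀ x y, f x = f y → f ((g ^ n) x) = f ((g ^ n) y) := by
    intro n
    induction n with
    | zero => exact fun _ _ h => h
    | succ n ih => intro x y e; rw [pow_succ']; exact h _ _ (ih x y e)
  refine fun x y => ⟨h x y, fun e => ?_⟩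
  have := hp (orderOf g - 1) _ _ e
  rwa [← Perm.mul_apply, ← Perm.mul_apply, ← pow_succ, Nat.sub_add_cancel (orderOf_pos g),
    pow_orderOf_eq_one] at this

variable [DecidableEq Ω] {f : Ω → ι}

theorem f_swap {x y : Ω} (h : f x = f y) (z : Ω) : f (swap x y z) = f z := by
  rw [swap_apply_def]; split_ifs with h1 h2
  · rw [h1, h]
  · rw [h2, h]
  · rfl

theorem swap_mem {x y : Ω} (h : f x = f y) : swap x y ∈ W f := fun u v => by rw [f_swap h, f_swap h]

omit [DecidableEq Ω] in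
theorem exists_equiv [Finite Ω] {a : ℕ} (hf : ∀ i, Nat.card {x // f x = i} = a) :
    ∃ e : Ω ≃ ι × Fin a, ∀ x, (e x).1 = f x := by
  have : ∀ i, Nonempty ({x // f x = i} ≃ Fin a) := fun i => Finite.card_eq.1 (by simpa using hf i)
  exact ⟨(sigmaFiberEquiv f).symm.trans ((sigmaCongrRight fun i => (this i).some).trans (sigmaEquivProd _ _)),
    fun _ => rfl⟩

omit [DecidableEq Ω] in
theorem lift [Finite Ω] {a : ℕ} (hf : ∀ i, Nat.card {x // f x = i} = a) (σ : Perm ι) :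
    ∃ w ∈ W f, ∀ x, f (w x) = σ (f x) := by
  obtain ⟨e, he⟩ := exists_equiv hf
  have : ∀ x, f (e.symm.permCongr (prodCongr σ (Equiv.refl _)) x) = σ (f x) := by
    intro x
    rw [← he, ← he]; simp
  exact ⟨_, fun x y => by rw [this, this, σ.apply_eq_iff_eq], this⟩

theorem two [Finite Ω] [Finite ι] {a : ℕ} (hf : ∀ i, Nat.card {x // f x = i} = a) {p q r s : Ω}
    (h1 : f p ≠ f q) (h2 : f r ≠ f s) : ∃ w ∈ W f, w p = r ∧ w q = s := by
  haveI : IsMultiplyPretransitive (Perm ι) ι 2 := Perm.isMultiplyPretransitive ι 2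
  obtain ⟨σ, e1, e2⟩ := is_two_pretransitive_iff.1 this h1 h2
  obtain ⟨w, hw, hσ⟩ := lift hf σ
  have a1 : f (w p) = f r := (hσ p).trans e1
  have a2 : f (w q) = f s := (hσ q).trans e2
  refine ⟨swap (w q) s * (swap (w p) r * w), mul_mem (swap_mem a2) (mul_mem (swap_mem a1) hw), ?_, ?_⟩
  · simp only [Perm.mul_apply, swap_apply_left]
    exact swap_apply_of_ne_of_ne (fun h => h2 (h ▸ a2)) (fun h => h2 (h ▸ rfl))
  · simp only [Perm.mul_apply]
    rw [swap_apply_of_ne_of_ne (a := w p) (b := r) (x := w q) (fun h => h2 (by rw [← a1, ← h, a2]))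
      (fun h => h2 (by rw [← h, a2])), swap_apply_left]

theorem one [Finite Ω] {a : ℕ} (hf : ∀ i, Nat.card {x // f x = i} = a) (p r : Ω) : ∃ w ∈ W f, w p = r := by
  classical
  obtain ⟨w, hw, hσ⟩ := lift hf (swap (f p) (f r))
  exact ⟨swap (w p) r * w, mul_mem (swap_mem (by rw [hσ, swap_apply_left])) hw, by simp⟩

theorem even [Fintype Ω] {w : Perm Ω} (hw : w ∈ W f) {p q s t : Ω} (hst : s ≠ t) (h : f s = f t)
    (h1 : p ≠ s) (h2 : p ≠ t) (h3 : q ≠ s) (h4 : q ≠ t) :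
    ∃ v ∈ W f ⊓ alternatingGroup Ω, v p = w p ∧ v q = w q := by
  rcases Int.units_eq_one_or (Perm.sign w) with e | e
  · exact ⟨w, ⟨hw, e⟩, rfl, rfl⟩
  · refine ⟨w * swap s t, ⟨(W f).mul_mem hw (swap_mem h), ?_⟩, ?_, ?_⟩
    · show Perm.sign _ = 1
      rw [map_mul, e, Perm.sign_swap hst]; rfl
    · rw [Perm.mul_apply, swap_apply_of_ne_of_ne h1 h2]
    · rw [Perm.mul_apply, swap_apply_of_ne_of_ne h3 h4]

omit [DecidableEq Ω] in
theorem pair [Finite Ω] {a : ℕ} (hf : ∀ i, Nat.card {x // f x = i} = a) (ha : 2 ≤ a) (i : ι) :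
    ∃ s t, s ≠ t ∧ f s = i ∧ f t = i := by
  haveI : Nontrivial {x // f x = i} := Finite.one_lt_card_iff_nontrivial.1 (by rw [hf]; omega)
  obtain ⟨s, t, h⟩ := exists_pair_ne {x // f x = i}
  exact ⟨s, t, fun e => h (Subtype.ext e), s.2, t.2⟩

omit [DecidableEq Ω] in
theorem other [Finite Ω] {a : ℕ} (hf : ∀ i, Nat.card {x // f x = i} = a) (ha : 2 ≤ a) (x : Ω) :
    ∃ y, y ≠ x ∧ f y = f x := by
  obtain ⟨s, t, h, h1, h2⟩ := pair hf ha (f x)
  by_cases e : s = x
  · exact ⟨t, fun e' => h (e.trans e'.symm), h2⟩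
  · exact ⟨s, e, h1⟩

omit [DecidableEq Ω] in
theorem three [Finite Ω] {a : ℕ} (hf : ∀ i, Nat.card {x // f x = i} = a) (ha : 3 ≤ a) (p : Ω) :
    ∃ s t, s ≠ t ∧ s ≠ p ∧ t ≠ p ∧ f s = f p ∧ f t = f p := by
  classical
  haveI := Fintype.ofFinite {x // f x = f p}
  have : 1 < (Finset.univ.erase (⟨p, rfl⟩ : {x // f x = f p})).card := by
    rw [Finset.card_erase_of_mem (Finset.mem_univ _), Finset.card_univ, ← Nat.card_eq_fintype_card, hf]
    omega
  obtain ⟨s, hs, t, ht, h⟩ := Finset.one_lt_card.1 this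
  exact ⟨s, t, fun e => h (Subtype.ext e), fun e => (Finset.mem_erase.1 hs).1 (Subtype.ext e),
    fun e => (Finset.mem_erase.1 ht).1 (Subtype.ext e), s.2, t.2⟩

theorem avoid {b : ℕ} (S : Finset (Fin b)) (h : S.card < b) : ∃ i, i ∉ S := by
  by_contra hn
  push Not at hn
  rw [Finset.eq_univ_iff_forall.2 hn] at h
  simp at h

omit [DecidableEq Ω] in
theorem not_mem_W [Finite Ω] {g : Perm Ω} (hg : g ∉ W f) : ∃ x y, f x = f y ∧ f (g x) ≠ f (g y) := by
  by_contra hn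
  push Not at hn
  exact hg (mem_W_of hn)

theorem W_coatom [Fintype Ω] {a b : ℕ} (ha : 2 ≤ a) (hb : 2 ≤ b) {f : Ω → Fin b}
    (hf : ∀ i, Nat.card {x // f x = i} = a) : IsCoatom (W f) := by
  constructor
  · intro h
    obtain ⟨s, t, hst, h1, h2⟩ := pair hf ha ⟨0, by omega⟩
    obtain ⟨u, -, -, h3, -⟩ := pair hf ha ⟨1, by omega⟩
    have hu : f u ≠ f t := by rw [h3, h2]; simp
    have := ((show swap s u ∈ W f from h ▸ mem_top _) s t).1 (h1.trans h2.symm)
    rw [swap_apply_left, swap_apply_of_ne_of_ne hst.symm (fun e => hu (e ▸ rfl))] at this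
    exact hu this
  · intro G hG
    obtain ⟨g, hg, hgW⟩ := SetLike.exists_of_lt hG
    obtain ⟨x, y, h1, h2⟩ := not_mem_W hgW
    have h3 : swap (g x) (g y) ∈ G := by
      rw [swap_apply_apply]; exact mul_mem (mul_mem hg (hG.le (swap_mem h1))) (inv_mem hg)
    rw [eq_top_iff, ← Perm.closure_isSwap, closure_le]
    rintro _ ⟨u, v, -, rfl⟩
    by_cases e : f u = f v
    · exact hG.le (swap_mem e)
    · obtain ⟨w, hw, rfl, rfl⟩ := two hf h2 e
      rw [swap_apply_apply]; exact mul_mem (mul_mem (hG.le hw) h3) (inv_mem (hG.le hw))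

theorem prim [Fintype Ω] {a b : ℕ} (ha : 2 ≤ a) (hb : 2 ≤ b) (hab : 3 ≤ a ∨ 3 ≤ b) {f : Ω → Fin b}
    (hf : ∀ i, Nat.card {x // f x = i} = a) {G : Subgroup (Perm Ω)} (hG : W f ⊓ alternatingGroup Ω ≤ G)
    (hn : ¬ G ≤ W f) : IsPreprimitive G Ω := by
  have E1 : ∀ p q, f p = f q → ∀ w ∈ W f, ∃ v ∈ G, v p = w p ∧ v q = w q := by
    intro p q h w hw
    obtain ⟨i, hi⟩ := avoid {f p} (by simp; omega)
    obtain ⟨s, t, hst, h1, h2⟩ := pair hf ha i
    simp only [Finset.mem_singleton] at hi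
    obtain ⟨v, hv, h3⟩ := even hw (p := p) (q := q) hst (h1.trans h2.symm) (fun e => hi (by rw [e, h1]))
      (fun e => hi (by rw [e, h2])) (fun e => hi (by rw [h, e, h1])) (fun e => hi (by rw [h, e, h2]))
    exact ⟨v, hG hv, h3⟩
  have E2 : ∀ p q, f p ≠ f q → ∀ w ∈ W f, ∃ v ∈ G, v p = w p ∧ v q = w q := by
    intro p q h w hw
    rcases hab with h3 | h3
    · obtain ⟨s, t, hst, h1, h2, h4, h5⟩ := three hf h3 p
      obtain ⟨v, hv, h6⟩ := even hw (p := p) (q := q) hst (h4.trans h5.symm) h1.symm h2.symm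
        (fun e => h (by rw [e, h4])) (fun e => h (by rw [e, h5]))
      exact ⟨v, hG hv, h6⟩
    · obtain ⟨i, hi⟩ := avoid {f p, f q} (lt_of_le_of_lt Finset.card_le_two (by omega))
      obtain ⟨s, t, hst, h1, h2⟩ := pair hf ha i
      simp only [Finset.mem_insert, Finset.mem_singleton, not_or] at hi
      obtain ⟨v, hv, h3⟩ := even hw (p := p) (q := q) hst (h1.trans h2.symm) (fun e => hi.1 (by rw [e, h1]))
        (fun e => hi.1 (by rw [e, h2])) (fun e => hi.2 (by rw [e, h1])) (fun e => hi.2 (by rw [e, h2]))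
      exact ⟨v, hG hv, h3⟩
  have T : ∀ p r, ∃ v ∈ G, v ∈ W f ∧ v p = r := by
    intro p r
    obtain ⟨w, hw, rfl⟩ := one hf p r
    obtain ⟨i, hi⟩ := avoid {f p} (by simp; omega)
    obtain ⟨s, t, hst, h1, h2⟩ := pair hf ha i
    simp only [Finset.mem_singleton] at hi
    obtain ⟨v, hv, h3, -⟩ := even hw (p := p) (q := p) hst (h1.trans h2.symm) (fun e => hi (by rw [e, h1]))
      (fun e => hi (by rw [e, h2])) (fun e => hi (by rw [e, h1])) (fun e => hi (by rw [e, h2]))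
    exact ⟨v, hG hv, hv.1, h3⟩
  refine { exists_smul_eq := fun p r => ?_, isTrivialBlock_of_isBlock := fun {B} hB => ?_ }
  · obtain ⟨v, hv, -, h⟩ := T p r
    exact ⟨⟨v, hv⟩, h⟩
  have mv : ∀ v ∈ G, ∀ p ∈ B, v p ∈ B → ∀ q ∈ B, v q ∈ B := by
    intro v hv p hp h q hq
    rw [← hB.smul_eq_of_mem (g := (⟨v, hv⟩ : G)) hp h]
    exact Set.smul_mem_smul_set hq
  by_cases hs : B.Subsingleton
  · exact Or.inl hs
  right
  by_cases h1 : ∃ p ∈ B, ∃ q ∈ B, f p ≠ f q
  · obtain ⟨p, hp, q, hq, h⟩ := h1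
    have k : ∀ p ∈ B, ∀ q ∈ B, f p ≠ f q → ∀ r, f p ≠ f r → r ∈ B := by
      intro p hp q hq h r hr
      obtain ⟨w, hw, e1, e2⟩ := two hf h hr
      obtain ⟨v, hv, e3, e4⟩ := E2 p q h w hw
      rw [← e2, ← e4]
      exact mv v hv p hp (by rwa [e3, e1]) q hq
    refine Set.eq_univ_of_forall fun r => ?_
    by_cases e : f p = f r
    · exact k q hq p hp h.symm r (e ▸ h.symm)
    · exact k p hp q hq h r e
  · exfalso
    push Not at h1
    obtain ⟨p, hp, q, hq, hpq⟩ := Set.not_subsingleton_iff.1 hs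
    have hB' : ∀ r, f r = f p → r ∈ B := by
      intro r hr
      by_cases e : r = p
      · rwa [e]
      obtain ⟨v, hv, e3, e4⟩ := E1 p q (h1 p hp q hq) _ (swap_mem ((h1 q hq p hp).trans hr.symm))
      rw [swap_apply_left] at e4
      rw [swap_apply_of_ne_of_ne hpq (Ne.symm e)] at e3
      rw [← e4]
      exact mv v hv p hp (by rwa [e3]) q hq
    apply hn
    intro g hg
    refine mem_W_of fun x y hxy => ?_
    obtain ⟨u, hu, huW, rfl⟩ := T p x
    obtain ⟨v, hv, hvW, e⟩ := T p (g (u p))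
    have h2 := mv (v⁻¹ * g * u) (mul_mem (mul_mem (inv_mem hv) hg) hu) p hp (by simp [← e, hp]) (u⁻¹ y)
      (hB' _ (by simpa using (((W f).inv_mem huW _ _).1 hxy).symm))
    have h3 := (hvW _ _).1 (h1 _ h2 p hp)
    rw [e] at h3
    simpa using h3.symm

theorem three_cycle [Fintype Ω] {b : ℕ} (hb : 5 ≤ b) {f : Ω → Fin b}
    (hf : ∀ i, Nat.card {x // f x = i} = 2) {G : Subgroup (Perm Ω)} (hG : W f ⊓ alternatingGroup Ω ≤ G)
    (hn : ¬ G ≤ W f) : ∃ c ∈ G, c.IsThreeCycle := by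
  obtain ⟨g, hg, hgW⟩ := SetLike.not_le_iff_exists.1 hn
  obtain ⟨x, x', h1, h2⟩ := not_mem_W hgW
  have dbl : ∀ s t s' t', s ≠ t → s' ≠ t' → f s = f t → f s' = f t' → swap s t * swap s' t' ∈ G :=
    fun s t s' t' a1 a2 a3 a4 => hG ⟨(W f).mul_mem (swap_mem a3) (swap_mem a4),
      Perm.mul_mem_alternatingGroup_of_isSwap ⟨_, _, a1, rfl⟩ ⟨_, _, a2, rfl⟩⟩
  obtain ⟨u', hu', hfu⟩ := other hf le_rfl (g x)
  obtain ⟨i, hi⟩ := avoid {f x, f (g⁻¹ u')} (lt_of_le_of_lt Finset.card_le_two (by omega))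
  obtain ⟨y, y', hy, e1, e2⟩ := pair hf le_rfl i
  obtain ⟨j, hj⟩ := avoid {f (g x), f (g x'), f (g y), f (g y')} (lt_of_le_of_lt Finset.card_le_four (by omega))
  obtain ⟨z, z', hz, e3, e4⟩ := pair hf le_rfl j
  simp only [Finset.mem_insert, Finset.mem_singleton, not_or] at hi hj
  have hxx : x ≠ x' := by rintro rfl; exact h2 rfl
  have m1 : swap (g x) (g x') * swap (g y) (g y') ∈ G := by
    have := mul_mem (mul_mem hg (dbl x x' y y' hxx hy h1 (e1.trans e2.symm))) (inv_mem hg)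
    rwa [swap_apply_apply, swap_apply_apply, conj_mul]
  have m2 := dbl (g x) u' z z' hu'.symm hz hfu.symm (e3.trans e4.symm)
  have n1 : g y ≠ g x := g.injective.ne (fun e => hi.1 (by rw [← e, e1]))
  have n2 : g y' ≠ g x := g.injective.ne (fun e => hi.1 (by rw [← e, e2]))
  have n3 : g y ≠ g x' := g.injective.ne (fun e => hi.1 (by rw [h1, ← e, e1]))
  have n4 : g y' ≠ g x' := g.injective.ne (fun e => hi.1 (by rw [h1, ← e, e2]))
  have n5 : g y ≠ u' := fun e => hi.2 (by rw [← e, ← e1]; simp)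
  have n6 : g y' ≠ u' := fun e => hi.2 (by rw [← e, ← e2]; simp)
  have n7 : g x' ≠ u' := fun e => h2 (by rw [e, hfu])
  have q : ∀ t, f t = j → t ≠ g x ∧ t ≠ g x' ∧ t ≠ g y ∧ t ≠ g y' ∧ t ≠ u' := fun t ht =>
    ⟨fun e => hj.1 (by rw [← e, ht]), fun e => hj.2.1 (by rw [← e, ht]), fun e => hj.2.2.1 (by rw [← e, ht]),
      fun e => hj.2.2.2 (by rw [← e, ht]), fun e => hj.1 (by rw [← hfu, ← e, ht])⟩
  obtain ⟨z1, z2, z3, z4, z5⟩ := q z e3
  obtain ⟨w1, w2, w3, w4, w5⟩ := q z' e4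
  have cm : ∀ a b c d : Ω, c ≠ a → c ≠ b → d ≠ a → d ≠ b → Commute (swap a b) (swap c d) := by
    intro a b c d k1 k2 k3 k4
    show swap a b * swap c d = swap c d * swap a b
    rw [mul_swap_eq_swap_mul, swap_apply_of_ne_of_ne k1 k2, swap_apply_of_ne_of_ne k3 k4]
  have c1 := cm _ _ _ _ n1 n3 n2 n4
  have c2 := cm _ _ _ _ n1 n5 n2 n6
  have c3 := cm _ _ _ _ z1 z2 w1 w2
  have c4 := cm _ _ _ _ z1 z5 w1 w5
  have c5 := cm _ _ _ _ z3 z4 w3 w4
  refine ⟨_, mul_mem (mul_mem m1 m2) (mul_mem m1 m2), ?_⟩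
  have hc := (Perm.isThreeCycle_swap_mul_swap_same (g.injective.ne hxx) hu'.symm n7).isThreeCycle_sq
  generalize swap (g x) (g x') = A at *
  have hB : swap (g y) (g y') * swap (g y) (g y') = 1 := swap_mul_self _ _
  have hD : swap z z' * swap z z' = 1 := swap_mul_self _ _
  generalize swap (g y) (g y') = B at *
  generalize swap (g x) u' = C at *
  generalize swap z z' = D at *
  have : A * B * (C * D) * (A * B * (C * D)) = A * C * (A * C) := by
    have e5 : A * B * (C * D) = A * C * (B * D) := by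
      calc A * B * (C * D) = A * (B * C) * D := by group
        _ = _ := by rw [← c2.eq]; group
    have e6 : Commute (A * C) (B * D) := (c1.mul_right c3).mul_left (c2.mul_right c4)
    have e7 : B * D * (B * D) = 1 := by
      calc B * D * (B * D) = B * (D * B) * D := by group
        _ = (B * B) * (D * D) := by rw [← c5.eq]; group
        _ = 1 := by rw [hB, hD, one_mul]
    rw [e5]
    calc A * C * (B * D) * (A * C * (B * D)) = A * C * ((B * D) * (A * C)) * (B * D) := by group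
      _ = A * C * (A * C) * (B * D * (B * D)) := by rw [← e6.eq]; group
      _ = _ := by rw [e7, mul_one]
  rwa [this]

theorem card_inf [Fintype Ω] {a b : ℕ} {f : Ω → Fin b} (hf : ∀ i, Nat.card {x // f x = i} = a) :
    Nat.card ↥(W f ⊓ alternatingGroup Ω) = Nat.card {g : Perm (Fin b × Fin a) //
      (∀ x y, x.1 = y.1 ↔ (g x).1 = (g y).1) ∧ Perm.sign g = 1} := by
  obtain ⟨e, he⟩ := exists_equiv hf
  refine Nat.card_congr (Equiv.subtypeEquiv e.permCongr fun g => ?_)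
  rw [Perm.sign_permCongr]
  refine and_congr ⟨fun h x y => ?_, fun h x y => ?_⟩ Iff.rfl
  · have := h (e.symm x) (e.symm y)
    simpa [← he] using this
  · have := h (e x) (e y)
    simpa [← he] using this

theorem coatom_of_index {G : Type*} [Group G] [Finite G] {H : Subgroup G} {n : ℕ} (h : H.index = n) (h1 : n ≠ 1)
    (h2 : ∀ K : Subgroup G, K ≠ ⊤ → K.index ∣ n → K.index = n) : IsCoatom H := by
  refine ⟨fun e => h1 (by rw [← h, e, index_top]), fun K hK => ?_⟩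
  by_contra hn
  have h3 := h2 K hn (h ▸ index_dvd_of_le hK.le)
  have h4 := relIndex_mul_index hK.le
  rw [h, h3] at h4
  have h5 : n ≠ 0 := h ▸ index_ne_zero_of_finite
  exact hK.not_ge (relIndex_eq_one.1 (Nat.eq_of_mul_eq_mul_right (Nat.pos_of_ne_zero h5) (by rw [h4, one_mul])))

end Cfsg.Agent.H9.Impr
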