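import Cfsg.Agent.H9.SCert
import Cfsg.Agent.H6.MathK
import Cfsg.Agent.H6.PermG

/-!
The 2-fusion systems of the Mathieu groups are simple (generated certificates).
-/

set_option autoImplicit false
set_option maxRecDepth 100000

namespace Cfsg.Agent.H9

open Cfsg Cfsg.Agent.H6

theorem mem_rng_pt (y : GolayPt) : y ∈ rng 24 pt := ⟨idx y, by revert y; decide, by revert y; decide⟩

theorem mem_of_cl {G : Type*} [Group G] {g : ℕ → G} {ws : List (List ℕ)} {K : Subgroup G}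
    (h : cl g ws ≤ K) (l : ℕ) : lk 1 (ws.map (wp g)) l ∈ K := by
  rw [lk_map_wp]
  rcases lk_mem [] ws l with e | e
  · rw [e]; exact K.one_mem
  · exact h (wp_mem_cl e)

def wM11 : List (List ℕ) := [[0,3,1,4,4,1,3,1,3,0,4,4,0,3,1,4],[1,1,2,3,1,4,1,4,0,3,0,3,1,2,0],[1,1,3,1,2,3,0,2,1,1,2,4,1,2],[3,3,0,3,3,0,0,2,0,4,0,0,2,3,0,2],[0,0,3,0,4,1,2,0,0,2,4,1,1,4,1,4,0],[1,2,3,3,1,3,1,1,3,1,1,2,3,0,0,4]]
def nM11 : List Net := [
  (Net.cons 1 0x404 (Net.cons 5 0x2010 (Net.cons 9 0x20 (Net.cons 6 0x40 (Net.cons 15 0x80 (Net.cons 4 0x8000 Net.nil)))))),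
  (Net.cons 16 0x318a (Net.cons 8 0xf90000 (Net.cons 4 0x60c06 (Net.cons 2 0x32100020 (Net.cons 1 0x51010400 (Net.cons 2 0x2000000 (Net.cons 4 0x60008 (Net.cons 8 0xf80000 (Net.cons 16 0x318e Net.nil))))))))),
  (Net.cons 16 0x1d4c (Net.cons 8 0x8500a0 (Net.cons 4 0x9050004 (Net.cons 2 0x110020 (Net.cons 1 0x4144044 (Net.cons 2 0x22020 (Net.cons 4 0x2000c (Net.cons 8 0x880060 (Net.cons 16 0x1d48 Net.nil))))))))),
  (Net.cons 16 0x4 (Net.cons 10 0x8 (Net.cons 14 0x20 (Net.cons 6 0x20040 (Net.cons 8 0x100 (Net.cons 1 0x4400 Net.nil)))))),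
  (Net.cons 16 0x75bc (Net.cons 8 0x80002 (Net.cons 4 0xa03080e (Net.cons 2 0x1230022 (Net.cons 1 0x41440004 (Net.cons 2 0x20002 (Net.cons 4 0xe02000c (Net.cons 8 0x7c0080 (Net.cons 16 0x7550 Net.nil))))))))),
  (Net.cons 3 0x2 (Net.cons 9 0x4008 (Net.cons 14 0x20 (Net.cons 7 0x40 (Net.cons 8 0x100 (Net.cons 2 0x108000 Net.nil))))))]
theorem preM11 : IsPre 24 pt (lk 1 (wM11.map (wp pg))) (lk Net.nil nM11) vT :=
  mP0.toIsPre.derive (k := 5) (by decide +kernel) (by decide +kernel)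
theorem memM11 (l : ℕ) : lk 1 (wM11.map (wp pg)) l ∈ Spor.M11 := mem_of_cl (le_M11 (by decide +kernel) (by decide +kernel)) l

theorem simple_M11 (S : Sylow 2 Spor.M11) : (groupFusionSystem (S : Subgroup Spor.M11)).IsSimple 2 :=
  simple_of_model (IsModel.subA ⟨preM11, mP0.inj⟩ memM11) (faithP0.sub _) mem_rng_pt
    (k := 4) (k₁ := 5) (k₂ := 2) (d := 2) (m := 495) (by norm_num) (by norm_num) (by norm_num)
    (by norm_num) (card_M11.trans (by norm_num)) (by norm_num)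
    (ns := [1,1,8,8,2,8,8,4,8,2,8,8,8,8,8,8,8,8,8,8,4,4,4,8]) (As := [0x210,0x700080,0x8ffd6c]) (ss := [2,4,8])
    (rel := [[[],[2,3],[3],[]],[[],[3],[3],[]],[[],[],[3],[]],[[],[],[],[]]])
    (sq := [[],[],[[0,1,2]],[[2]]]) (z := [3])
    (σ := [0x4000000000000000000000000000000000000000000000000000000000000000000000000000000000000000000000000000000000000000000000000000000000000000000000000000000000000000000000000000000000000000000000000000000000000000000000000000000000000000000000000000000000000000000000000000000000000000000000000000000000,0x4])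
    (b := [[0],[1]]) (fin := [[2,3],[0],[2,1],[3]])
    (st := [([0],[4],[0,3]),([0],[1],[0,2,3]),([0,1],[5],[1])])
    (by decide +kernel) (by decide +kernel) (by decide +kernel) (by decide +kernel)
    (by decide +kernel) (by decide +kernel) S

def wM12 : List (List ℕ) := [[0,2,0,3,0,3,0,0,0,2,4,0,0,4,0,2,4],[0,4,0,0,4,0,0,3,1,2,3,0,3,1,3],[0,2,3,1,3,1,3,0,0,2,4,4,0,3,0,4,0],[3,1,2,3,3,0,0,2,1,4,4,1,2,0,0,3],[2,3,0,3,1,2,3,0,0,4,0,0,4,4,0,2,1],[1,2,1,1,1,3,0,0,0,2,4,1,4,4,1,4,4],[0,2,1,1,3,0,2,0,0,2,4,4,0,0,0,0,4],[0,4,1,3,3,0,0,3,1,2,4,1,1,1,2],[0,0,0,0,4,0,2,1,1,3,0,0,0,4,1,3]]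
def nM12 : List Net := [
  (Net.cons 16 0x1 (Net.cons 9 0x210 (Net.cons 6 0x60 (Net.cons 4 0x28400 Net.nil)))),
  (Net.cons 12 0x2 (Net.cons 1 0x8 (Net.cons 6 0x40 (Net.cons 10 0x80 (Net.cons 9 0x400 (Net.cons 2 0x310000 Net.nil)))))),
  (Net.cons 2 0x3 (Net.cons 9 0x30 (Net.cons 10 0x440 (Net.cons 14 0x80 (Net.cons 1 0x100 (Net.cons 4 0x800 (Net.cons 6 0x21000 (Net.cons 3 0x80000 Net.nil)))))))),
  (Net.cons 16 0xcea3 (Net.cons 8 0xa0044 (Net.cons 4 0xc080502 (Net.cons 2 0x210100 (Net.cons 1 0x40510000 (Net.cons 4 0x80000 (Net.cons 8 0xa0044 (Net.cons 16 0xce22 Net.nil)))))))),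
  (Net.cons 2 0x100002 (Net.cons 6 0x64 (Net.cons 9 0x10 (Net.cons 16 0x80 (Net.cons 4 0x20000 Net.nil))))),
  (Net.cons 9 0x401 (Net.cons 6 0x64 (Net.cons 1 0x4000 (Net.cons 2 0x110000 Net.nil)))),
  (Net.cons 16 0x45a6 (Net.cons 8 0xb00aa (Net.cons 4 0xc000206 (Net.cons 2 0x1110210 (Net.cons 1 0x41500005 (Net.cons 4 0xc000806 (Net.cons 8 0x4a0030 (Net.cons 16 0x4540 Net.nil)))))))),
  (Net.cons 16 0x9235 (Net.cons 8 0x5000a4 (Net.cons 4 0x20b0803 (Net.cons 2 0x10212110 (Net.cons 1 0x10104411 (Net.cons 2 0x20000002 (Net.cons 4 0x20a0404 (Net.cons 8 0xc200e8 (Net.cons 16 0x92c0 Net.nil))))))))),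
  (Net.cons 16 0xa1a4 (Net.cons 8 0x90098 (Net.cons 4 0xa010c0c (Net.cons 2 0x333012 (Net.cons 1 0x1141044 (Net.cons 2 0x22002 (Net.cons 4 0x2040008 (Net.cons 8 0x8800c0 (Net.cons 16 0xa180 Net.nil)))))))))]
theorem preM12 : IsPre 24 pt (lk 1 (wM12.map (wp pg))) (lk Net.nil nM12) vT :=
  mP0.toIsPre.derive (k := 5) (by decide +kernel) (by decide +kernel)
theorem memM12 (l : ℕ) : lk 1 (wM12.map (wp pg)) l ∈ Spor.M12 := mem_of_cl (le_M12 (by decide +kernel)) l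

theorem simple_M12 (S : Sylow 2 Spor.M12) : (groupFusionSystem (S : Subgroup Spor.M12)).IsSimple 2 :=
  simple_of_model (IsModel.subA ⟨preM12, mP0.inj⟩ memM12) (faithP0.sub _) mem_rng_pt
    (k := 6) (k₁ := 5) (k₂ := 2) (d := 3) (m := 1485) (by norm_num) (by norm_num) (by norm_num)
    (by norm_num) (card_M12.trans (by norm_num)) (by norm_num)
    (ns := [8,4,8,4,4,8,8,4,8,8,8,8,8,4,8,8,8,4,8,8,8,4,8,4]) (As := [0xa2209a,0x5ddf65]) (ss := [4,8])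
    (rel := [[[],[4,5],[3,5],[5],[],[]],[[],[],[],[5],[],[]],[[],[],[],[5],[5],[]],[[],[],[],[5],[],[]],[[],[],[],[],[],[]],[[],[],[],[],[],[]]])
    (sq := [[],[],[],[[0,2]],[[0,1,3]],[[3]]]) (z := [5])
    (σ := [0x1000000000000000000,0x10000000000000000000000000000000001,0x11])
    (b := [[0],[1],[1,2]]) (fin := [[1,3,4],[3,5],[0,4],[2,1],[3,4,5],[5]])
    (st := [([0],[6],[1,4]),([0],[0],[1,5]),([1],[7],[0,3,4]),([0],[2],[0,4,5]),([0,2],[8],[1,2,4])])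
    (by decide +kernel) (by decide +kernel) (by decide +kernel) (by decide +kernel)
    (by decide +kernel) (by decide +kernel) S

def wM22 : List (List ℕ) := [[0,0,3,1,1,3,0,4,1,3,0,4,4,0,3,1],[2,4,0,0,0,3,0,3,0,3,1,1,2,3],[3,1,3,0,2,3,0,2,3,0,0,4,0,0,2,1],[2,0,4,4,1,1,1,1,4,0,0,3,0,2,3],[0,0,3,1,3,0,3,1,3,0,3,1,3,1],[4,1,1,1,3,1,3,1,4,1,3,3],[2,3,3,1,4,4,0,0,3,0,3,1,4,0,0,2],[0,3,0,4,4,0,0,0,3,3,0,3,0,4,1],[2,3,0,3,0,0,0,4,1,3,1,2],[1,1,4,1,3,0,0,0,0,0,0,3,3,0,4]]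
def nM22 : List Net := [
  (Net.cons 15 0x10 (Net.cons 7 0x40 (Net.cons 9 0xa80 (Net.cons 2 0x100 (Net.cons 3 0x1000 (Net.cons 1 0x200000 Net.nil)))))),
  (Net.cons 4 0x52 (Net.cons 1 0x80004 (Net.cons 2 0x800 (Net.cons 6 0x11000 Net.nil)))),
  (Net.cons 16 0x2 (Net.cons 9 0x420 (Net.cons 6 0xc0 (Net.cons 4 0x50800 Net.nil)))),
  (Net.cons 3 0x10010 (Net.cons 16 0x40 (Net.cons 7 0x100 (Net.cons 2 0x40600 (Net.cons 8 0x2000 Net.nil))))),
  (Net.cons 4 0x10012 (Net.cons 6 0x40 (Net.cons 12 0x200 (Net.cons 8 0x400 (Net.cons 3 0x84000 Net.nil))))),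
  (Net.cons 17 0x10 (Net.cons 10 0x40 (Net.cons 6 0x80 (Net.cons 1 0x100 (Net.cons 8 0x1400 (Net.cons 4 0x800 (Net.cons 3 0x80000 Net.nil))))))),
  (Net.cons 4 0x41010 (Net.cons 14 0x40 (Net.cons 8 0x80 (Net.cons 12 0x200 (Net.cons 9 0x400 (Net.cons 2 0x800 Net.nil)))))),
  (Net.cons 16 0x7ce4 (Net.cons 8 0x7c0078 (Net.cons 4 0xe050a00 (Net.cons 2 0x32033200 (Net.cons 1 0x14454100 (Net.cons 2 0x22200000 (Net.cons 4 0xe080800 (Net.cons 8 0x280078 (Net.cons 16 0x7c8c Net.nil))))))))),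
  (Net.cons 16 0xafec (Net.cons 8 0x960010 (Net.cons 4 0x9060004 (Net.cons 2 0x21210000 (Net.cons 1 0x4440014 (Net.cons 2 0x2 (Net.cons 4 0x40004 (Net.cons 8 0x960000 (Net.cons 16 0xaf8a Net.nil))))))))),
  (Net.cons 16 0xc248 (Net.cons 8 0xa800fa (Net.cons 4 0x8060108 (Net.cons 2 0x20111020 (Net.cons 1 0x40504110 (Net.cons 4 0x8020c08 (Net.cons 8 0xaa00ca (Net.cons 16 0xc260 Net.nil))))))))]
theorem preM22 : IsPre 24 pt (lk 1 (wM22.map (wp pg))) (lk Net.nil nM22) vT :=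
  mP0.toIsPre.derive (k := 5) (by decide +kernel) (by decide +kernel)
theorem memM22 (l : ℕ) : lk 1 (wM22.map (wp pg)) l ∈ Spor.M22 := mem_of_cl (le_M22 (by decide +kernel) (by decide +kernel)) l

theorem simple_M22 (S : Sylow 2 Spor.M22) : (groupFusionSystem (S : Subgroup Spor.M22)).IsSimple 2 :=
  simple_of_model (IsModel.subA ⟨preM22, mP0.inj⟩ memM22) (faithP0.sub _) mem_rng_pt
    (k := 7) (k₁ := 5) (k₂ := 2) (d := 3) (m := 3465) (by norm_num) (by norm_num) (by norm_num)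
    (by norm_num) (card_M22.trans (by norm_num)) (by norm_num)
    (ns := [1,4,2,2,16,4,16,16,16,16,16,16,16,16,4,16,16,4,16,16,16,16,16,1]) (As := [0xc,0x24022,0x7dbfd0]) (ss := [2,4,16])
    (rel := [[[],[3,5],[6],[],[5,6],[],[]],[[],[],[4,6],[6],[],[6],[]],[[],[],[],[5],[],[],[]],[[],[],[],[],[6],[],[]],[[],[],[],[],[],[],[]],[[],[],[],[],[],[],[]],[[],[],[],[],[],[],[]]])
    (sq := [[],[],[],[[0,1,4]],[[1,2,5]],[[2,3]],[[0,2]]]) (z := [6])
    (σ := [0x400000000000000004,0x4000000000000000000000000000000000000000000000000000000000000000000000000000000000000000000000000000000000000000000000000000000000000000000000000000000000000000000000000000000000000000000000000000000000000000000000000000000000000000000000000000000000000000000000000000000000000000000000000400000000,0x40000000000000000000000000000000000000000000000000000000000000000000000000000000000000000000000000000000000000000000000000000000000000000000000000000000000000000000000000000000000000000000000000000000000000000000000000000000000000000000000000000000000000000000000000000000000000000000000004])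
    (b := [[0],[1],[2]]) (fin := [[4,6],[2,4,5],[0,1,2,3,5],[3,4,6],[1,3,2,4],[3,5,6],[6]])
    (st := [([0],[7],[0,3,5,6]),([0],[1],[0,6]),([1],[2],[0,3]),([0,1,2,3],[8],[1,3,5]),([0],[2],[1,3,4]),([3],[9],[2,4,6])])
    (by decide +kernel) (by decide +kernel) (by decide +kernel) (by decide +kernel)
    (by decide +kernel) (by decide +kernel) S

def wM23 : List (List ℕ) := [[2,0,4,4,1,1,1,1,4,0,0,3,0,2,3],[1,3,0,3,0,3,1,4,0,4,4,0,4],[0,2,1,3,3,0,0,2,3,1,1,4,4,1,4,4],[4,1,1,1,3,1,3,1,4,1,3,3],[4,1,2,0,3,0,3,0,2,3,0,3],[0,0,4,1,4,4,0,0,4,0,0,4,1,3,0],[1,3,3,1,4,0,0,0,3,0,4,4,1,3,0],[4,1,3,0,0,4,4,0,3,3,0,0,3,0],[1,4,0,0,3,0,0,0,3,0,4,4,1,4,1],[1,4,4,1,3,3,0,4,0,0,3,1,3,0]]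
def nM23 : List Net := [
  (Net.cons 3 0x10010 (Net.cons 16 0x40 (Net.cons 7 0x100 (Net.cons 2 0x40600 (Net.cons 8 0x2000 Net.nil))))),
  (Net.cons 1 0x9004 (Net.cons 17 0x10 (Net.cons 12 0x20 (Net.cons 5 0x40 (Net.cons 13 0x80 (Net.cons 8 0x400 Net.nil)))))),
  (Net.cons 2 0x1 (Net.cons 11 0x8 (Net.cons 14 0x10 (Net.cons 15 0x40 (Net.cons 5 0xd00 (Net.cons 10 0x1000 Net.nil)))))),
  (Net.cons 17 0x10 (Net.cons 10 0x40 (Net.cons 6 0x80 (Net.cons 1 0x100 (Net.cons 8 0x1400 (Net.cons 4 0x800 (Net.cons 3 0x80000 Net.nil))))))),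
  (Net.cons 14 0x101 (Net.cons 1 0x1004 (Net.cons 12 0x10 (Net.cons 4 0x40 (Net.cons 7 0x800 (Net.cons 6 0x8000 Net.nil)))))),
  (Net.cons 12 0x90 (Net.cons 15 0x40 (Net.cons 4 0x100 (Net.cons 11 0x200 (Net.cons 5 0x400 (Net.cons 7 0x800 (Net.cons 9 0x2000 Net.nil))))))),
  (Net.cons 14 0x110 (Net.cons 9 0x40 (Net.cons 13 0x80 (Net.cons 10 0x200 (Net.cons 11 0x400 (Net.cons 5 0x800 (Net.cons 1 0x1000 Net.nil))))))),
  (Net.cons 16 0xa124 (Net.cons 8 0x5000bc (Net.cons 4 0x7000400 (Net.cons 2 0x23032210 (Net.cons 1 0x14041401 (Net.cons 2 0x22000002 (Net.cons 4 0x6020000 (Net.cons 8 0x5000a8 (Net.cons 16 0xa10c Net.nil))))))))),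
  (Net.cons 16 0x80ac (Net.cons 8 0x840078 (Net.cons 4 0x8020b0c (Net.cons 2 0x323320 (Net.cons 1 0x4101450 (Net.cons 2 0x200200 (Net.cons 4 0x8080c0c (Net.cons 8 0x840062 (Net.cons 16 0x80cc Net.nil))))))))),
  (Net.cons 16 0x2947 (Net.cons 8 0x680018 (Net.cons 4 0xa03000b (Net.cons 2 0x20030 (Net.cons 1 0x41040445 (Net.cons 2 0x20020 (Net.cons 4 0xa00000c (Net.cons 8 0x40001c (Net.cons 16 0x291e Net.nil)))))))))]
theorem preM23 : IsPre 24 pt (lk 1 (wM23.map (wp pg))) (lk Net.nil nM23) vT :=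
  mP0.toIsPre.derive (k := 5) (by decide +kernel) (by decide +kernel)
theorem memM23 (l : ℕ) : lk 1 (wM23.map (wp pg)) l ∈ Spor.M23 := mem_of_cl (le_M23 (by decide +kernel)) l

theorem simple_M23 (S : Sylow 2 Spor.M23) : (groupFusionSystem (S : Subgroup Spor.M23)).IsSimple 2 :=
  simple_of_model (IsModel.subA ⟨preM23, mP0.inj⟩ memM23) (faithP0.sub _) mem_rng_pt
    (k := 7) (k₁ := 5) (k₂ := 2) (d := 3) (m := 79695) (by norm_num) (by norm_num) (by norm_num)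
    (by norm_num) (card_M23.trans (by norm_num)) (by norm_num)
    (ns := [4,1,4,4,16,2,16,16,16,16,16,16,16,16,4,16,16,2,16,16,16,16,16,1]) (As := [0x20020,0x400d,0x7dbfd0]) (ss := [2,4,16])
    (rel := [[[],[3,6],[6],[],[5],[],[]],[[],[],[4],[],[],[6],[]],[[],[],[],[5,6],[],[],[]],[[],[],[],[],[6],[],[]],[[],[],[],[],[],[],[]],[[],[],[],[],[],[],[]],[[],[],[],[],[],[],[]]])
    (sq := [[],[],[],[[0,1,5]],[[1,2]],[[0,4]],[[3,4]]]) (z := [6])
    (σ := [0x400000000000000004,0x4000000000000000000000000000000000000000000000000000000000000000000000000000000000000000000000000000000000000000000000000000000000000000000000000000000000000000000000000000000000000000000000000000000000000000000000000000000000000000000000000000000000000000000000000000000000000000000000000400000000,0x40000000000000000000000000000000000000000000000000000000000000000000000000000000000000000000000000000000000000000000000000000000000000000000000000000000000000000000000000000000000000000000000000000000000000000000000000000000000000000000000000000000000000000000000000000000000000000000000004])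
    (b := [[0],[1],[2]]) (fin := [[0,1,2,6],[3,1,3],[5,6],[1,3,4,2],[4,5],[3,4,6],[6]])
    (st := [([0],[7],[2,6]),([0],[1],[2,4,6]),([0],[0],[2,4,5]),([1,2],[8],[1,3,4,5]),([0],[0],[1,4,6]),([2,1,2],[9],[0,3,5,6])])
    (by decide +kernel) (by decide +kernel) (by decide +kernel) (by decide +kernel)
    (by decide +kernel) (by decide +kernel) S

def wM24 : List (List ℕ) := [[0,0,3,0,0,0,2,1,4,0,4,0,4,0,0],[2,3,3,1,4,4,0,0,3,0,3,1,4,0,0,2],[0,2,1,4,0,4,0,4,0,0,0,0,3,0,0],[0,2,4,0,0,0,4,0,0,2,0,3,0,0,3,3,1],[2,0,4,4,1,1,1,1,4,0,0,3,0,2,3],[0,4,4,0,4,0,0,3,1,4,0,4],[1,1,4,0,0,0,3,0,4,4,1,4,4,0],[1,2,0,4,1,1,3,1,3,3,1,3,1,2,3,0],[0,0,0,0,0,2,0,0,0,4,0,3,1,3,0,3],[1,4,4,1,4,0,0,0,3,0,4,4],[0,0,2,3,3,0,3,3,1,2,4,0,2,4,4,0],[1,3,0,0,4,1,2,3,0,0,3,3,1,1,3,0,3,1],[1,1,2,0,3,0,4,1,1,1,3,1,3,0,0,3]]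
def nM24 : List Net := [
  (Net.cons 3 0x44050 (Net.cons 18 0x20 (Net.cons 2 0x400 (Net.cons 11 0x800 (Net.cons 7 0x2000 Net.nil))))),
  (Net.cons 4 0x41010 (Net.cons 14 0x40 (Net.cons 8 0x80 (Net.cons 12 0x200 (Net.cons 9 0x400 (Net.cons 2 0x800 Net.nil)))))),
  (Net.cons 22 0x2 (Net.cons 3 0x44 (Net.cons 6 0x80 (Net.cons 8 0xd00 (Net.cons 7 0x8000 Net.nil))))),
  (Net.cons 1 0x5 (Net.cons 8 0x10 (Net.cons 9 0x20 (Net.cons 3 0xc0 (Net.cons 11 0x800 (Net.cons 6 0x20000 Net.nil)))))),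
  (Net.cons 3 0x10010 (Net.cons 16 0x40 (Net.cons 7 0x100 (Net.cons 2 0x40600 (Net.cons 8 0x2000 Net.nil))))),
  (Net.cons 3 0x4041 (Net.cons 16 0x10 (Net.cons 6 0x80 (Net.cons 8 0x500 (Net.cons 9 0x1000 Net.nil))))),
  (Net.cons 16 0x10 (Net.cons 2 0x40 (Net.cons 11 0x80 (Net.cons 7 0x8200 (Net.cons 3 0x400 (Net.cons 8 0x800 (Net.cons 9 0x1000 Net.nil))))))),
  (Net.cons 14 0x9 (Net.cons 4 0x2 (Net.cons 21 0x4 (Net.cons 3 0xc0 (Net.cons 8 0x100 (Net.cons 5 0x2000 Net.nil)))))),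
  (Net.cons 3 0x4081 (Net.cons 1 0x100002 (Net.cons 8 0x10 (Net.cons 18 0x20 (Net.cons 5 0x2000 Net.nil))))),
  (Net.cons 8 0x110 (Net.cons 3 0xc0 (Net.cons 11 0x800 (Net.cons 5 0x2000 (Net.cons 4 0x8000 (Net.cons 1 0x100000 Net.nil)))))),
  (Net.cons 16 0x3b96 (Net.cons 8 0x2e007c (Net.cons 4 0xf06060c (Net.cons 2 0x30233203 (Net.cons 1 0x11051400 (Net.cons 2 0x20002000 (Net.cons 4 0xe0c020c (Net.cons 8 0x3e007c (Net.cons 16 0x3b8a Net.nil))))))))),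
  (Net.cons 16 0xd45d (Net.cons 8 0x840021 (Net.cons 4 0xc030a03 (Net.cons 2 0x10222022 (Net.cons 1 0x4010104 (Net.cons 2 0x2 (Net.cons 4 0x8020a0c (Net.cons 8 0x900002 (Net.cons 16 0xd4f8 Net.nil))))))))),
  (Net.cons 16 0x8046 (Net.cons 8 0x80007a (Net.cons 4 0x50307 (Net.cons 2 0x221202 (Net.cons 1 0x40415 (Net.cons 2 0x220 (Net.cons 4 0x4 (Net.cons 8 0x10 (Net.cons 16 0x8018 Net.nil)))))))))]
theorem preM24 : IsPre 24 pt (lk 1 (wM24.map (wp pg))) (lk Net.nil nM24) vT :=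
  mP0.toIsPre.derive (k := 5) (by decide +kernel) (by decide +kernel)
theorem memM24 (l : ℕ) : lk 1 (wM24.map (wp pg)) l ∈ M24 := mem_of_cl (le_M24) l

theorem simple_M24 (S : Sylow 2 M24) : (groupFusionSystem (S : Subgroup M24)).IsSimple 2 :=
  simple_of_model (IsModel.subA ⟨preM24, mP0.inj⟩ memM24) (faithP0.sub _) mem_rng_pt
    (k := 10) (k₁ := 5) (k₂ := 2) (d := 4) (m := 239085) (by norm_num) (by norm_num) (by norm_num)
    (by norm_num) (card_M24.trans (by norm_num)) (by norm_num)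
    (ns := [8,8,8,8,16,8,16,16,16,16,16,16,16,16,8,16,16,8,16,16,16,16,16,8]) (As := [0x82402f,0x7dbfd0]) (ss := [8,16])
    (rel := [[[],[4],[5,8,9],[],[],[],[9],[8],[],[]],[[],[],[9],[9],[],[6,9],[],[9],[9],[]],[[],[],[],[7,8,9],[6,9],[],[],[],[],[]],[[],[],[],[],[],[8],[9],[],[],[]],[[],[],[],[],[],[9],[],[9],[],[]],[[],[],[],[],[],[],[],[],[],[]],[[],[],[],[],[],[],[],[],[],[]],[[],[],[],[],[],[],[],[],[],[]],[[],[],[],[],[],[],[],[],[],[]],[[],[],[],[],[],[],[],[],[],[]]])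
    (sq := [[],[],[],[],[[0,1]],[[0,2,6,7]],[[1,5,7]],[[2,3,5,6]],[[0,7]],[[1,7]]]) (z := [9])
    (σ := [0x1100000000000000011,0x111,0x10000000000000001000000000000000011,0x10000000000000000100000000000000001])
    (b := [[0],[1],[2],[0,3]]) (fin := [[0,1,3,6,4,6],[7],[2,3,5,6,8],[1,3,4],[7,8],[2,3],[6,8],[2,5],[2,3,4,5],[9]])
    (st := [([0],[10],[1,4]),([0],[0],[1]),([1],[2],[1,4,6]),([1],[11],[2,5,6]),([0],[0],[2,6,8]),([0],[3],[2,6,7]),([0],[0],[2,5,6,7]),([3],[10],[3,7,8]),([1,8],[12],[0,3,6])])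
    (by decide +kernel) (by decide +kernel) (by decide +kernel) (by decide +kernel)
    (by decide +kernel) (by decide +kernel) S

end Cfsg.Agent.H9
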