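import Cfsg.Agent.H9.SmB
import Cfsg.Agent.H8.Meta
import Cfsg.Agent.H2.MC2
import Cfsg.Agent.S4207

/-!
Metacyclic `2`-groups with an automorphism of odd order, and fusion systems.
-/

set_option autoImplicit false
set_option linter.unusedSectionVars false

namespace Cfsg.Agent.H9

open Cfsg Cfsg.FusionSystem Equiv
open scoped commutatorElement

section grp
variable {G : Type*} [Group G] {p : ℕ} [hp : Fact p.Prime] {A B : Subgroup G}

theorem aut_eq_one_of_frattini [Finite G] (hG : IsPGroup p G) {f : MulAut G}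
    (hf : (orderOf f).Coprime p) (h : ∀ x, f x * x⁻¹ ∈ frattini G) : f = 1 := by
  let A : Subgroup (MulAut G) :=
    { carrier := {α | ∀ x, α x * x⁻¹ ∈ frattini G}
      one_mem' := fun x => by simp
      mul_mem' := fun {a b} ha hb x => by simpa [mul_assoc] using mul_mem (ha (b x)) (hb x)
      inv_mem' := fun {a} ha x => by simpa using Subgroup.inv_mem _ (ha (a⁻¹ x)) }
  obtain ⟨n, hn⟩ := IsPGroup.iff_card.1 hG
  obtain ⟨r, hr⟩ := hG.index (frattini G)
  have := (Subgroup.orderOf_dvd_natCard A h).trans (S4207.result hn hr A fun _ h => h)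
  exact orderOf_eq_one_iff.1 (Nat.Coprime.eq_one_of_dvd (hf.pow_right _) this)

theorem pow_dvd_of_zpow_mem (k : ℕ) : ∀ {x : G} {j : ℤ}, x ^ p ^ (k + 1) ∈ A → x ^ p ^ k ∉ A →
    x ^ j ∈ A → (p : ℤ) ^ (k + 1) ∣ j := by
  induction k with
  | zero => intro x j h1 h2 h3; simpa using dvd_of_zpow_mem (by simpa using h1) (by simpa using h2) h3
  | succ k ih =>
    intro x j h1 h2 h3
    obtain ⟨i, rfl⟩ := dvd_of_zpow_mem (p := p) (x := x ^ p ^ (k + 1)) (k := j)
      (by rwa [← pow_mul, ← pow_succ]) h2 (by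
        rw [← zpow_natCast, ← zpow_mul, mul_comm, zpow_mul, zpow_natCast]; exact A.pow_mem h3 _)
    rw [pow_succ']
    exact mul_dvd_mul_left _ (ih (x := x ^ p) (by rwa [← pow_mul, ← pow_succ'])
      (by rwa [← pow_mul, ← pow_succ']) (by rwa [← zpow_natCast, ← zpow_mul]))

theorem zpowers_eq_pow [Finite G] (hG : IsPGroup p G) {a u : G} (hu : u ∈ Subgroup.zpowers a) :
    ∃ m, Subgroup.zpowers u = Subgroup.zpowers (a ^ p ^ m) := by
  by_cases h : a ∈ Subgroup.zpowers u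
  · exact ⟨0, le_antisymm (by simpa using hu) (by simpa using h)⟩
  obtain ⟨k, k1, k2⟩ := exists_last_pow (S := ⊤) (hG.to_subgroup _) trivial h
  obtain ⟨j, rfl⟩ := hu
  obtain ⟨i, rfl⟩ := pow_dvd_of_zpow_mem k k2 k1 (Subgroup.mem_zpowers _)
  exact ⟨k + 1, le_antisymm (Subgroup.zpowers_le.2 ⟨i, by simp only [zpow_mul]; norm_cast⟩)
    (Subgroup.zpowers_le.2 k2)⟩

theorem zpowers_eq_of_order [Finite G] (hG : IsPGroup p G) {a u v : G}
    (hu : u ∈ Subgroup.zpowers a) (hv : v ∈ Subgroup.zpowers a) (e : orderOf u = orderOf v) :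
    Subgroup.zpowers u = Subgroup.zpowers v := by
  obtain ⟨m, hm⟩ := zpowers_eq_pow hG hu
  obtain ⟨n, hn⟩ := zpowers_eq_pow hG hv
  have k : ∀ m n, m ≤ n → Subgroup.zpowers (a ^ p ^ n) ≤ Subgroup.zpowers (a ^ p ^ m) :=
    fun m n h => Subgroup.zpowers_le.2 (by
      rw [← Nat.add_sub_cancel' h, pow_add, pow_mul]; exact Subgroup.npow_mem_zpowers _ _)
  rcases le_total m n with h | h
  · exact (Subgroup.eq_of_le_of_card_ge (hn.le.trans ((k m n h).trans hm.ge)) (by simp [e])).symm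
  · exact Subgroup.eq_of_le_of_card_ge (hm.le.trans ((k n m h).trans hn.ge)) (by simp [e])

omit hp in
theorem pow_mul_of_cl2 (h : commutator G ≤ Subgroup.center G) {m : ℕ}
    (h' : ∀ c ∈ commutator G, c ^ m.choose 2 = 1) (x y : G) : (x * y) ^ m = x ^ m * y ^ m := by
  have c : ⁅y⁻¹, x⁻¹⁆ ∈ commutator G := Subgroup.commutator_mem_commutator trivial trivial
  rw [L.mul_pow_of_central_commutator (z := ⁅y⁻¹, x⁻¹⁆) (by simp [commutatorElement_def, mul_assoc])
    (Subgroup.mem_center_iff.1 (h c) x) (Subgroup.mem_center_iff.1 (h c) y), h' _ c, mul_one]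

omit hp in
theorem sq_mem_of_gen {x y : G} (e : Subgroup.zpowers x ⊔ Subgroup.zpowers y = ⊤)
    (hB : commutator G ≤ B) (hx : x ^ 2 ∈ B) (hy : y ^ 2 ∈ B) (g : G) : g ^ 2 ∈ B := by
  let K : Subgroup G :=
    { carrier := {g | g ^ 2 ∈ B}
      one_mem' := by simp
      mul_mem' := fun {a b} ha hb => by
        have := B.mul_mem (B.mul_mem ha (hB (Subgroup.commutator_mem_commutator
          (Subgroup.mem_top a⁻¹) (Subgroup.mem_top b)))) hb
        simpa [commutatorElement_def, pow_two, mul_assoc] using this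
      inv_mem' := fun {a} ha => by simpa using B.inv_mem ha }
  exact (e.ge.trans (sup_le (Subgroup.zpowers_le.2 hx) (Subgroup.zpowers_le.2 hy) : _ ≤ K)) trivial

theorem commutator_le_zpowers [Finite G] (hG : IsPGroup p G) {x y : G}
    (hn : (Subgroup.zpowers x).Normal) (e : Subgroup.zpowers x ⊔ Subgroup.zpowers y = ⊤) :
    commutator G ≤ Subgroup.zpowers (x ^ p) := by
  rw [(Reg.der_of_gen hn (Reg.sup_zp x y ▸ e)).1, Subgroup.zpowers_le]
  refine Reg.comm_le_zp hG (K := ⊤) (by rw [Subgroup.normalizer_eq_top]) ?_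
  rw [Subgroup.commutator_comm]
  exact Subgroup.commutator_mem_commutator trivial (Subgroup.mem_zpowers x)

omit hp in
theorem oddAut_top [Finite G] {f : MulAut G} (hf : (orderOf f).Coprime 2) : H2.OddAut ⊤ f :=
  ⟨fun _ _ => trivial, fun x _ y _ => map_mul f x y, orderOf f, Nat.coprime_two_right.1 hf,
    fun x _ => by
      have : ∀ n, f^[n] x = (f ^ n) x := fun n => by
        induction n with
        | zero => rfl
        | succ n ih => rw [Function.iterate_succ_apply', ih, pow_succ']; rfl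
      rw [this, pow_orderOf_eq_one]; rfl⟩

omit hp in
theorem meta_k4 [Finite G] (hG : IsPGroup 2 G) {x y : G}
    (e : Subgroup.zpowers x ⊔ Subgroup.zpowers y = ⊤) {f : MulAut G} (hf : (orderOf f).Coprime 2)
    (h1 : f ≠ 1) : Subgroup.zpowers x ⊔ Subgroup.zpowers (f x) = ⊤ ∧
      (x * f x)⁻¹ * f (f x) ∈ frattini G ∧ ∀ g, g ∈ frattini G ∨ x⁻¹ * g ∈ frattini G ∨
        (f x)⁻¹ * g ∈ frattini G ∨ (f (f x))⁻¹ * g ∈ frattini G := by
  have o := oddAut_top hf
  have nc : ∀ u : G, Subgroup.zpowers u ⊔ frattini G ≠ ⊤ := fun u e => h1 (MulEquiv.ext fun x =>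
    o.fix_of_isCyclic (hG.to_subgroup _) (H1.eq_top_of_sup_frattini le_rfl e ▸ inferInstance) trivial)
  let π := QuotientGroup.mk' (frattini G)
  have fΦ : (frattini G).map f.toMonoidHom = frattini G := H1.map_frattini_equiv f
  let φ := QuotientGroup.congr (frattini G) (frattini G) f fΦ
  have hφ : ∀ g, φ (π g) = π (f g) := fun g => rfl
  have eq : ∀ g h, π g = π h ↔ g⁻¹ * h ∈ frattini G := fun g h => QuotientGroup.eq
  have one : ∀ g, π g = 1 ↔ g ∈ frattini G := fun g => QuotientGroup.eq_one_iff g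
  have k := H2.k4_closure (a := π x) (b := π y)
    (by rw [← map_mul, one, ← pow_two]; exact H1.pow_mem_frattini hG x)
    (by rw [← map_mul, one, ← pow_two]; exact H1.pow_mem_frattini hG y)
    (fun c => nc y (top_le_iff.1 (e.ge.trans (sup_le (le_sup_of_le_right
      (Subgroup.zpowers_le.2 ((one x).1 c))) le_sup_left))))
    (fun c => nc x (top_le_iff.1 (e.ge.trans (sup_le_sup_left
      (Subgroup.zpowers_le.2 ((one y).1 c)) _))))
    (fun c => nc x (top_le_iff.1 (e.ge.trans (sup_le le_sup_left (Subgroup.zpowers_le.2 (by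
      simpa using Subgroup.mul_mem _ (Subgroup.mem_sup_left (Subgroup.mem_zpowers x))
        (Subgroup.mem_sup_right ((eq x y).1 c))))))))
    (by
      rw [← map_mul, ← map_mul, eq]
      have := H1.commutator_le_frattini hG (Subgroup.commutator_mem_commutator
        (Subgroup.mem_top y⁻¹) (Subgroup.mem_top x⁻¹))
      simpa [commutatorElement_def, mul_assoc] using this)
  have t : Subgroup.zpowers (π x) ⊔ Subgroup.zpowers (π y) = ⊤ := by
    rw [← MonoidHom.map_zpowers, ← MonoidHom.map_zpowers, ← Subgroup.map_sup, e,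
      Subgroup.map_top_of_surjective _ (QuotientGroup.mk'_surjective _)]
  rw [t] at k
  have oφ : H2.OddAut ⊤ φ := ⟨fun _ _ => trivial, fun x _ y _ => map_mul φ x y, by
    obtain ⟨m, hm, e⟩ := o.odd
    refine ⟨m, hm, fun v _ => ?_⟩
    obtain ⟨g, rfl⟩ := QuotientGroup.mk'_surjective _ v
    exact (Function.Semiconj.iterate_right (f := π) (ga := f) (gb := φ) (fun g => (hφ g).symm) m
      g).symm.trans (congrArg π (e g trivial))⟩
  have ne : ∃ v ∈ (⊤ : Subgroup _), φ v ≠ v := by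
    by_contra c
    push Not at c
    refine h1 (aut_eq_one_of_frattini hG hf fun g => ?_)
    rw [← one, map_mul, map_inv, ← hφ, c _ trivial, mul_inv_cancel]
  have tr : ∀ g, π g ≠ 1 → π g = π x ∨ π g = π (f x) ∨ π g = π (f (f x)) := fun g hg =>
    oφ.k4_trans k.isKleinFour ne trivial trivial k.a1 hg
  have n1 : π (f x) ≠ π x := fun c => k.ne (by
    have c' : π (f (f x)) = π x := by rw [← hφ, c, hφ, c]
    rcases tr y k.b1 with d | d | d <;> simp [d, c, c'])
  have n2 : π (f x) ≠ 1 := fun c => k.a1 (φ.injective (by rw [hφ, c, map_one]))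
  have e3 : π (x * f x) = π (f (f x)) := by
    rcases tr (x * f x) (fun c => n1 (by
      rw [map_mul, mul_eq_one_iff_inv_eq, k.a_inv] at c; exact c.symm)) with d | d | d
    · exact absurd (by simpa using d) n2
    · exact absurd (by simpa using d) k.a1
    · exact d
  have all : ∀ g, g ∈ frattini G ∨ x⁻¹ * g ∈ frattini G ∨
      (f x)⁻¹ * g ∈ frattini G ∨ (f (f x))⁻¹ * g ∈ frattini G := fun g => by
    rw [← one, ← eq, ← eq, ← eq]
    exact or_iff_not_imp_left.2 fun c => (tr g c).imp Eq.symm (Or.imp Eq.symm Eq.symm)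
  refine ⟨H1.eq_top_of_sup_frattini le_rfl (top_le_iff.1 fun g _ => ?_), (eq _ _).1 e3, all⟩
  have m1 : x ∈ Subgroup.zpowers x ⊔ Subgroup.zpowers (f x) ⊔ frattini G :=
    Subgroup.mem_sup_left (Subgroup.mem_sup_left (Subgroup.mem_zpowers _))
  have m2 : f x ∈ Subgroup.zpowers x ⊔ Subgroup.zpowers (f x) ⊔ frattini G :=
    Subgroup.mem_sup_left (Subgroup.mem_sup_right (Subgroup.mem_zpowers _))
  rcases all g with d | d | d | d
  · exact Subgroup.mem_sup_right d
  · simpa using mul_mem m1 (Subgroup.mem_sup_right d)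
  · simpa using mul_mem m2 (Subgroup.mem_sup_right d)
  · rw [← eq, ← e3, eq] at d
    simpa [mul_assoc] using mul_mem (mul_mem m1 m2) (Subgroup.mem_sup_right d)

omit hp in
/-- A metacyclic `2`-group with a nontrivial automorphism of odd order. -/
theorem meta_odd [Finite G] (hG : IsPGroup 2 G) (hm : IsMetacyclic G) {f : MulAut G}
    (hf : (orderOf f).Coprime 2) (h1 : f ≠ 1) : Nonempty (G ≃* QuaternionGroup 2) ∨
      ((∀ x y : G, x * y = y * x) ∧ ∃ (k : ℕ) (a b : G), orderOf a = 2 ^ (k + 1) ∧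
        orderOf b = 2 ^ (k + 1) ∧ Subgroup.zpowers a ⊔ Subgroup.zpowers b = ⊤ ∧
        ∀ x ∈ Subgroup.zpowers a, x ∈ Subgroup.zpowers b → x = 1) := by
  obtain ⟨x, y, hn, e⟩ := Reg.meta_gen hm
  obtain ⟨e, e3, all⟩ := meta_k4 hG ((Reg.sup_zp x y).trans e) hf h1
  have o := oddAut_top hf
  have hn' : (Subgroup.zpowers (f x)).Normal := by
    rw [show f x = f.toMonoidHom x from rfl, ← MonoidHom.map_zpowers]
    exact hn.map _ f.surjective
  have nx : x ∉ Subgroup.zpowers (f x) := fun c => h1 (MulEquiv.ext fun g =>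
    o.fix_of_isCyclic (hG.to_subgroup _) (by
      rw [← e, sup_eq_right.2 (Subgroup.zpowers_le.2 c)]; infer_instance) trivial)
  obtain ⟨k, k1, k2⟩ := exists_last_pow (S := ⊤) (hG.to_subgroup _) trivial nx
  set d := x ^ 2 ^ (k + 1) with hd
  have inter : ∀ u ∈ Subgroup.zpowers x, u ∈ Subgroup.zpowers (f x) → u ∈ Subgroup.zpowers d := by
    rintro _ ⟨j, rfl⟩ hu
    obtain ⟨i, rfl⟩ := pow_dvd_of_zpow_mem k k2 k1 hu
    exact ⟨i, by simp only [hd, zpow_mul]; norm_cast⟩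
  have d1 : f x ^ 2 ^ (k + 1) = d := by
    rw [← map_pow]
    exact o.fix_of_mem_zpowers (hG.to_subgroup _) trivial ((zpowers_eq_of_order hG k2
      (map_pow f x _ ▸ Subgroup.npow_mem_zpowers _ _) (f.orderOf_eq d).symm).ge
      (Subgroup.mem_zpowers _))
  have d2 : f (f x) ^ 2 ^ (k + 1) = d := by rw [← map_pow, d1, hd, map_pow, d1]
  have cD : commutator G ≤ Subgroup.zpowers d := fun u hu => inter u
    (Subgroup.zpowers_le.2 (Subgroup.npow_mem_zpowers _ _) (commutator_le_zpowers hG hn e hu))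
    (Subgroup.zpowers_le.2 (Subgroup.npow_mem_zpowers _ _)
      (commutator_le_zpowers hG hn' ((sup_comm _ _).trans e) hu))
  have dZ : Subgroup.zpowers d ≤ Subgroup.center G := Subgroup.zpowers_le.2
    (L.mem_center_of_commute_generators e (Subgroup.zpowers_le.2
      (Subgroup.mem_centralizer_singleton_iff.2 (Commute.self_pow x _)))
      (Subgroup.zpowers_le.2 (Subgroup.mem_centralizer_singleton_iff.2
        (d1 ▸ Commute.self_pow (f x) _))))
  have cl := cD.trans dZ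
  have cn : ∀ c ∈ commutator G, c ^ 2 ^ (k + 1) = 1 := by
    rw [(Reg.der_of_gen hn ((Reg.sup_zp _ _).symm.trans e)).1]
    rintro _ ⟨j, rfl⟩
    simp only
    rw [← zpow_natCast, ← zpow_mul, mul_comm, zpow_mul, zpow_natCast, ← H2.commElt_pow_left
      (Subgroup.mem_center_iff.1 (cl (Subgroup.commutator_mem_commutator trivial trivial)) _), d1,
      commutatorElement_eq_one_iff_mul_comm.2 (Subgroup.mem_center_iff.1
        (dZ (Subgroup.mem_zpowers d)) x).symm, one_zpow]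
  have fr : frattini G ≤ Subgroup.zpowers (x ^ 2) ⊔ Subgroup.zpowers (f x ^ 2) :=
    have := (commutator_le_zpowers hG hn e).trans
      (le_sup_left : _ ≤ Subgroup.zpowers (x ^ 2) ⊔ Subgroup.zpowers (f x ^ 2))
    H1.frattini_le_of_elementary Nat.prime_two this (sq_mem_of_gen e this
      (Subgroup.mem_sup_left (Subgroup.mem_zpowers _)) (Subgroup.mem_sup_right (Subgroup.mem_zpowers _)))
  have key : ∀ t : ℕ, (∀ c ∈ commutator G, c ^ (2 ^ (k + 1) * t).choose 2 = 1) → d ^ t = 1 :=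
    fun t ht => by
      let Q : G →* G := MonoidHom.mk' (fun g => g ^ (2 ^ (k + 1) * t)) (pow_mul_of_cl2 cl ht)
      have q1 : Q x = d ^ t := pow_mul _ _ _
      have q2 : Q (f x) = d ^ t := (pow_mul _ _ _).trans (by rw [d1])
      have q3 : Q (f (f x)) = d ^ t := (pow_mul _ _ _).trans (by rw [d2])
      have : Subgroup.zpowers (x ^ 2) ⊔ Subgroup.zpowers (f x ^ 2) ≤
          (Subgroup.zpowers ((d ^ t) ^ 2)).comap Q := sup_le
        (Subgroup.zpowers_le.2 (by simp [Subgroup.mem_comap, q1]))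
        (Subgroup.zpowers_le.2 (by simp [Subgroup.mem_comap, q2]))
      have m := this (fr e3)
      rw [Subgroup.mem_comap, map_mul, map_inv, map_mul, q1, q2, q3, mul_inv_rev,
        inv_mul_cancel_right, Subgroup.inv_mem_iff, mem_zpowers_pow_iff] at m
      exact eq_one_of_pow_coprime (p := 2) (S := ⊤) (hG.to_subgroup _) trivial
        (Nat.Coprime.symm m) (pow_orderOf_eq_one _)
  have dd : d ^ 2 = 1 := key 2 fun c hc => by
    rw [mul_comm, H2.choose_two_two_mul, pow_mul, cn c hc, one_pow]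
  have ab : ∀ x y : G, commutator G ≤ ⊥ → x * y = y * x := fun x y h =>
    commutatorElement_eq_one_iff_mul_comm.1 (h (Subgroup.commutator_mem_commutator trivial trivial))
  by_cases d0 : d = 1
  · have ox : orderOf x = 2 ^ (k + 1) := orderOf_eq_pow (fun c => k1 (c ▸ one_mem _)) d0
    exact Or.inr ⟨fun x y => ab x y (by simpa [d0] using cD), k, x, f x, ox, by
      rw [f.orderOf_eq, ox], e, fun u h1 h2 => by simpa [d0] using inter u h1 h2⟩
  have c2 : ∀ c ∈ Subgroup.zpowers d, c ^ 2 = 1 := by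
    rintro _ ⟨j, rfl⟩
    simp only
    rw [← zpow_natCast, ← zpow_mul, mul_comm, zpow_mul, zpow_natCast, dd, one_zpow]
  obtain rfl : k = 0 := by
    by_contra hk
    obtain ⟨k, rfl⟩ := Nat.exists_eq_succ_of_ne_zero hk
    refine d0 ((pow_one d).symm.trans (key 1 fun c hc => ?_))
    rw [mul_one, pow_succ', H2.choose_two_two_mul, pow_succ', mul_assoc, pow_mul, c2 c (cD hc),
      one_pow]
  have na : ¬ ∀ x y : G, x * y = y * x := fun h => d0 ((pow_one d).symm.trans (key 1 fun c hc => by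
    rw [Subgroup.mem_bot.1 (commutator_le_bot (fun x _ y _ => h x y) hc), one_pow]))
  simp only [zero_add, pow_one] at hd d1 d2 k2
  rw [← hd, d1, sup_idem] at fr
  have na' : ¬ ∀ x ∈ (⊤ : Subgroup G), ∀ y ∈ (⊤ : Subgroup G), x * y = y * x :=
    fun h => na fun x y => h x trivial y trivial
  have c8 : Nat.card (⊤ : Subgroup G) = 8 := by
    have a := card_sup_zpowers_le (p := 2) (x := x) (fun a ha => hn'.conj_mem a ha x) (hd ▸ k2)
    have ox : orderOf x = 2 ^ (1 + 1) := orderOf_eq_pow (by simpa [← hd] using d0) (by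
      rw [pow_succ, pow_mul, pow_one, ← hd, dd])
    rw [sup_comm, e, Nat.card_zpowers, f.orderOf_eq, ox] at a
    obtain ⟨n, hn⟩ := IsPGroup.iff_card.1 (hG.to_subgroup ⊤)
    have b := mt (comm_of_card_le (hG.to_subgroup ⊤)) na'
    rw [hn] at a b ⊢
    rw [← pow_succ', Nat.pow_le_pow_iff_right one_lt_two] at a
    rw [Nat.pow_le_pow_iff_right one_lt_two] at b
    rw [show n = 3 by omega]; norm_num
  obtain ⟨q⟩ := quaternion_of_card (hG.to_subgroup ⊤) c8 na' fun g _ hg => by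
    have k : ∀ u, u ^ 2 = d → u⁻¹ * g ∉ frattini G := fun u hu c => d0 (by
      have := Commute.mul_pow (Subgroup.mem_center_iff.1 (dZ (fr c)) u) 2
      rwa [mul_inv_cancel_left, hg, c2 _ (fr c), mul_one, hu, eq_comm] at this)
    rcases all g with c | c | c | c
    · exact mem_C.2 ⟨trivial, fun y _ => Subgroup.mem_center_iff.1 (dZ (fr c)) y⟩
    · exact absurd c (k _ hd.symm)
    · exact absurd c (k _ d1)
    · exact absurd c (k _ d2)
  exact Or.inl ⟨Subgroup.topEquiv.symm.trans q⟩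

omit hp in
theorem exists_odd_aut [Finite G] {K : Subgroup (MulAut G)} (h : ¬ IsPGroup 2 K) :
    ∃ f ∈ K, (orderOf f).Coprime 2 ∧ f ≠ 1 := by
  by_contra c
  push Not at c
  refine h fun ⟨f, hf⟩ => ⟨(orderOf f).factorization 2, Subtype.ext (c _ (K.pow_mem hf _) ?_)⟩
  change (orderOf (f ^ _)).Coprime 2
  rw [orderOf_pow_of_dvd (by positivity) (Nat.ordProj_dvd _ _)]
  exact (Nat.coprime_ordCompl Nat.prime_two (orderOf_pos f).ne').symm

omit hp in
theorem meta_aut [Finite G] (hG : IsPGroup 2 G) (hm : IsMetacyclic G)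
    (hA : ¬ IsPGroup 2 (MulAut G)) : Nonempty (G ≃* QuaternionGroup 2) ∨
      ∃ n : ℕ, Nonempty (G ≃* Multiplicative (ZMod (2 ^ n) × ZMod (2 ^ n))) := by
  obtain ⟨f, -, h1, h2⟩ := exists_odd_aut (K := ⊤) fun c => hA (c.of_equiv Subgroup.topEquiv)
  refine (meta_odd hG hm h1 h2).imp_right fun ⟨ab, k, a, b, ha, hb, e, hd⟩ => ?_
  obtain ⟨q, -⟩ := zz_equiv ha hb e hd (ab a b)
  exact ⟨_, ⟨Subgroup.topEquiv.symm.trans q.symm⟩⟩

omit hp in
theorem dsq_elim [Finite G] (h : H2.DSQ G) : (∃ m : ℕ, Nonempty (G ≃* DihedralGroup m)) ∨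
    (∃ m : ℕ, Nonempty (G ≃* QuaternionGroup m)) ∨ IsQuasiDihedral G := by
  rcases h with ⟨k, h⟩ | ⟨k, h1, a, b, h2⟩ | ⟨k, h⟩
  · exact Or.inl ⟨_, h⟩
  · exact Or.inr (Or.inr ⟨k + 3, by omega, h1, a, b, h2⟩)
  · exact Or.inr (Or.inl ⟨_, h⟩)

omit hp in
/-- In a metacyclic group an element acting on a homocyclic subgroup of index two centralizes
its involutions. -/
theorem meta_fix [Finite G] (hG : IsPGroup 2 G) (hm : IsMetacyclic G) {g : G}
    (hA : H2.Ix2 A ⊤) (ab : ∀ x ∈ A, ∀ y ∈ A, x * y = y * x) {k : ℕ}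
    (he : ∀ x ∈ A, x ^ 2 ^ (k + 2) = 1) {u : G} (hu : u ∈ A) :
    g * u ^ 2 ^ (k + 1) * g⁻¹ = u ^ 2 ^ (k + 1) := by
  by_cases hg : g ∈ A
  · rw [ab g hg _ (A.pow_mem hu _), mul_inv_cancel_right]
  obtain ⟨x, y, hn, e⟩ := Reg.meta_gen hm
  have c := commutator_le_zpowers hG hn ((Reg.sup_zp x y).trans e)
  have m : u⁻¹ * (g * u * g⁻¹) ∈ Subgroup.zpowers (x ^ 2) :=
    c (inv_mul_conj_eq g u ▸ Subgroup.commutator_mem_commutator trivial trivial)
  have hu' := hA.conj_mem le_top (Subgroup.mem_top g) hu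
  have e1 : (u⁻¹ * (g * u * g⁻¹)) ^ 2 ^ (k + 1) = 1 := by
    by_cases hx : x ∈ A
    · obtain ⟨j, hj⟩ := m
      rw [← hj]
      simp only
      rw [← zpow_natCast, ← zpow_mul, mul_comm, zpow_mul, zpow_natCast, ← pow_mul, ← pow_succ',
        he x hx, one_zpow]
    · have h1 : Commute g (x ^ 2) := by
        have r := hA.mul_inv trivial trivial hg hx
        have := (Commute.mul_left (ab _ r _ (pow_two x ▸ hA.sq trivial)) (Commute.self_pow x 2))
        simpa using this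
      obtain ⟨j, hj⟩ := m
      have h2 : Commute g (u⁻¹ * (g * u * g⁻¹)) := hj ▸ h1.zpow_right j
      have h3 : g * (g * u * g⁻¹) * g⁻¹ = u := by
        have := ab _ (hA.sq (Subgroup.mem_top g)) u hu
        calc g * (g * u * g⁻¹) * g⁻¹ = g * g * u * (g * g)⁻¹ := by group
          _ = u := by rw [this]; group
      have h4 : (u⁻¹ * (g * u * g⁻¹)) ^ 2 = 1 := by
        rw [pow_two]
        nth_rw 1 [← mul_inv_eq_iff_eq_mul.2 h2.eq]
        calc g * (u⁻¹ * (g * u * g⁻¹)) * g⁻¹ * (u⁻¹ * (g * u * g⁻¹)) =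
            (g * u * g⁻¹)⁻¹ * (g * (g * u * g⁻¹) * g⁻¹) * (u⁻¹ * (g * u * g⁻¹)) := by group
          _ = 1 := by rw [h3]; group
      rw [pow_succ', pow_mul, h4, one_pow]
  rw [Commute.mul_pow (ab _ (A.inv_mem hu) _ hu'), inv_pow, conj_pow, inv_mul_eq_one] at e1
  exact e1.symm

end grp

variable {Ω : Type*} [Group Ω] {S : Subgroup Ω} [Finite S] {p : ℕ} [hp : Fact p.Prime]
  {F : FusionSystem S} {P Q R T U V W A B C D E Z Y : Subgroup Ω} {σ τ χ α β γ : Perm Ω}

theorem mem_of_omega_inf (hS : IsPGroup p S) (hc : F.IsCentric R) (hr : F.IsRadical p R)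
    (hT : F.StronglyClosed T) (hab : ∀ x ∈ R ⊓ T, ∀ y ∈ R ⊓ T, x * y = y * x) {g : Ω}
    (hg : g ∈ normalizerIn S R) (hg' : g ∈ T)
    (h1 : ∀ x ∈ R ⊓ T, x ^ p = 1 → g * x * g⁻¹ = x) : g ∈ R := by
  obtain ⟨n, hn⟩ := exists_pow_eq_one hS
  refine mem_of_chain hS hc hr hg (n + 1) (fun i => if i ≤ n then powPre (R ⊓ T) ⊥ hab (p ^ i)
    else ⊤) (fun x _ hx => by simpa using hx.2) (by simp) (fun i τ hτ x hx => ?_)
    fun i hi x hx hx' => ?_
  · split_ifs
    · exact fun hx' => ⟨(hτ.inf hT).maps hx'.1, by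
        rw [← hτ.homOn.map_pow hx, Subgroup.mem_bot.1 hx'.2, hτ.mor.map_one]; exact one_mem _⟩
    · simp
  · rw [if_pos (by omega)]
    have m : x⁻¹ * (g * x * g⁻¹) ∈ R ⊓ T := ⟨R.mul_mem (R.inv_mem hx) (conj_mem_of_mem_N hg hx), by
      simpa [mul_assoc] using T.mul_mem (sc_conj hT (S.inv_mem (hc.1 hx)) hg') (T.inv_mem hg')⟩
    refine ⟨m, ?_⟩
    split_ifs at hx' with h
    · have hy := conj_mem_of_mem_N (le_N_inf hT hc.1 hg) hx'.1
      rw [Commute.mul_pow (hab _ (Subgroup.inv_mem _ hx'.1) _ hy), inv_pow, conj_pow,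
        h1 _ (Subgroup.pow_mem _ hx'.1 _) (by rw [← pow_mul, ← pow_succ]; exact hx'.2)]
      simp
    · rw [show i = n by omega, hn _ (hc.1 m.1)]; exact one_mem _

omit hp in
theorem Sat.normal_of_meta (h : Sat 2 F) (hP : F.StronglyClosed P) (hm : IsMetacyclic P)
    (hd : ¬ ∃ m : ℕ, Nonempty (P ≃* DihedralGroup m))
    (hq : ¬ ∃ m : ℕ, Nonempty (P ≃* QuaternionGroup m)) (hsd : ¬ IsQuasiDihedral P) :
    F.IsNormal P := by
  have := finite_of_le hP.1
  have hPp := h.pg.to_le hP.1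
  refine h.normal_of_sc_le hP fun R _ hc hr => ?_
  by_contra hPR
  obtain ⟨g, hg, hgN, hgR⟩ : ∃ g ∈ P, g ∈ Subgroup.normalizer (R : Set Ω) ∧ g ∉ R := by
    by_contra c
    push Not at c
    exact hPR (le_of_N_le' h.pg hc.1 hP.1 (fun g hg x hx => sc_conj hP (hc.1 hg) hx) c)
  obtain ⟨n, g1, g2⟩ := exists_last_pow hPp hg hgR
  rw [pow_succ, pow_mul] at g2
  have g3 := P.pow_mem hg (2 ^ n)
  have g4 : g ^ 2 ^ n ∈ normalizerIn S R := ⟨hP.1 g3, Subgroup.pow_mem _ hgN _⟩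
  generalize g ^ 2 ^ n = t at g1 g2 g3 g4
  have hC := C_inf_le_of_cr h.pg hP hc hr
  have mod : ∀ x ∈ R, x⁻¹ * (t * x * t⁻¹) ∈ P := fun x hx => by
    simpa [mul_assoc] using P.mul_mem (sc_conj hP (S.inv_mem (hc.1 hx)) g3) (P.inv_mem g3)
  refine g1 (mem_of_inK_opm hc hr (hP.1 g3) (inK_opm_of_pp (iso_cj F hc.1 g4)
    (fun σ => ∀ x ∈ R, x⁻¹ * σ x ∈ P) (by simp) (fun σ τ a b c d x hx => by
      simpa [mul_assoc] using P.mul_mem (d x hx) (c _ (b.maps hx)))
    (fun σ a c x hx => by simpa using P.inv_mem (c _ (a.inv_maps hx)))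
    (fun σ τ a b c x hx => by
      have hy := a.inv_maps hx
      have := sc_mem hP a.mor (R.mul_mem (R.inv_mem hy) (b.maps hy)) (c _ hy)
      rwa [a.mor.map_mul (R.inv_mem hy) (b.maps hy), a.mor.map_inv hy, pai] at this)
    (fun σ τ c e x hx => by rw [e x hx]; exact c x hx) (fun σ a c d x hx => ?_) mod))
  refine d.fix (h.pg.to_le hc.1) a.homOn (fun _ => a.maps) c (fun y hy hy' => ?_) hx
  by_contra ne
  have a' := a.inf hP
  have l : R ⊓ P ≤ P := inf_le_right
  have := finite_of_le l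
  have cen : Subgroup.centralizer ((R ⊓ P).subgroupOf P : Set P) ≤ (R ⊓ P).subgroupOf P :=
    fun z hz => ⟨hC (mem_C.2 ⟨z.2, fun w hw => congrArg Subtype.val (hz ⟨w, hw.2⟩ hw)⟩), z.2⟩
  have lt : R ⊓ P < P := lt_of_le_of_ne l fun e => hPR (e.ge.trans inf_le_left)
  have clt := mul_card_le_of_lt hPp lt
  have dsq : (commutator P).index = 4 → 4 ≤ Nat.card (R ⊓ P : Subgroup Ω) → False := fun i c => by
    rcases dsq_elim (H2.dsq_of_index hPp i (by omega)) with c | c | c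
    exacts [hd c, hq c, hsd c]
  rcases meta_odd (hPp.to_le l) (Reg.meta_inj hm _ (Subgroup.inclusion_injective l))
    (f := a'.toEquiv) ((pp_iff fun _ => rfl).1 (d.mono inf_le_left))
    (fun e => ne (congrArg (fun f : MulAut (R ⊓ P : Subgroup Ω) => (f ⟨y, hy, hy'⟩ : Ω)) e)) with
    ⟨⟨q⟩⟩ | ⟨ab, k, a, b, ha, hb, e, hd⟩
  · obtain ⟨x, y, mc⟩ := H2.exists_mc_one (R := (R ⊓ P).subgroupOf P) (hPp.to_subgroup _)
      (Or.inr ⟨(Subgroup.subgroupOfEquivOfLe l).trans q⟩)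
    exact dsq (mc.index_commutator hPp cen) (by
      rw [Nat.card_congr q.toEquiv, Nat.card_eq_fintype_card, QuaternionGroup.card]; norm_num)
  have ab' : ∀ x ∈ R ⊓ P, ∀ y ∈ R ⊓ P, x * y = y * x := fun x hx y hy =>
    congrArg Subtype.val (ab ⟨x, hx⟩ ⟨y, hy⟩)
  have ex : ∀ u : (R ⊓ P : Subgroup Ω), u ^ 2 ^ (k + 1) = 1 := fun u => by
    obtain ⟨i, j, rfl⟩ := (mem_zz (ab a b)).1 (e.ge (Subgroup.mem_top u))
    rw [Commute.mul_pow (ab _ _), ← zpow_natCast, ← zpow_natCast, ← zpow_mul, ← zpow_mul,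
      mul_comm i, mul_comm j, zpow_mul, zpow_mul, zpow_natCast, zpow_natCast, ← ha,
      pow_orderOf_eq_one, ha, ← hb, pow_orderOf_eq_one]
    simp
  have cR := CRl.card_homocyclic (fun x _ y _ => ab x y) ha hb e hd
  rw [Subgroup.card_top] at cR
  rcases k with _ | k
  · obtain ⟨z, z1, z2, z3⟩ := exists_central hPp le_rfl conj_self_mem (ne_bot_of_gt lt)
    have zR : z ∈ R ⊓ P := ⟨hC (mem_C.2 ⟨z1, fun w hw => z3 w hw.2⟩), z1⟩
    obtain ⟨w, hw, hw'⟩ : ∃ w ∈ R ⊓ P, t * w ≠ w * t := by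
      by_contra c
      push Not at c
      exact g1 (hC (mem_C.2 ⟨g3, fun w hw => (c w hw).symm⟩))
    have z4 : z ^ 2 = 1 := congrArg Subtype.val (ex ⟨z, zR⟩)
    have e' := sup_zpowers_eq (hPp.to_le l) (Subgroup.zpowers_le.2 zR) (by
      rw [cR, card_zpowers_eq z4 z2]; norm_num) hw (fun c => hw' (comm_zpowers (z3 t g3) t
        (Subgroup.mem_zpowers t) w c))
    refine dsq (H2.index_commutator_of_cent hPp (x := ⟨w, hw.2⟩) ?_ (by omega)) (by omega)
    refine (Subgroup.card_le_of_le (K := (R ⊓ P).subgroupOf P) fun u hu =>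
      ⟨hC (mem_C.2 ⟨u.2, ?_⟩), u.2⟩).trans ?_
    · rw [← e']
      exact R2.comm_sup (fun v hv => (comm_zpowers (z3 u u.2) u (Subgroup.mem_zpowers _) v hv).symm)
        (congrArg Subtype.val (Subgroup.mem_centralizer_singleton_iff.1 hu)).symm
    · rw [Nat.card_congr (Subgroup.subgroupOfEquivOfLe l).toEquiv, cR]; norm_num
  refine g1 (mem_of_omega_inf h.pg hc hr hP ab' g4 g3 fun v hv v2 => ?_)
  obtain ⟨u, hu, rfl⟩ : ∃ u ∈ R ⊓ P, u ^ 2 ^ (k + 1) = v := by
    obtain ⟨i, j, e'⟩ := (mem_zz (ab a b)).1 (e.ge (Subgroup.mem_top ⟨v, hv⟩))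
    have v3 : (a ^ i) ^ 2 * (b ^ j) ^ 2 = 1 := by
      rw [← Commute.mul_pow (ab _ _), e']; exact Subtype.ext v2
    have a1 : (a ^ i) ^ 2 = 1 := hd _ (Subgroup.pow_mem _ (Subgroup.zpow_mem_zpowers _ _) _)
      (eq_inv_of_mul_eq_one_left v3 ▸ Subgroup.inv_mem _
        (Subgroup.pow_mem _ (Subgroup.zpow_mem_zpowers _ _) _))
    rw [a1, one_mul] at v3
    obtain ⟨i', hi⟩ := mem_zpowers_pow ha (Subgroup.zpow_mem_zpowers _ _) a1
    obtain ⟨j', hj⟩ := mem_zpowers_pow hb (Subgroup.zpow_mem_zpowers _ _) v3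
    suffices (a ^ i' * b ^ j') ^ 2 ^ (k + 1) = a ^ i * b ^ j from
      ⟨_, (a ^ i' * b ^ j').2, congrArg Subtype.val (this.trans e')⟩
    rw [← hi, ← hj]
    simp only
    rw [Commute.mul_pow (ab _ _), ← zpow_natCast, ← zpow_natCast, ← zpow_natCast, ← zpow_natCast,
      ← zpow_mul, ← zpow_mul, ← zpow_mul, ← zpow_mul, mul_comm i', mul_comm j']
  have tN := (le_N_inf hP hc.1 g4).2
  have l2 := sup_le l (Subgroup.zpowers_le.2 g3)
  have := finite_of_le l2
  have i2 := H2.ix2_sup tN (pow_two t ▸ ⟨g2, P.pow_mem g3 2⟩)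
  exact congrArg Subtype.val (meta_fix (hPp.to_le l2)
    (Reg.meta_inj hm _ (Subgroup.inclusion_injective l2)) (A := (R ⊓ P).subgroupOf _)
    (g := ⟨t, Subgroup.mem_sup_right (Subgroup.mem_zpowers t)⟩)
    (fun x _ y _ => i2 x x.2 y y.2) (fun x hx y hy => Subtype.ext (ab' x hx y hy))
    (fun x hx => Subtype.ext (show (x : Ω) ^ _ = 1 from congrArg Subtype.val (ex ⟨x, hx⟩)))
    (u := ⟨u, Subgroup.mem_sup_left hu⟩) hu)

theorem Sat.autGroup_top (h : Sat p F) (hA : IsPGroup p (MulAut S)) : F.autGroup S = Inn S :=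
  (h.syl_top.eq_of_le le_rfl (hA.to_subgroup _) h.syl_top.le).symm

end Cfsg.Agent.H9
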