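import Cfsg.Agent.H9.Wedge

/-! Pulling back normal subsystems along central quotients. -/

set_option autoImplicit false
set_option linter.unusedSectionVars false

namespace Cfsg.Agent.H9

open Cfsg Cfsg.FusionSystem Equiv
open scoped commutatorElement

variable {Ω Ω' : Type*} [Group Ω] [Group Ω'] {S : Subgroup Ω} [Finite S] {S' : Subgroup Ω'}
  {p : ℕ} [hp : Fact p.Prime] {F : FusionSystem S} {F' : FusionSystem S'} {f : Ω → Ω'}
  {P Q R T U V W X Y Z : Subgroup Ω} {σ τ χ α β γ ρ δ : Perm Ω} {T' Q' : Subgroup Ω'}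
  {σ' τ' : Perm Ω'}

namespace Fac

omit hp in
theorem comm_mem (h : Fac F F' f Z) (hQ : Q ≤ S) {x : Ω} (hx : x ∈ S)
    (hc : f x ∈ centralizerIn S' (im f Q)) {r : Ω} (hr : r ∈ Q) : r⁻¹ * (x * r * x⁻¹) ∈ Z :=
  (h.eq_iff (hQ hr) (S.mul_mem (S.mul_mem hx (hQ hr)) (S.inv_mem hx))).1 (by
    rw [h.hom.map_conj hx (hQ hr), (mem_C'.1 hc).2 _ (mem_im_of_mem f hr)])

theorem cj_opm (h : Fac F F' f Z) (hS : IsPGroup p S) (hZ : F.IsCentral Z) (hQ : Q ≤ S)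
    (hZQ : Z ≤ Q) {x : Ω} (hx : x ∈ S) (hc : f x ∈ centralizerIn S' (im f Q)) :
    InK (opm p (F.autGroup Q)) (cj x) := by
  have := finite_of_le hQ
  have a := fun r => h.comm_mem hQ hx hc (r := r)
  exact inK_opm_two (hS.to_le hQ) ((inK_autGroup hQ).2 (iso_cj F hQ (mem_N_of_comm hQ hZQ hx a))) Z
    (fun τ b y c d => sc_mem h.sc ((inK_autGroup hQ).1 b).mor c d)
    (fun y _ d => by simp [central_comm hZ d hx]) a

theorem centric_of_cr (h : Fac F F' f Z) (hS : IsPGroup p S) (hZ : F.IsCentral Z)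
    (hc : F.IsCentric R) (hr : F.IsRadical p R) : F'.IsCentric (im f R) := by
  have := h.finite
  have a := normal_le_cr hS (central_normal hZ) hc hr
  refine isCentric_iff.2 ⟨h.im_le hc.1, fun Q' σ' b y hy => ?_⟩
  obtain ⟨σ, c, -⟩ := h.lift_iso b
  rw [h.pre_im' hc.1 a] at c
  obtain ⟨x, d, rfl⟩ := h.exists_eq hy.1
  exact (h.mem_pre.1 (mem_of_inK_opm (c.centric hc) (c.radical hS hr) d (h.cj_opm hS hZ c.le'
    (h.le_pre _) d (by rwa [h.im_pre b.le'])))).2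

omit hp in
theorem rel_congr (h : Fac F F' f Z) (hP : P ≤ S) (e : ∀ x ∈ P, σ' (f x) = f (σ x))
    (e' : ∀ x ∈ P, τ' (f x) = f (σ x)) : ∀ y ∈ im f P, τ' y = σ' y := fun y hy => by
  obtain ⟨x, hx, rfl⟩ := (h.hom.mem_im hP).1 hy
  rw [e x hx, e' x hx]

omit hp [Finite S] in
theorem _root_.Cfsg.Agent.H9.rel_inv (hm : ∀ x ∈ Q, σ⁻¹ x ∈ P) (e : ∀ x ∈ P, σ' (f x) = f (σ x)) :
    ∀ x ∈ Q, σ'⁻¹ (f x) = f (σ⁻¹ x) := fun x hx => by
  rw [Perm.inv_eq_iff_eq, e _ (hm x hx), pai]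

omit hp in
theorem pp (h : Fac F F' f Z) (hP : P ≤ S) (hm : ∀ x ∈ P, σ x ∈ P) (hp : PP p P σ)
    (e : ∀ x ∈ P, σ' (f x) = f (σ x)) : PP p (im f P) σ' :=
  let ⟨n, a, b⟩ := hp
  ⟨n, a, fun y hy => by
    obtain ⟨x, hx, rfl⟩ := (h.hom.mem_im hP).1 hy
    rw [rel_pow hm e n x hx, b x hx]⟩

theorem radical_of_cr (h : Fac F F' f Z) (hS : IsPGroup p S) (hZ : F.IsCentral Z)
    (hc : F.IsCentric R) (hr : F.IsRadical p R) : F'.IsRadical p (im f R) := by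
  have := h.finite
  have a := normal_le_cr hS (central_normal hZ) hc hr
  have b := h.im_le hc.1
  have := finite_of_le hc.1
  refine ⟨b, le_antisymm (le_of_inK fun σ' c => ?_) (inn_le_pCoreMap (h.isPGroup hS) F' b)⟩
  obtain ⟨σ, d, e⟩ := h.lift_iso ((inK_autGroup b).1 (c.mono (opm_le _ _)))
  rw [h.pre_im' hc.1 a] at d e
  have := inK_opm_of_pp (p := p) d (fun σ => ∃ σ', InK (opm p (F'.autGroup (im f R))) σ' ∧
    ∀ x ∈ R, σ' (f x) = f (σ x)) ⟨1, inK_one _, fun _ _ => rfl⟩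
    (fun σ τ _ k ⟨σ', l, m⟩ ⟨τ', n, q⟩ => ⟨_, l.mul n, fun x hx => by
      simp only [Perm.mul_apply, q x hx, m _ (k.maps hx)]⟩)
    (fun σ k ⟨σ', l, m⟩ => ⟨_, l.inv, rel_inv (fun _ => k.inv_maps) m⟩)
    (fun σ τ g k ⟨τ', n, q⟩ => by
      obtain ⟨σ', l, m⟩ := h.descend_iso g a
      exact ⟨_, l.inK_opm n, fun x hx => by
        simp only [Perm.mul_apply, rel_inv (fun _ => g.inv_maps) m x hx, q _ (g.inv_maps hx),
          m _ (k.maps (g.inv_maps hx))]⟩)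
    (fun σ τ ⟨σ', l, m⟩ n => ⟨σ', l, fun x hx => by rw [m x hx, n x hx]⟩)
    (fun σ g ⟨σ', l, m⟩ n => by
      obtain ⟨k, q⟩ := l.exists_pow (isPGroup_opm _ _)
      have r := (h.pp hc.1 (fun _ => g.maps) n m).eq_of_pelt q fun _ => l.maps
      obtain ⟨k, s⟩ := pe_of_two (hS.to_le hc.1) g.homOn a
        (fun x hx => central_fix hZ g.mor (a hx) hx) fun x hx =>
          (h.eq_iff (hc.1 hx) (g.mor.mem hx)).1 (by rw [← m x hx, r _ (mem_im_of_mem f hx)])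
      exact n.eq_of_pelt s fun _ => g.maps) ⟨σ', c, e⟩
  obtain ⟨g, k, l⟩ := inK_inn.1 (this.mono hr.2.le)
  refine inK_inn.2 ⟨f g, mem_im_of_mem f k, fun y hy => ?_⟩
  obtain ⟨x, hx, rfl⟩ := (h.hom.mem_im hc.1).1 hy
  rw [e x hx, l x hx, h.hom.map_conj (hc.1 k) (hc.1 hx)]

omit hp in
theorem tc_pre (h : Fac F F' f Z) (hU : U ≤ S) (hZ : Z ≤ U) (hc : TC F' T' (im f U)) :
    TC F (pre S f T') U := ⟨hU, fun V τ a x b => by
  obtain ⟨τ', c, -⟩ := h.descend_iso a hZ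
  exact (h.mem_im_iff a.le' (h.le_of_iso a hZ) (pre_le _ _ _ b.1)).1 (hc.2 _ _ c
    ⟨(h.mem_pre.1 b.1).2, (h.maps_C a.le' (C_mono (pre_le _ _ _) _ b)).2⟩)⟩

variable {D' : FusionSystem T'}

theorem exists_A (h : Fac F F' f Z) (D' : FusionSystem T') :
    ∃ A : ∀ U : Subgroup Ω, Subgroup (MulAut U), ∀ U α, U ≤ pre S f T' → (InK (A U) α ↔
      Iso F U U α ∧ ∃ σ', Mor D' (im f U) σ' ∧ ∀ x ∈ U, σ' (f x) = f (α x)) := by
  refine ⟨fun U =>
    { carrier := {a | U ≤ pre S f T' → a ∈ F.autGroup U ∧ ∃ σ', Mor D' (im f U) σ' ∧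
        ∀ x : U, σ' (f x) = f (a x)}
      one_mem' := fun a => ⟨one_mem _, 1, mor_one _ (im_le_iff.2 fun x hx => (h.mem_pre.1 (a hx)).2),
        fun _ => rfl⟩
      mul_mem' := fun {a b} ha hb c => ?_
      inv_mem' := fun {a} ha c => ?_ }, fun U α a => ⟨?_, fun ⟨b, σ', c, d⟩ =>
        ⟨b.toEquiv, fun _ => ⟨b.toEquiv_mem, σ', c, fun x => d x x.2⟩, fun _ => rfl⟩⟩⟩
  · obtain ⟨d, σ', e, g⟩ := ha c
    obtain ⟨k, τ', l, m⟩ := hb c
    refine ⟨mul_mem d k, σ' * τ', l.comp e fun y hy => ?_, fun x => by simp [m, g]⟩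
    obtain ⟨x, hx, rfl⟩ := (h.hom.mem_im (c.trans (pre_le _ _ _))).1 hy
    exact m ⟨x, hx⟩ ▸ mem_im_of_mem f (b _).2
  · obtain ⟨d, σ', e, g⟩ := ha c
    have k : ∀ x : U, σ'⁻¹ (f x) = f (a⁻¹ x) := fun x => by rw [Perm.inv_eq_iff_eq, g]; simp
    refine ⟨inv_mem d, σ'⁻¹, e.inv fun y hy => ?_, k⟩
    obtain ⟨x, hx, rfl⟩ := (h.hom.mem_im (c.trans (pre_le _ _ _))).1 hy
    exact k ⟨x, hx⟩ ▸ mem_im_of_mem f (a⁻¹ _).2
  · rintro ⟨b, c, d⟩
    obtain ⟨e, σ', g, k⟩ := c a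
    exact ⟨(inK_autGroup (a.trans (pre_le _ _ _))).1 ⟨b, e, d⟩, σ', g, fun x hx => by
      rw [k ⟨x, hx⟩, d]⟩

theorem mod_NC (h : Fac F F' f Z) (hF : Sat p F) (hZ : F.IsCentral Z) (hD : Nml p D' F')
    (hZU : Z ≤ U) (hU : F.IsFullyNormalized U) (hc : TC F' T' (im f U))
    (h1 : U ≤ Q) (h2 : Q ≤ normalizerIn S U) (hσ : Iso F Q Q σ) (hp : PP p Q σ)
    (h3 : Iso F U U σ) (h4 : Mor D' (im f U) σ') (h5 : ∀ x ∈ U, σ' (f x) = f (σ x)) :
    ∀ x ∈ Q, x⁻¹ * σ x ∈ normalizerIn (pre S f T') U ⊔ centralizerIn S U := by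
  have := h.finite
  have hT := h.sc_pre hF hD.sc
  obtain ⟨τ', a, b⟩ := h.descend_iso hσ (hZU.trans h1)
  have c0 : Iso D' (im f U) (im f U) τ' := ⟨h4.congr (h.rel_congr hU.1 h5 fun x hx => b x (h1 hx)),
    (h.iso_of_rel h3 hZU fun x hx => b x (h1 hx)).mem⟩
  have d := hD.satF.fn_fc (h.fn_im hU hZU)
  have hN : ∀ {x}, x ∈ S → f x ∈ normalizerIn S' (im f U) → x ∈ normalizerIn S U := fun e g => by
    have := h.mem_pre.2 ⟨e, g⟩
    rwa [h.pre_N d.1, h.pre_im' hU.1 hZU] at this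
  intro _
  refine hp.mod (hF.pg.to_le hσ.le) hσ.homOn (fun _ => hσ.maps)
    (D := pre S f (normalizerIn T' (im f U) ⊔ centralizerIn S' (im f U))) (fun x hx => ?_)
    fun y hy hy' => ?_
  · obtain ⟨t, e, g⟩ := hD.inv.mod_TC hD.satF hD.satE d a (im_mono f h1) (im_le_iff.2 fun x hx =>
      h.maps_N hU.1 (h2 hx)) c0 (mem_im_of_mem f hx)
    refine h.mem_pre.2 ⟨hσ.le (mul_mem (inv_mem hx) (hσ.maps hx)), ?_⟩
    rw [h.hom.map_inv_mul (hσ.le hx) (hσ.mor.mem hx), ← b x hx]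
    simpa using mul_mem (Subgroup.mem_sup_left e) (Subgroup.mem_sup_right g)
  obtain ⟨t', e, c', g, k⟩ := (mem_sup_of_le_normalizer (le_normalizer_of_conj fun g hg =>
    C_conj_mem g (N_mono hD.le _ hg))).1 (h.mem_pre.1 hy').2
  obtain ⟨t, t1, rfl⟩ := h.exists_eq (hD.le e.1)
  have t2 : t ∈ normalizerIn (pre S f T') U :=
    ⟨h.mem_pre.2 ⟨t1, e.1⟩, (hN t1 (N_mono hD.le _ e)).2⟩
  obtain ⟨c, rfl⟩ : ∃ c, y = t * c := ⟨t⁻¹ * y, by simp⟩
  have c1 : c ∈ S := by simpa using S.mul_mem (S.inv_mem t1) (hσ.le hy)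
  rw [h.hom.map_mul t1 c1, mul_right_inj] at k
  subst k
  have c2 := hN c1 (C_le_N _ _ g)
  obtain ⟨β', k, l, m⟩ := (inK_extG d.1).1 (hD.ext_good d hc c0)
  obtain ⟨β, n, q⟩ := h.lift_iso k
  have c3 : c ∈ pre S f (VC S' (im f U)) := h.mem_pre.2 ⟨c1, Subgroup.mem_sup_right g⟩
  have r : U ≤ pre S f (VC S' (im f U)) := (le_pre_im f hU.1).trans (pre_mono _ _ le_sup_left)
  have u1 : c⁻¹ * β c ∈ U := (h.mem_im_iff hU.1 hZU (S.mul_mem (S.inv_mem c1) (n.mor.mem c3))).1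
    (by rw [h.hom.map_inv_mul c1 (n.mor.mem c3), ← q c c3]; exact m _ (Subgroup.mem_sup_right g))
  have s : ∀ x ∈ U, σ (c * x * c⁻¹) = β c * σ x * (β c)⁻¹ := fun x hx => by
    have x1 : f (β⁻¹ (σ x)) = f x := by
      rw [← rel_inv (fun _ => n.inv_maps) q _ (r (h3.maps hx)), Perm.inv_eq_iff_eq,
        l _ (mem_im_of_mem f hx), b x (h1 hx)]
    have x2 := n.inv_maps (r (h3.maps hx))
    have x3 := (h.eq_iff (hU.1 hx) (n.le x2)).1 x1.symm
    have x4 := h.comm_mem hU.1 c1 g hx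
    have x5 : c * β⁻¹ (σ x) * c⁻¹ = β⁻¹ (σ x) * (x⁻¹ * (c * x * c⁻¹)) := by
      calc _ = c * x * (x⁻¹ * β⁻¹ (σ x)) * c⁻¹ := by group
        _ = x * (x⁻¹ * (c * x * c⁻¹)) * (x⁻¹ * β⁻¹ (σ x)) := by
          rw [mul_assoc, ← central_comm hZ x3 (S.inv_mem c1)]; group
        _ = _ := by rw [mul_assoc, central_comm hZ x3 (h.sc.1 x4)]; group
    have x6 := n.mor.map_conj c3 x2
    rw [x5, n.mor.map_mul x2 (r (hZU x4)), pai, central_fix hZ n.mor (r (hZU x4)) x4] at x6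
    rw [← x6, ← central_fix hZ h3.mor (hZU x4) x4, ← h3.mor.map_mul hx (hZU x4)]
    congr 1; group
  obtain ⟨t₂, v1, v2⟩ := hF.aut_sc hT (hF.fn_fc hU) h3 t2 (s := σ (t * c) * (β c)⁻¹)
    (S.mul_mem (hσ.mor.mem hy) (S.inv_mem (n.mor.mem c3))) fun x hx => by
      have x1 := conj_mem_of_mem_N' c2 hx
      have x2 := hσ.mor.map_conj hy (h1 x1)
      have x3 := s _ x1
      rw [show t * c * (c⁻¹ * x * c) * (t * c)⁻¹ = t * x * t⁻¹ by group] at x2
      rw [show c * (c⁻¹ * x * c) * c⁻¹ = x by group] at x3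
      rw [x2, x3]; group
  have w : t₂⁻¹ * (σ (t * c) * (β c)⁻¹) ∈ centralizerIn S U := mem_C'.2 ⟨S.mul_mem
    (S.inv_mem (hT.1 v1.1)) (S.mul_mem (hσ.mor.mem hy) (S.inv_mem (n.mor.mem c3))), fun x hx => by
      have := v2 x hx
      calc _ = t₂⁻¹ * (σ (t * c) * (β c)⁻¹ * x * (σ (t * c) * (β c)⁻¹)⁻¹) * t₂ := by group
        _ = x := by rw [this]; group⟩
  have w1 : c⁻¹ * (t⁻¹ * t₂) * c⁻¹⁻¹ ∈ normalizerIn (pre S f T') U :=
    have := mul_mem (inv_mem t2) v1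
    ⟨sc_conj hT (S.inv_mem c1) this.1, (mul_mem (mul_mem (inv_mem c2) (N_mono hT.1 _ this))
      (inv_mem (inv_mem c2))).2⟩
  have w2 := C_conj_mem _ (inv_mem c2) _ w
  have w3 : U ≤ pre S f T' := (le_pre_im f hU.1).trans (pre_mono _ _ h4.le)
  convert mul_mem (mul_mem (Subgroup.mem_sup_left w1) (Subgroup.mem_sup_right w2))
    (Subgroup.mem_sup_left (le_N w3 u1)) using 1
  group

theorem pull (h : Fac F F' f Z) (hF : Sat p F) (hZ : F.IsCentral Z) (hD : Nml p D' F') :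
    ∃ D : FusionSystem (pre S f T'), Sat p D ∧ Invar D F ∧
      ∀ P σ σ', Mor D P σ → (∀ x ∈ P, σ' (f x) = f (σ x)) → Mor D' (im f P) σ' := by
  have := h.finite
  have := finite_of_le hD.le
  have hT := h.sc_pre hF hD.sc
  obtain ⟨A, hA⟩ := h.exists_A D'
  have hl : ∀ {U}, U ≤ pre S f T' → im f U ≤ T' := fun a =>
    im_le_iff.2 fun x hx => (h.mem_pre.1 (a hx)).2
  have a1 : ∀ {U U' τ α}, U ≤ pre S f T' → Z ≤ U → Iso F U U' τ → InK (A U) α →
      InK (A U') (τ * α * τ⁻¹) := fun {U U' τ α} a b c d => by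
    obtain ⟨e, σ', g, k⟩ := (hA _ _ a).1 d
    obtain ⟨τ', l, m⟩ := h.descend_iso c b
    exact (hA _ _ (c.le_T hT a)).2 ⟨c.conj e, _, (hD.inv.strong_iso l (hl a)
      ⟨g, (h.iso_of_rel e b k).mem⟩).mor, fun x hx => by
        simp only [Perm.mul_apply, rel_inv (fun _ => c.inv_maps) m x hx, k _ (c.inv_maps hx),
          m _ (e.maps (c.inv_maps hx))]⟩
  have a2 : ∀ {U g}, U ≤ pre S f T' → g ∈ normalizerIn (pre S f T') U → InK (A U) (cj g) :=
    fun a b => (hA _ _ a).2 ⟨iso_cj F (a.trans hT.1) (N_mono hT.1 _ b), _, mor_cj D' (hl a)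
      (h.mem_pre.1 b.1).2, fun x hx => (h.hom.map_conj (hT.1 b.1) (hT.1 (a hx))).symm⟩
  have n : NData p F (pre S f T') (pre S f T')
      (fun U => U ≤ pre S f T' ∧ Z ≤ U ∧ TC F' T' (im f U)) A :=
    { sat := hF
      scT := hT
      scW := hT
      TW := le_rfl
      o0 := fun _ a => a.1
      o1 := fun _ _ _ a b => ⟨b.le_T hT a.1, h.le_of_iso b a.2.1,
        let ⟨_, c, _⟩ := h.descend_iso b a.2.1; a.2.2.iso c⟩
      o2 := fun _ _ a b c => ⟨c, a.2.1.trans b, a.2.2.mono (im_mono f b) (h.im_le (c.trans hT.1))⟩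
      o3 := fun R a b => ⟨inf_le_right, le_inf (normal_le_cr hF.pg (central_normal hZ) a b)
        (h.le_pre _), (hD.satF.tc_of_cr hD.sc (h.centric_of_cr hF.pg hZ a b)
          (h.radical_of_cr hF.pg hZ a b)).mono (fun y hy => by
            obtain ⟨x, hx, rfl⟩ := (h.hom.mem_im a.1).1 hy.1
            exact mem_im_of_mem f ⟨hx, h.mem_pre.2 ⟨a.1 hx, hy.2⟩⟩)
              (h.im_le (inf_le_left.trans a.1))⟩
      o5 := fun U a b => by
        have a' := a.trans hT.1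
        by_cases c : Z ≤ U
        · simp only [TC, a, c, h.im_le a', true_and, not_forall, SetLike.not_le_iff_exists] at b
          obtain ⟨Q', σ', d, y, e, g⟩ := b
          obtain ⟨σ, k, -⟩ := h.lift_iso d
          rw [h.pre_im' a' c] at k
          obtain ⟨x, l, rfl⟩ := h.exists_eq (hD.le e.1)
          exact ⟨_, σ, x, k, h.mem_pre.2 ⟨l, e.1⟩, fun m => g (h.mem_pre.1 m).2, h.cj_opm hF.pg hZ
            k.le' (h.le_pre _) l (by rw [h.im_pre d.le']; exact C_mono hD.le _ e)⟩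
        · obtain ⟨z, d, e⟩ := SetLike.not_le_iff_exists.1 c
          exact ⟨U, 1, z, iso_refl F a', h.le_pre _ d, e, (inK_one _).congr fun x hx => by
            simp [← central_comm hZ d (a' hx)]⟩
      a0 := fun U α a b => ⟨((hA _ _ a.1).1 b).1, fun x hx =>
        a.1 (mul_mem (inv_mem hx) (b.maps hx))⟩
      a1 := fun _ _ _ _ a => a1 a.1 a.2.1
      a2 := fun U a => le_of_inK fun σ b =>
        let ⟨_, c, d⟩ := inK_autInducedBy.1 b; (a2 a.1 c).congr d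
      a3 := fun R R' α a b c d => by
        obtain rfl := le_antisymm d ((le_inf le_rfl a.1).trans c)
        exact ⟨a, b⟩
      a4 := fun P R β a b c d _ e => by
        obtain ⟨g, σ', k, l⟩ := (hA _ _ (c.trans (N_le _ _))).1 d
        exact (hA _ _ a.1).2 ⟨(g.mor.mono b).iso_self e, σ', k.mono (im_mono f b),
          fun x hx => l x (b hx)⟩
      a5 := fun P R α a _ b c d e g => by
        have b := le_sup_left.trans b
        have c' := c.trans (N_le _ _)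
        obtain ⟨k, σ', l, m⟩ := (hA _ _ a.1).1 d
        have q := h.tc_pre k.le a.2.1 a.2.2
        obtain ⟨τ, r, s⟩ := hF.ext_T hT q k.mor le_rfl le_sup_left c fun t ht =>
          let ⟨u, u1, u2⟩ := g t ht; ⟨u, c' u1, u2⟩
        have r' := r.mono le_sup_right
        have i := r'.iso_self fun t ht => by
          obtain ⟨u, u1, u2⟩ := g t ht
          have := (k.congr s).ext_mem_C r' b ht (hT.1 (c' u1)) fun x hx => by
            rw [s x hx, s _ (conj_mem_of_mem_N (c ht) hx), u2 x hx]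
          simpa using mul_mem u1 (b (q.mem (mul_mem (inv_mem (c' u1))
            (sc_mem hT r' ht (c' ht))) this))
        obtain ⟨N, v, w⟩ := i.exists_pp b k e s
        obtain ⟨τ', y, z⟩ := h.descend_iso (i.pow N) (a.2.1.trans b)
        exact ⟨_, (hA _ _ c').2 ⟨i.pow N, τ', (hD.inv.pd hD.satE (hl c') (im_mono f b)
          ((hD.inv.centric_iff_tc (hl a.1)).2 a.2.2) y (h.pp i.le (fun _ => (i.pow N).maps) v z)
            (l.congr (h.rel_congr k.le m fun x hx => by rw [z x (b hx), w x hx]))).mor, z⟩, v, w⟩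
      a6 := fun U s a b c d => by
        obtain ⟨u, e, g⟩ := hF.res_cj b (le_of_inK fun σ e => (inK_autGroup b.1).2
          ((hA _ _ a.1).1 e).1) (fun g hg τ => a1 a.1 a.2.1 (iso_cj F b.1 hg))
            (fun Q σ e1 e2 e3 e4 e5 => by
              obtain ⟨k, σ', l, m⟩ := (hA _ _ a.1).1 e5
              exact h.mod_NC hF hZ hD a.2.1 b a.2.2 e1 e2 e3 e4 k l m) c d
        obtain ⟨t, t1, v, v1, k⟩ := (mem_sup_of_le_normalizer (le_normalizer_of_conj fun g hg =>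
          C_conj_mem g (N_mono hT.1 _ hg))).1 g
        refine inK_autInducedBy.2 ⟨t, t1, fun x hx => ?_⟩
        have l : s = u * t * v := by rw [mul_assoc, k]; group
        rw [← (mem_C'.1 e).2 _ (conj_mem_of_mem_N t1 hx), l]
        conv_rhs => rw [← (mem_C'.1 v1).2 x hx]
        simp only [cj_apply]; group }
  obtain ⟨D, a, b, c, -, -⟩ := n.exists_invar
  refine ⟨D, a, b, fun P σ σ' d e => ?_⟩
  have k := (c _ _).1 d
  have l := d.le
  suffices ∃ τ', Mor D' (im f P) τ' ∧ ∀ x ∈ P, τ' (f x) = f (σ x) from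
    let ⟨_, m, q⟩ := this; m.congr (h.rel_congr (l.trans hT.1) q e)
  clear d e
  induction k with
  | one _ m => exact ⟨1, mor_one _ (hl l), fun x hx => by simp [m x hx]⟩
  | @step σ α τ R _ m q r ih =>
    obtain ⟨τ', s, t⟩ := ih
    obtain ⟨α', u, v⟩ : ∃ α', Mor D' (im f R) α' ∧ ∀ x ∈ R, α' (f x) = f (α x) := by
      rcases m with ⟨m1, m2, -⟩ | ⟨rfl, m⟩
      · exact ((hA _ _ m1.1).1 m2).2
      · obtain ⟨g, m1, m2⟩ := inK_inn.1 m
        exact ((hA _ _ le_rfl).1 ((a2 le_rfl (le_N le_rfl m1)).congr m2)).2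
    refine ⟨α' * τ', s.comp u fun y hy => ?_, fun x hx => by
      rw [Perm.mul_apply, t x hx, v _ (q x hx), r x hx]⟩
    obtain ⟨x, hx, rfl⟩ := (h.hom.mem_im (l.trans hT.1)).1 hy
    exact t x hx ▸ mem_im_of_mem f (q x hx)

end Fac

end Cfsg.Agent.H9
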