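import Cfsg.Agent.H9.Met
import Cfsg.Agent.H2.Hol

/-! Supersoluble fusion systems. -/

set_option autoImplicit false

namespace Cfsg.Agent.H9

open Cfsg Cfsg.FusionSystem Equiv Subgroup
open scoped commutatorElement

section ch

variable {G : Type*} [Group G] {I : Subgroup G → Prop} {m p : ℕ} {A B C : Subgroup G}

/-- chains of `I`-subgroups with cyclic steps of exponent dividing `m` -/
inductive Ch (I : Subgroup G → Prop) (m : ℕ) (A : Subgroup G) : Subgroup G → Prop
  | refl : I A → Ch I m A A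
  | step {B : Subgroup G} {x : G} : Ch I m A B → x ^ m ∈ B → I (B ⊔ zpowers x) →
      Ch I m A (B ⊔ zpowers x)

theorem Ch.last (h : Ch I m A B) : I B := by cases h <;> assumption

theorem Ch.trans (h : Ch I m A B) (h' : Ch I m B C) : Ch I m A C := by
  induction h' with
  | refl _ => exact h
  | step _ a b ih => exact ih.step a b

theorem Ch.one (hA : I A) (hB : I B) {x : G} (e : B = A ⊔ zpowers x) : Ch I 0 A B := by
  subst e; exact (Ch.refl hA).step (by simp [one_mem]) hB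

theorem Ch.of_gen (hA : I A) (hB : I B) (h : A ≤ B) (h' : ∀ x ∈ B, x ∉ A → B ≤ A ⊔ zpowers x) :
    Ch I 0 A B := by
  rcases h.eq_or_lt with rfl | h1
  · exact .refl hA
  obtain ⟨x, a, b⟩ := SetLike.exists_of_lt h1
  exact Ch.one hA hB (le_antisymm (h' x a b) (sup_le h (zpowers_le.2 a)))

theorem Ch.of_nat (C : ℕ → Subgroup G) (h0 : I (C 0)) (n : ℕ) (h : ∀ i < n, Ch I m (C i) (C (i + 1))) :
    Ch I m (C 0) (C n) := by
  induction n with
  | zero => exact .refl h0
  | succ n ih => exact (ih fun i hi => h i (by omega)).trans (h n (by omega))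

theorem Ch.nat (h : Ch I m A B) : ∃ (n : ℕ) (C : ℕ → Subgroup G), C 0 = A ∧ C n = B ∧ (∀ i, I (C i)) ∧
    ∀ i < n, ∃ x, x ^ m ∈ C i ∧ C (i + 1) = C i ⊔ zpowers x := by
  induction h with
  | refl a => exact ⟨0, fun _ => A, rfl, rfl, fun _ => a, fun i hi => by omega⟩
  | @step B x _ a b ih =>
    obtain ⟨n, C, h0, h1, h2, h3⟩ := ih
    refine ⟨n + 1, fun i => if i ≤ n then C i else B ⊔ zpowers x, by simpa using h0, by simp,
      fun i => by dsimp only; split_ifs; exacts [h2 i, b], fun i hi => ?_⟩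
    rcases (show i ≤ n by omega).eq_or_lt with rfl | hi
    · exact ⟨x, by simpa [h1] using a, by simp [h1]⟩
    · simpa only [if_pos hi.le, if_pos (show i + 1 ≤ n from hi)] using h3 i hi

theorem Ch.map {G' : Type*} [Group G'] {I' : Subgroup G' → Prop} (f : G →* G')
    (hI : ∀ N, I N → I' (N.map f)) (h : Ch I m A B) : Ch I' m (A.map f) (B.map f) := by
  induction h with
  | refl a => exact .refl (hI _ a)
  | @step B x _ a b ih =>
    have := hI _ b
    rw [Subgroup.map_sup, MonoidHom.map_zpowers] at this ⊢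
    exact ih.step (by rw [← map_pow]; exact mem_map_of_mem _ a) this

theorem Ch.comap {G' : Type*} [Group G'] {I' : Subgroup G' → Prop} (f : G' →* G) (hf : Function.Injective f)
    (hI : ∀ N, I N → N ≤ f.range ∧ I' (N.comap f)) (h : Ch I m A B) : Ch I' m (A.comap f) (B.comap f) := by
  induction h with
  | refl a => exact .refl (hI _ a).2
  | @step B x c a b ih =>
    obtain ⟨h1, h2⟩ := hI _ b
    obtain ⟨y, rfl⟩ := h1 (mem_sup_right (mem_zpowers x))
    have e : (B ⊔ zpowers (f y)).comap f = B.comap f ⊔ zpowers y := by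
      apply map_injective hf
      rw [map_comap_eq_self h1, Subgroup.map_sup, map_comap_eq_self (le_sup_left.trans h1),
        MonoidHom.map_zpowers]
    rw [e] at h2 ⊢
    exact ih.step (by rw [mem_comap, map_pow]; exact a) h2

theorem Ch.of_step [Finite B] (hle : ∀ N, I N → N ≤ B) (h : ∀ N, I N → N ≠ B → ∃ x ∉ N, I (N ⊔ zpowers x))
    (hA : I A) : Ch I 0 A B := by
  induction hn : Nat.card B - Nat.card A using Nat.strong_induction_on generalizing A with
  | _ n ih =>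
    by_cases c : A = B
    · subst c; exact .refl hA
    obtain ⟨x, a, b⟩ := h A hA c
    have := finite_of_le (hle _ b)
    have h1 : Nat.card A < Nat.card ↥(A ⊔ zpowers x) :=
      card_lt_of_lt (lt_of_le_of_ne le_sup_left fun e => a (e.ge (mem_sup_right (mem_zpowers x))))
    have h2 := card_le_of_le (hle _ b)
    exact (Ch.one hA b rfl).trans (ih _ (by omega) b rfl)

theorem Ch.refine [hp : Fact p.Prime] (h1 : ∀ A B, I A → I B → ∀ g ∈ B, ∀ x ∈ A, g * x * g⁻¹ ∈ A)
    (h2 : ∀ A B C (k : ℕ), I A → I B → C ≤ B → (∀ y ∈ B, y ∈ C ↔ y ^ k ∈ A) → I C)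
    (h3 : ∀ B, I B → IsPGroup p B) (h : Ch I m A B) : Ch I p A B := by
  have key : ∀ (k : ℕ) B x, I B → I (B ⊔ zpowers x) → x ^ p ^ k ∈ B → Ch I p B (B ⊔ zpowers x) := by
    intro k
    induction k with
    | zero =>
      intro B x a _ c
      rw [sup_eq_left.2 (zpowers_le.2 (by simpa using c))]; exact .refl a
    | succ k ih =>
      intro B x a b c
      by_cases d : x ^ p ^ k ∈ B
      · exact ih B x a b d
      have hx : x ∈ B ⊔ zpowers x := mem_sup_right (mem_zpowers x)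
      have n1 := fun g hg => h1 _ _ a b g hg
      have n2 : ∀ g ∈ B ⊔ zpowers x, ∀ y ∈ B, g⁻¹ * y * g ∈ B := fun g hg y hy => by
        simpa using n1 g⁻¹ (inv_mem hg) y hy
      have hle : B ⊔ zpowers (x ^ p) ≤ B ⊔ zpowers x := sup_le_sup_left (zpowers_le.2 (npow_mem_zpowers x p)) _
      have hC : I (B ⊔ zpowers (x ^ p)) := by
        refine h2 _ _ _ (p ^ k) a b hle fun y hy => ?_
        rw [mem_sup_zpowers (n1 _ (pow_mem hx p)) (n2 _ (pow_mem hx p))]
        have md := fun u hu e => R2.mod_zpow (A := B) (x := u) (y := y) (n1 u hu) (n2 u hu) e (p ^ k : ℕ)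
        constructor
        · rintro ⟨j, hj⟩
          have := md _ (zpow_mem (pow_mem hx p) j) hj
          rw [zpow_natCast, zpow_natCast] at this
          refine (B.mul_mem_cancel_left (inv_mem ?_)).1 this
          rw [← zpow_natCast, ← zpow_mul, mul_comm, zpow_mul, zpow_natCast, ← pow_mul, ← pow_succ']
          exact zpow_mem c j
        · intro e
          obtain ⟨j, hj⟩ := (mem_sup_zpowers (n1 _ hx) (n2 _ hx)).1 hy
          have := md _ (zpow_mem hx j) hj
          rw [zpow_natCast, zpow_natCast, B.mul_mem_cancel_right e, inv_mem_iff, ← zpow_natCast,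
            ← zpow_mul] at this
          have h4 := pow_dvd_of_zpow_mem k c d this
          rw [pow_succ', Nat.cast_pow, mul_dvd_mul_iff_right (pow_ne_zero _ (by exact_mod_cast hp.out.ne_zero))] at h4
          obtain ⟨i, rfl⟩ := h4
          exact ⟨i, by rwa [← zpow_natCast, ← zpow_mul]⟩
      have e : B ⊔ zpowers x = B ⊔ zpowers (x ^ p) ⊔ zpowers x :=
        le_antisymm (sup_le_sup_right le_sup_left _) (sup_le hle le_sup_right)
      rw [e] at b ⊢
      exact (ih B (x ^ p) a hC (by rwa [← pow_mul, ← pow_succ'])).step (mem_sup_right (mem_zpowers _)) b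
  induction h with
  | refl a => exact .refl a
  | @step B x c a b ih =>
    obtain ⟨k, hk⟩ := h3 _ b ⟨x, mem_sup_right (mem_zpowers x)⟩
    exact ih.trans (key k B x c.last b (by rw [show x ^ p ^ k = 1 from congrArg Subtype.val hk]; exact one_mem _))

/-- normal and `H`-invariant -/
def HI (H : Subgroup (MulAut G)) (N : Subgroup G) : Prop := N.Normal ∧ ∀ α ∈ H, ∀ x ∈ N, α x ∈ N

variable {H : Subgroup (MulAut G)}

theorem Ch.refine_HI [Fact p.Prime] (hG : IsPGroup p G) (h : Ch (HI H) m A B) : Ch (HI H) p A B :=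
  h.refine (fun _ _ a _ g _ x hx => a.1.conj_mem x hx g)
    (fun A B C k a b hC e => ⟨⟨fun x hx g => (e _ (b.1.conj_mem x (hC hx) g)).2 (by
      rw [conj_pow]; exact a.1.conj_mem _ ((e x (hC hx)).1 hx) g)⟩, fun α hα x hx =>
      (e _ (b.2 α hα x (hC hx))).2 (by rw [← map_pow]; exact a.2 α hα _ ((e x (hC hx)).1 hx))⟩)
    fun B _ => hG.to_subgroup B

theorem HI.scalar {x : G} (hA : HI H A) (hB : HI H (A ⊔ zpowers x)) {α : MulAut G} (hα : α ∈ H) :
    haveI := hA.1
    ∃ a : ℤ, ∀ y ∈ A ⊔ zpowers x, QuotientGroup.mk' A (α y) = QuotientGroup.mk' A y ^ a := by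
  have := hA.1
  have key : ∀ y ∈ A ⊔ zpowers x, ∃ j : ℤ, ∃ b ∈ A, y = b * x ^ j := fun y hy => by
    obtain ⟨b, hb, _, ⟨j, rfl⟩, e⟩ := mem_sup_of_normal_left.1 hy
    exact ⟨j, b, hb, e.symm⟩
  have k1 : ∀ b ∈ A, QuotientGroup.mk' A b = 1 := fun b hb => (QuotientGroup.eq_one_iff b).2 hb
  obtain ⟨a, b, hb, e⟩ := key _ (hB.2 α hα x (mem_sup_right (mem_zpowers x)))
  refine ⟨a, fun y hy => ?_⟩
  obtain ⟨j, c, hc, rfl⟩ := key y hy
  rw [map_mul, map_zpow, e]
  simp only [map_mul, map_zpow, k1 _ hb, k1 _ hc, k1 _ (hA.2 α hα c hc), one_mul]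
  rw [← zpow_mul, ← zpow_mul, mul_comm]

theorem Ch.aut_pow [Finite G] [hp : Fact p.Prime] (hG : IsPGroup p G) (h : Ch (HI H) m ⊥ ⊤) {α β : MulAut G}
    (hα : α ∈ H) (hβ : β ∈ H) : (∃ k, ⁅α, β⁆ ^ p ^ k = 1) ∧ ∃ k, (α ^ (p - 1)) ^ p ^ k = 1 := by
  obtain ⟨n, C, h0, h1, h2, h3⟩ := (h.refine_HI hG).nat
  have key : ∀ γ ∈ H, (∀ i < n, ∀ x ∈ C (i + 1), x⁻¹ * γ x ∈ C i) → ∃ k, γ ^ p ^ k = 1 := fun γ hγ e => by
    obtain ⟨k, hk⟩ := aut_chain_pow hG γ n C h0 (fun i => (h2 i).2 γ hγ) e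
    exact ⟨k, MulEquiv.ext fun x => hk x (h1 ▸ mem_top x)⟩
  constructor
  · refine key _ (mul_mem (mul_mem (mul_mem hα hβ) (inv_mem hα)) (inv_mem hβ)) fun i hi y hy => ?_
    obtain ⟨x, -, e⟩ := h3 i hi
    have hB := h2 (i + 1)
    rw [e] at hy hB
    have := (h2 i).1
    obtain ⟨a, ha⟩ := (h2 i).scalar hB hα
    obtain ⟨b, hb⟩ := (h2 i).scalar hB hβ
    have hz := hB.2 _ (inv_mem hα) _ (hB.2 _ (inv_mem hβ) y hy)
    rw [← QuotientGroup.eq]
    show QuotientGroup.mk' _ y = QuotientGroup.mk' _ (α (β (α⁻¹ (β⁻¹ y))))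
    rw [ha _ (hB.2 _ hβ _ hz), hb _ hz, ← zpow_mul, mul_comm, zpow_mul, ← ha _ hz,
      ← hb _ (hB.2 _ hα _ hz)]
    simp
  · refine key _ (pow_mem hα _) fun i hi y hy => ?_
    obtain ⟨x, hx, e⟩ := h3 i hi
    have hB := h2 (i + 1)
    rw [e] at hy hB
    have := (h2 i).1
    obtain ⟨a, ha⟩ := (h2 i).scalar hB hα
    have k1 : ∀ n : ℕ, QuotientGroup.mk' (C i) ((α ^ n) y) = QuotientGroup.mk' (C i) y ^ a ^ n := by
      intro n
      induction n with
      | zero => simp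
      | succ n ih => rw [pow_succ', MulAut.mul_apply, ha _ (hB.2 _ (pow_mem hα n) y hy), ih, ← zpow_mul, pow_succ]
    have k2 : QuotientGroup.mk' (C i) y ^ (p : ℤ) = 1 := by
      obtain ⟨b, hb, _, ⟨j, rfl⟩, rfl⟩ := mem_sup_of_normal_left.1 hy
      rw [map_mul, (QuotientGroup.eq_one_iff b).2 hb |> (show QuotientGroup.mk' (C i) b = 1 from ·), one_mul,
        map_zpow, ← zpow_mul, mul_comm, zpow_mul, zpow_natCast, ← map_pow,
        (QuotientGroup.eq_one_iff _).2 hx |> (show QuotientGroup.mk' (C i) (x ^ p) = 1 from ·), one_zpow]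
    rw [← QuotientGroup.eq]
    show QuotientGroup.mk' _ y = QuotientGroup.mk' _ ((α ^ (p - 1)) y)
    rw [k1]
    by_cases c : (p : ℤ) ∣ a
    · obtain ⟨j, rfl⟩ := c
      have h5 := ha y hy
      rw [zpow_mul, k2, one_zpow, QuotientGroup.mk'_apply, QuotientGroup.eq_one_iff] at h5
      have h6 := (h2 i).2 _ (inv_mem hα) _ h5
      rw [MulAut.inv_apply_self] at h6
      rw [show QuotientGroup.mk' (C i) y = 1 from (QuotientGroup.eq_one_iff _).2 h6, one_zpow]
    · obtain ⟨j, hj⟩ := (Int.ModEq.pow_card_sub_one_eq_one hp.out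
        ((Int.isCoprime_iff_gcd_eq_one.2 (Int.gcd_comm _ _ ▸ Int.isCoprime_iff_gcd_eq_one.1
          ((Nat.prime_iff_prime_int.1 hp.out).coprime_iff_not_dvd.2 c))))).symm.dvd
      rw [show a ^ (p - 1) = 1 + p * j by linarith, zpow_add, zpow_mul, k2, one_zpow, mul_one, zpow_one]

theorem Ch.coprime [Finite G] [hp : Fact p.Prime] (hG : IsPGroup p G) (h : Ch (HI H) m ⊥ ⊤)
    (hH : (Nat.card H).Coprime p) : IsMulCommutative H ∧ ∀ α ∈ H, α ^ (p - 1) = 1 := by
  have key : ∀ γ ∈ H, (∃ k, γ ^ p ^ k = 1) → γ = 1 := fun γ hγ ⟨k, hk⟩ =>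
    orderOf_eq_one_iff.1 (Nat.eq_one_of_dvd_coprimes (hH.pow_right k)
      (Subgroup.orderOf_dvd_natCard H hγ) (orderOf_dvd_of_pow_eq_one hk))
  exact ⟨⟨⟨fun α β => Subtype.ext (commutatorElement_eq_one_iff_mul_comm.1 (key _
    (mul_mem (mul_mem (mul_mem α.2 β.2) (inv_mem α.2)) (inv_mem β.2)) (h.aut_pow hG α.2 β.2).1))⟩⟩,
    fun α hα => key _ (pow_mem hα _) (h.aut_pow hG hα hα).2⟩

open Polynomial in
theorem eig_lin {W : Type*} [AddCommGroup W] [Nontrivial W] [hp : Fact p.Prime] [Module (ZMod p) W]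
    (g : Module.End (ZMod p) W) (hg : g ^ p = g) : ∃ (a : ℕ) (y : W), y ≠ 0 ∧ g y = a • y := by
  classical
  by_contra c
  push Not at c
  have h1 : ∀ s : Finset (ZMod p), Function.Injective (aeval g (∏ a ∈ s, (X - C a))) := by
    intro s
    induction s using Finset.induction_on with
    | empty => rw [Finset.prod_empty, map_one]; exact Function.injective_id
    | insert a s ha ih =>
      rw [Finset.prod_insert ha, map_mul]
      refine Function.Injective.comp (g := aeval g (X - C a)) ?_ ih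
      rw [injective_iff_map_eq_zero]
      intro y hy
      by_contra d
      refine c a.val y d ?_
      simp only [map_sub, aeval_X, aeval_C, LinearMap.sub_apply, Module.algebraMap_end_apply, sub_eq_zero] at hy
      rwa [← ZMod.natCast_zmod_val a, Nat.cast_smul_eq_nsmul] at hy
  have h2 : (∏ a : ZMod p, (X - C a)) = X ^ p - X := by
    have h3 := FiniteField.roots_X_pow_card_sub_X (ZMod p)
    rw [ZMod.card] at h3
    have h4 := prod_multiset_X_sub_C_of_monic_of_roots_card_eq (p := (X ^ p - X : (ZMod p)[X]))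
      (monic_X_pow_sub (by rw [degree_X]; exact_mod_cast hp.out.one_lt))
      (by rw [h3, FiniteField.X_pow_card_sub_X_natDegree_eq _ hp.out.one_lt]; simp)
    rw [h3] at h4
    exact h4
  obtain ⟨y, hy⟩ := exists_ne (0 : W)
  refine hy (h1 Finset.univ (a₂ := 0) ?_)
  rw [h2, map_zero, map_sub, map_pow, aeval_X, hg, sub_self, LinearMap.zero_apply]

theorem eig_add {W : Type*} [AddCommGroup W] [Nontrivial W] [hp : Fact p.Prime] [Module (ZMod p) W]
    (f : W →+ W) (hf : ∀ x, f^[p] x = f x) : ∃ (a : ℕ) (y : W), y ≠ 0 ∧ f y = a • y :=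
  eig_lin (f.toZModLinearMap p) (LinearMap.ext fun x => by
    rw [Module.End.pow_apply]; exact hf x)

theorem eig_one {V : Type*} [CommGroup V] [Nontrivial V] [hp : Fact p.Prime] (hV : ∀ x : V, x ^ p = 1)
    (f : Monoid.End V) (hf : f ^ p = f) : ∃ (a : ℕ) (y : V), y ≠ 1 ∧ f y = y ^ a := by
  let _ : Module (ZMod p) (Additive V) := AddCommGroup.zmodModule fun x => congrArg Additive.ofMul (hV x.toMul)
  refine eig_add (p := p) (W := Additive V) (MonoidHom.toAdditive f) fun x => ?_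
  have := congrArg (fun g : Monoid.End V => g x.toMul) hf
  simp only [Monoid.End.coe_pow] at this
  exact this

theorem eig_all {Q ι : Type*} [Group Q] [Finite Q] [Nontrivial Q] [hp : Fact p.Prime] (hQ : IsPGroup p Q)
    (f : ι → Monoid.End Q) (h1 : ∀ i, Function.Surjective (f i)) (h2 : ∀ i, f i ^ p = f i)
    (h3 : ∀ i j x, f i (f j x) = f j (f i x)) :
    ∃ x ∈ center Q, x ≠ 1 ∧ ∀ i, f i x ∈ zpowers x := by
  obtain ⟨M, -, ⟨m1, m2, m3, m4⟩, m5⟩ := H1.exists_minimal_le (fun M : Subgroup Q => M ≠ ⊥ ∧ M ≤ center Q ∧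
    (∀ x ∈ M, x ^ p = 1) ∧ ∀ i, ∀ x ∈ M, f i x ∈ M)
    (N := powPre (center Q) ⊥ (fun x hx y _ => (mem_center_iff.1 hx y).symm) p) (by
      refine ⟨?_, fun x hx => hx.1, fun x hx => hx.2, fun i x hx => ⟨mem_center_iff.2 fun g => ?_, ?_⟩⟩
      · have := hQ.center_nontrivial
        obtain ⟨z, hz⟩ := exists_prime_orderOf_dvd_card' p (G := center Q)
          ((hQ.to_subgroup _).card_eq_or_dvd.resolve_left Finite.one_lt_card.ne')
        refine (ne_bot_iff_exists_ne_one).2 ⟨⟨z, z.2, ?_⟩, fun e => ?_⟩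
        · rw [mem_bot, ← hz, ← coe_pow, pow_orderOf_eq_one, coe_one]
        · rw [show z = 1 from Subtype.ext (congrArg Subtype.val e :), orderOf_one] at hz
          exact hp.out.one_lt.ne hz
      · obtain ⟨g, rfl⟩ := h1 i g
        rw [← map_mul, ← map_mul, mem_center_iff.1 hx.1]
      · rw [← map_pow, mem_bot.1 hx.2, map_one]; exact one_mem _)
  obtain ⟨⟨x, hx⟩, hx1⟩ := ne_bot_iff_exists_ne_one.1 m1
  refine ⟨x, m2 hx, fun e => hx1 (Subtype.ext e), fun i => ?_⟩
  have hc : ∀ a ∈ M, ∀ b, a * b = b * a := fun a ha b => (mem_center_iff.1 (m2 ha) b).symm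
  let _ : CommGroup M := { (inferInstance : Group M) with mul_comm := fun a b => Subtype.ext (hc a a.2 b) }
  have := (nontrivial_iff_ne_bot M).2 m1
  let g : Monoid.End M := ((f i : Q →* Q).comp M.subtype).codRestrict M fun y => m4 i y y.2
  have hg : ∀ (n : ℕ) (y : M), (((g ^ n) y : M) : Q) = (f i ^ n) y := by
    intro n
    induction n with
    | zero => intro y; rfl
    | succ n ih => intro y; rw [pow_succ, pow_succ]; exact ih (g y)
  obtain ⟨a, y, hy, e⟩ := eig_one (V := M) (fun y => Subtype.ext (m3 y y.2)) g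
    (MonoidHom.ext fun y => Subtype.ext ((hg p y).trans (by rw [h2]; rfl)))
  let M' : Subgroup Q :=
    { carrier := {z | z ∈ M ∧ f i z = z ^ a}
      one_mem' := ⟨one_mem _, by simp⟩
      mul_mem' := fun {u v} hu hv => ⟨mul_mem hu.1 hv.1, by
        rw [map_mul, hu.2, hv.2, Commute.mul_pow (hc u hu.1 v)]⟩
      inv_mem' := fun {u} hu => ⟨inv_mem hu.1, by rw [map_inv, hu.2, inv_pow]⟩ }
  have := m5 M' ⟨ne_bot_iff_exists_ne_one.2 ⟨⟨y, y.2, congrArg Subtype.val e⟩,
    fun e => hy (Subtype.ext (congrArg Subtype.val e :))⟩, fun z hz => m2 hz.1, fun z hz => m3 z hz.1,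
    fun j z hz => ⟨m4 j z hz.1, by rw [h3, hz.2, map_pow]⟩⟩ fun z hz => hz.1
  rw [(this.ge hx).2]
  exact npow_mem_zpowers x a

theorem ch_of_comm [Finite G] [hp : Fact p.Prime] (hG : IsPGroup p G) (h1 : IsMulCommutative H)
    (h2 : ∀ α ∈ H, α ^ (p - 1) = 1) : Ch (HI H) 0 ⊥ ⊤ := by
  refine Ch.of_step (fun _ _ => le_top) (fun N hN hne => ?_)
    ⟨inferInstance, fun α _ x hx => by rw [mem_bot.1 hx, map_one]; exact one_mem _⟩
  have := hN.1
  have := QuotientGroup.nontrivial_iff.2 hne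
  let f : H → Monoid.End (G ⧸ N) := fun α => QuotientGroup.map N N α.1.toMonoidHom (hN.2 α α.2)
  have hf : ∀ (α : H) (n : ℕ) (x : G), (f α ^ n) (x : G ⧸ N) = ((α.1 ^ n) x : G) := by
    intro α n
    induction n with
    | zero => intro x; rfl
    | succ n ih => intro x; rw [pow_succ, pow_succ]; exact ih (α.1 x)
  obtain ⟨x, a, b, c⟩ := eig_all (hG.to_quotient N) f
    (fun α y => by
      obtain ⟨y, rfl⟩ := QuotientGroup.mk_surjective y
      obtain ⟨y, rfl⟩ := α.1.surjective y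
      exact ⟨y, rfl⟩)
    (fun α => MonoidHom.ext fun y => by
      obtain ⟨y, rfl⟩ := QuotientGroup.mk_surjective y
      refine (hf α p y).trans ?_
      rw [← Nat.sub_add_cancel hp.out.one_le, pow_succ, h2 _ α.2, one_mul]; rfl)
    (fun α β y => by
      obtain ⟨y, rfl⟩ := QuotientGroup.mk_surjective y
      show (((α * β : H).1 y : G) : G ⧸ N) = ((β * α : H).1 y : G)
      rw [mul_comm'])
  obtain ⟨x, rfl⟩ := QuotientGroup.mk'_surjective N x
  have e : N ⊔ zpowers x = (zpowers (QuotientGroup.mk' N x)).comap (QuotientGroup.mk' N) := by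
    rw [← MonoidHom.map_zpowers, comap_map_eq, QuotientGroup.ker_mk', sup_comm]
  refine ⟨x, fun d => b ((QuotientGroup.eq_one_iff x).2 d), ?_⟩
  rw [e]
  refine ⟨Normal.comap ⟨fun y hy g => ?_⟩ _, fun α hα y hy => ?_⟩
  · rwa [mem_center_iff.1 (zpowers_le.2 a hy) g, mul_inv_cancel_right]
  · obtain ⟨j, hj⟩ := hy
    show f ⟨α, hα⟩ (QuotientGroup.mk' N y) ∈ zpowers _
    rw [← hj, map_zpow]
    exact zpow_mem (c _) j

end ch

variable {Ω : Type*} [Group Ω] {S : Subgroup Ω} [Finite S] {p : ℕ} [hp : Fact p.Prime]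
  {F : FusionSystem S} {m : ℕ}

omit [Finite S] in
/-- supersoluble fusion systems -/
def SS (F : FusionSystem S) : Prop :=
  ∃ (m : ℕ) (c : Fin (m + 1) → Subgroup Ω), c 0 = ⊥ ∧ c (Fin.last m) = S ∧
    (∀ i : Fin (m + 1), F.StronglyClosed (c i)) ∧
      ∀ i : Fin m, c i.castSucc ≤ c i.succ ∧ ∃ x ∈ S, c i.succ = c i.castSucc ⊔ Subgroup.zpowers x

omit [Finite S] hp in
theorem ss_iff : SS F ↔ Ch F.StronglyClosed 0 ⊥ S := by
  constructor
  · rintro ⟨m, c, h0, h1, h2, h3⟩
    have key : ∀ i, Ch F.StronglyClosed 0 ⊥ (c i) := fun i => by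
      induction i using Fin.induction with
      | zero => exact h0 ▸ .refl (h2 0)
      | succ i ih =>
        obtain ⟨-, x, -, e⟩ := h3 i
        exact ih.trans (Ch.one (h2 _) (h2 _) e)
    exact h1 ▸ key _
  · intro h
    obtain ⟨n, C, h0, h1, h2, h3⟩ := h.nat
    refine ⟨n, fun i => C i, h0, h1, fun i => h2 i, fun i => ?_⟩
    obtain ⟨x, -, e⟩ := h3 i i.2
    exact ⟨le_sup_left.trans e.ge, x, (h2 _).1 (e.ge (mem_sup_right (mem_zpowers x))), e⟩

theorem SS.normal (h : SS F) (hF : Sat p F) : F.IsNormal S := by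
  have := (ss_iff.1 h).refine (p := p) (fun _ _ a b g hg x hx => sc_conj a (b.1 hg) hx)
    (fun A B C k a b hC e => stronglyClosed_iff.2 ⟨hC.trans b.1, fun P σ hσ x hx hx' =>
      (e _ (sc_mem b hσ hx (hC hx'))).2 (by
        rw [← hσ.homOn.map_pow hx]; exact sc_mem a hσ (pow_mem hx k) ((e x (hC hx')).1 hx'))⟩)
    fun B b => hF.pg.to_le b.1
  obtain ⟨n, C, h0, h1, h2, h3⟩ := this.nat
  refine hF.normal_of_wc_chain (sc_top F) n C h0 h1 (fun i _ => (h2 i).1) (fun i hi => ?_)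
    fun i _ => wc_of_sc (h2 i)
  obtain ⟨x, a, e⟩ := h3 i hi
  have := finite_of_le (h2 i).1
  refine commutator_le.2 fun y hy g hg => ?_
  have := step_of_card hF.pg (h2 (i + 1)).1 (e ▸ le_sup_left) (fun g hg x hx => sc_conj (h2 i) hg hx)
    (fun g hg x hx => sc_conj (h2 (i + 1)) hg hx) (by
      rw [e]
      exact card_sup_zpowers_le (fun b hb => sc_conj (h2 i)
        ((h2 (i + 1)).1 (e ▸ mem_sup_right (mem_zpowers x))) hb) a) hg (inv_mem hy)
  rwa [inv_mul_conj_eq, inv_inv] at this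

omit hp in
theorem SS.hi (h : SS F) {H : Subgroup (MulAut S)} (hH : H ≤ F.autGroup S) : Ch (HI H) 0 ⊥ ⊤ := by
  have := (ss_iff.1 h).comap (I' := HI H) S.subtype S.subtype_injective fun N hN =>
    ⟨by rw [range_subtype]; exact hN.1, sc_normal_subgroupOf hN, fun α hα x hx => by
      have := sc_mem hN (iso_ap le_rfl (hH hα)).mor x.2 hx
      rwa [ap_coe] at this⟩
  rwa [comap_subtype, comap_subtype, bot_subgroupOf, subgroupOf_self] at this

theorem Sat.ss_of (hF : Sat p F) (hn : F.IsNormal S) (h : ∀ H : Subgroup (MulAut S),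
    (Nat.card H).Coprime p → Ch (HI H) 0 ⊥ ⊤) : SS F := by
  have hs := hF.syl_top
  have := inn_subgroupOf_normal S hs.le
  obtain ⟨k, hk⟩ := IsPGroup.iff_card.1 (isPGroup_subgroupOf (F.autGroup S) hs.pg)
  have hc : ((Inn S).relIndex (F.autGroup S)).Coprime p :=
    ((Nat.Prime.coprime_iff_not_dvd hp.out).2 hs.nd).symm
  obtain ⟨K, hK⟩ := exists_right_complement'_of_coprime (N := (Inn S).subgroupOf (F.autGroup S))
    (by rw [hk]; exact (hc.pow_right k).symm)
  have := (h (K.map (F.autGroup S).subtype) (by rw [card_map_subtype, ← hK.symm.index_eq_card]; exact hc)).map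
    (I' := F.StronglyClosed) S.subtype fun N hN => normal_sc (normal_of_invariant hn (map_subtype_le N) (by
      rintro σ hσ _ ⟨x, hx, rfl⟩
      obtain ⟨⟨a, b⟩, e⟩ := hK.2 ⟨_, hσ.toEquiv_mem⟩
      obtain ⟨g, hg, e'⟩ := mem_Inn.1 a.2
      have e2 := congrArg (fun α : F.autGroup S => ((α.1 x : S) : Ω)) e
      refine ⟨⟨g, hg⟩ * b.1.1 x * ⟨g, hg⟩⁻¹, hN.1.conj_mem _ (hN.2 _ ⟨b, b.2, rfl⟩ x hx) _, ?_⟩
      exact (e' _).symm.trans e2))
  rw [Subgroup.map_bot, ← MonoidHom.range_eq_map, range_subtype] at this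
  exact ss_iff.2 this

theorem exists_fac_group {G : Type*} [Group G] [Finite G] {T : Subgroup G} (hT : Syl p T ⊤) (θ : T →* Ω)
    (hr : θ.range = S) (hk : ∀ x : T, θ x = 1 → (x : G) ∈ center G) :
    ∃ (E : FusionSystem S) (Z : Subgroup G), Sat p E ∧ Fac (groupFusionSystem T) E (ext θ) Z := by
  obtain ⟨E, hE⟩ := exists_fac (S' := S) (groupFusionSystem T) (pHom_ext θ) (T := θ.ker.map T.subtype)
    ((grpFS_group T).sc_iff.2 ⟨map_subtype_le _, by
      rintro _ ⟨x, hx, rfl⟩ g _ _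
      exact ⟨x, hx, by rw [coe_subtype, mem_center_iff.1 (hk x hx) g, mul_inv_cancel_right]⟩⟩)
    (fun x hx => by rw [mem_ker_map]; simp [hx]) (by rw [← range_eq_im, hr])
  exact ⟨E, _, hE.sat ((grpFS_group T).sat hT), hE⟩

theorem exists_sat_aut (hS : IsPGroup p S) {H : Subgroup (MulAut S)} (hH : (Nat.card H).Coprime p) :
    ∃ F : FusionSystem S, Sat p F ∧ H ≤ F.autGroup S := by
  let G := S ⋊[H.subtype] H
  let T : Subgroup G := (SemidirectProduct.inl : S →* G).range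
  let e : S ≃* T := MonoidHom.ofInjective SemidirectProduct.inl_injective
  have hT : Syl p T ⊤ := syl_of_card le_top (hS.of_equiv e) ((Nat.Prime.coprime_iff_not_dvd hp.out).1 hH.symm)
    (by rw [card_top, SemidirectProduct.card, Nat.card_congr e.toEquiv])
  obtain ⟨E, Z, h1, h2⟩ := exists_fac_group (S := S) hT (S.subtype.comp e.symm.toMonoidHom)
    (by rw [MonoidHom.range_comp, MonoidHom.range_eq_top.2 e.symm.surjective, ← MonoidHom.range_eq_map,
      range_subtype])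
    (fun x hx => by rw [(map_eq_one_iff _ e.symm.injective).1 (Subtype.ext hx)]; exact one_mem _)
  refine ⟨E, h1, fun α hα => (mem_autGroup le_rfl).2 ?_⟩
  have k : ∀ x : S, ext (S.subtype.comp e.symm.toMonoidHom) (SemidirectProduct.inl x) = x := fun x =>
    (ext_coe _ (e x)).trans (congrArg Subtype.val (e.symm_apply_apply x))
  have := h2.mor_of_rel (σ' := ap S α) (mor_group_cj (g := SemidirectProduct.inr ⟨α, hα⟩) le_rfl (by
    rintro _ ⟨x, rfl⟩; exact ⟨_, (H2.inr_conj_inl _ _).symm⟩)) h2.sc.1 (by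
    rintro _ ⟨x, rfl⟩
    rw [cj_apply, H2.inr_conj_inl, k, k, ap_coe]; rfl)
  rwa [h2.range] at this

theorem ss_all_iff (hS : IsPGroup p S) : (∀ F : FusionSystem S, F.IsSaturated p → SS F) ↔
    (∀ F : FusionSystem S, F.IsSaturated p → F.IsNormal S) ∧ ∀ H : Subgroup (MulAut S),
      (Nat.card H).Coprime p → IsMulCommutative H ∧ ∀ h ∈ H, h ^ (p - 1) = 1 := by
  refine ⟨fun h => ⟨fun F hF => (h F hF).normal ⟨hS, hF⟩, fun H hH => ?_⟩, fun h F hF =>
    Sat.ss_of ⟨hS, hF⟩ (h.1 F hF) fun H hH => ch_of_comm hS (h.2 H hH).1 (h.2 H hH).2⟩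
  obtain ⟨F, h1, h2⟩ := exists_sat_aut hS hH
  exact ((h F h1.sat).hi h2).coprime hS hH

end Cfsg.Agent.H9
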