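import Cfsg.Agent.H9.SupS

/-! Abelian `p`-groups of supersoluble type. -/

set_option autoImplicit false

namespace Cfsg.Agent.H9

open Cfsg Cfsg.FusionSystem Equiv Subgroup
open scoped commutatorElement

variable {G : Type*} [Group G] {p : ℕ}

/-- Ulm invariants at most one -/
def UP (p : ℕ) (G : Type*) [Group G] : Prop :=
  ∀ (k : ℕ) (x y : G), (x ^ p ^ k) ^ p = 1 → (y ^ p ^ k) ^ p = 1 → (¬ ∃ z : G, x ^ p ^ k = z ^ p ^ (k + 1)) →
    ∃ (m : ℤ) (z : G), y ^ p ^ k * ((x ^ p ^ k) ^ m)⁻¹ = z ^ p ^ (k + 1)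

theorem UP.of_equiv {G' : Type*} [Group G'] (h : UP p G') (e : G ≃* G') : UP p G := by
  intro k x y hx hy hz
  obtain ⟨m, z, h1⟩ := h k (e x) (e y) (by rw [← map_pow, ← map_pow, hx, map_one])
    (by rw [← map_pow, ← map_pow, hy, map_one])
    (fun ⟨z, e1⟩ => hz ⟨e.symm z, e.injective (by simpa using e1)⟩)
  exact ⟨m, e.symm z, e.injective (by simpa using h1)⟩

theorem zmod_L1 [hp : Fact p.Prime] {a k : ℕ} (h : a ≠ k + 1) (y : ZMod (p ^ a))
    (hy : p • p ^ k • y = 0) : ∃ z : ZMod (p ^ a), p ^ k • y = p ^ (k + 1) • z := by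
  obtain ⟨n, rfl⟩ := ZMod.natCast_zmod_surjective y
  simp only [nsmul_eq_mul, ← Nat.cast_mul] at hy ⊢
  rcases lt_or_gt_of_ne h with h | h
  · exact ⟨0, by
      rw [mul_zero, ZMod.natCast_eq_zero_iff]
      exact Dvd.dvd.mul_right (pow_dvd_pow p (by omega)) n⟩
  · rw [ZMod.natCast_eq_zero_iff, ← mul_assoc, ← pow_succ'] at hy
    have := (pow_dvd_pow p (show k + 1 + 1 ≤ a from h)).trans hy
    rw [pow_succ, Nat.mul_dvd_mul_iff_left (pow_pos hp.out.pos _)] at this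
    obtain ⟨j, rfl⟩ := this
    exact ⟨j, by push_cast; ring⟩

theorem zmod_L2 [hp : Fact p.Prime] {a k : ℕ} (y y' : ZMod (p ^ a))
    (hy : ¬ ∃ z : ZMod (p ^ a), p ^ k • y = p ^ (k + 1) • z) : ∃ m : ℤ, y' = m • y := by
  obtain ⟨n, rfl⟩ := ZMod.natCast_zmod_surjective y
  have : ¬ p ∣ n := by
    rintro ⟨j, rfl⟩
    exact hy ⟨j, by simp only [nsmul_eq_mul]; push_cast; ring⟩
  have hu : IsUnit (n : ZMod (p ^ a)) := (ZMod.isUnit_iff_coprime _ _).2
    (((Nat.Prime.coprime_iff_not_dvd hp.out).2 this).symm.pow_right a)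
  obtain ⟨c, hc⟩ := hu.exists_left_inv
  refine ⟨((y' * c).val : ℕ), ?_⟩
  rw [natCast_zsmul, nsmul_eq_mul, ZMod.natCast_zmod_val, mul_assoc, hc, mul_one]

theorem up_pi [hp : Fact p.Prime] {ι : Type*} {a : ι → ℕ} (ha : Function.Injective a) :
    UP p (Multiplicative (∀ i, ZMod (p ^ a i))) := by
  intro k x y hx hy hz
  have hx' : ∀ i, p • p ^ k • x.toAdd i = 0 := fun i => congrFun (congrArg Multiplicative.toAdd hx) i
  have hy' : ∀ i, p • p ^ k • y.toAdd i = 0 := fun i => congrFun (congrArg Multiplicative.toAdd hy) i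
  obtain ⟨i, hi⟩ : ∃ i, ¬ ∃ z, p ^ k • x.toAdd i = p ^ (k + 1) • z := by
    by_contra c
    push Not at c
    choose z hz' using c
    exact hz ⟨Multiplicative.ofAdd z, Multiplicative.toAdd.injective (funext hz')⟩
  have hi' : a i = k + 1 := by
    by_contra c
    exact hi (zmod_L1 c _ (hx' i))
  obtain ⟨m, hm⟩ := zmod_L2 _ (y.toAdd i) hi
  have key : ∀ j, ∃ z, p ^ k • (y.toAdd j - m • x.toAdd j) = p ^ (k + 1) • z := fun j => by
    by_cases c : j = i
    · subst c; exact ⟨0, by rw [hm, sub_self, smul_zero, smul_zero]⟩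
    · refine zmod_L1 (fun e => c (ha (e.trans hi'.symm))) _ ?_
      rw [smul_sub, smul_sub, hy', smul_comm _ m, smul_comm _ m, hx', smul_zero, sub_zero]
  choose z hz' using key
  refine ⟨m, Multiplicative.ofAdd z, Multiplicative.toAdd.injective (funext fun j => ?_)⟩
  rw [← sub_eq_zero] 
  have := hz' j
  rw [smul_sub, smul_comm _ m, ← sub_eq_zero, sub_eq_add_neg (p ^ k • _)] at this
  exact this

theorem ch_of_up (hG : IsPGroup p G) [Finite G] [Fact p.Prime] (hc : ∀ x y : G, x * y = y * x) (h : UP p G)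
    (H : Subgroup (MulAut G)) : Ch (HI H) 0 ⊥ ⊤ := by
  let _ : CommGroup G := { (inferInstance : Group G) with mul_comm := hc }
  let B : ℕ → ℕ → Subgroup G := fun j k =>
    ((powMonoidHom p).ker ⊓ (powMonoidHom (p ^ k)).range).comap (powMonoidHom (p ^ j))
  have mB : ∀ j k x, x ∈ B j k ↔ (x ^ p ^ j) ^ p = 1 ∧ ∃ y, y ^ p ^ k = x ^ p ^ j := fun _ _ _ => Iff.rfl
  have hB : ∀ j k, HI H (B j k) := fun j k => ⟨inferInstance, fun α _ x hx => by
    obtain ⟨a, y, b⟩ := (mB j k x).1 hx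
    exact (mB _ _ _).2 ⟨by rw [← map_pow, ← map_pow, a, map_one], α y, by rw [← map_pow, b, map_pow]⟩⟩
  obtain ⟨E, hE⟩ := IsPGroup.iff_card.1 hG
  have hE' : ∀ x : G, x ^ p ^ E = 1 := fun x => hE ▸ pow_card_eq_one'
  have h1 : ∀ j k, Ch (HI H) 0 (B j (k + 1)) (B j k) := fun j k => by
    refine Ch.of_gen (hB _ _) (hB _ _) (fun x hx => ?_) fun x hx hx' z hz => ?_
    · obtain ⟨a, y, b⟩ := (mB _ _ x).1 hx
      exact (mB _ _ _).2 ⟨a, y ^ p, by rw [← pow_mul, ← pow_succ', b]⟩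
    · obtain ⟨a, u, b⟩ := (mB _ _ x).1 hx
      obtain ⟨c, v, d⟩ := (mB _ _ z).1 hz
      obtain ⟨m, w, e⟩ := h k u v (b ▸ a) (d ▸ c) fun ⟨w, e⟩ => hx' ((mB _ _ _).2 ⟨a, w, by rw [← e, b]⟩)
      rw [b, d] at e
      have e' : (z * (x ^ m)⁻¹) ^ p ^ j = z ^ p ^ j * ((x ^ p ^ j) ^ m)⁻¹ := by
        rw [mul_pow, inv_pow, ← zpow_natCast (x ^ m), ← zpow_mul, mul_comm m, zpow_mul, zpow_natCast]
      rw [show z = z * (x ^ m)⁻¹ * x ^ m by group]
      refine mul_mem (mem_sup_left ((mB _ _ _).2 ⟨?_, w, by rw [e', e]⟩)) (mem_sup_right (zpow_mem_zpowers x m))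
      rw [e', mul_pow, c, inv_pow, ← zpow_natCast (_ ^ m), ← zpow_mul, mul_comm m, zpow_mul, zpow_natCast, a]
      simp
  have h2 : ∀ j, B j 0 = B (j + 1) E := fun j => by
    ext x
    rw [mB, mB]
    constructor
    · rintro ⟨a, -⟩
      rw [← pow_mul, ← pow_succ] at a
      exact ⟨by rw [a, one_pow], 1, by rw [a, one_pow]⟩
    · rintro ⟨-, y, b⟩
      exact ⟨by rw [← pow_mul, ← pow_succ, ← b, hE'], x ^ p ^ j, by simp⟩
  have h3 := Ch.of_nat (m := 0) (fun j => B j E) (hB _ _) E fun j _ => by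
    have := Ch.of_nat (m := 0) (fun i => B j (E - i)) (hB _ _) E fun i hi => by
      have := h1 j (E - (i + 1))
      rwa [show E - (i + 1) + 1 = E - i by omega] at this
    rwa [Nat.sub_self, h2] at this
  have h4 : B 0 E = ⊥ := eq_bot_iff.2 fun x hx => by
    obtain ⟨-, y, b⟩ := (mB _ _ x).1 hx
    rwa [hE', pow_zero, pow_one, eq_comm] at b
  have h5 : B E E = ⊤ := eq_top_iff.2 fun x _ => (mB _ _ x).2 ⟨by rw [hE', one_pow], x, rfl⟩
  rwa [h4, h5] at h3

theorem up_of_nodec [Finite G] [hp : Fact p.Prime] (hG : IsPGroup p G) (hc : ∀ x y : G, x * y = y * x)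
    (h : ¬ ∃ (n : ℕ) (H : Type) (_ : CommGroup H), 0 < n ∧
      Nonempty (G ≃* (Multiplicative (ZMod (p ^ n)) × Multiplicative (ZMod (p ^ n))) × H)) : UP p G := by
  classical
  let _ : CommGroup G := { (inferInstance : Group G) with mul_comm := hc }
  obtain ⟨ι, _, n, h1, ⟨e⟩⟩ := CommGroup.equiv_prod_multiplicative_zmod_of_finite G
  have h2 : ∀ i, ∃ a, n i = p ^ a := fun i => by
    obtain ⟨a, ha⟩ := IsPGroup.iff_orderOf.1 (hG.of_equiv e) (Pi.mulSingle i (Multiplicative.ofAdd 1))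
    rw [orderOf_piMulSingle, orderOf_ofAdd_eq_addOrderOf, ZMod.addOrderOf_one] at ha
    exact ⟨a, ha⟩
  choose a ha using h2
  obtain rfl : n = fun i => p ^ a i := funext ha
  refine (up_pi (a := a) fun i j hij => ?_).of_equiv (e.trans (MulEquiv.piMultiplicative _).symm)
  by_contra c
  let M := fun i => Multiplicative (ZMod (p ^ a i))
  let q : M j ≃* M i := (ZMod.ringEquivCongr (by rw [hij])).toAddEquiv.toMultiplicative
  let f : (∀ k, M k) →* (M i × M i) × ∀ k : {k // k ≠ i ∧ k ≠ j}, M k :=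
    ((Pi.evalMonoidHom M i).prod (q.toMonoidHom.comp (Pi.evalMonoidHom M j))).prod
      (MonoidHom.pi fun k => Pi.evalMonoidHom M k.1)
  refine h ⟨a i, ∀ k : {k // k ≠ i ∧ k ≠ j}, M k, inferInstance, Nat.pos_of_ne_zero fun d => by
    simpa [d] using h1 i, ⟨e.trans (MulEquiv.ofBijective f ⟨fun x y e => funext fun k => ?_, ?_⟩)⟩⟩
  · by_cases a1 : k = i
    · subst a1; exact congrArg (fun t => t.1.1) e
    by_cases a2 : k = j
    · subst a2; exact q.injective (congrArg (fun t => t.1.2) e)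
    exact congrArg (fun t => t.2 ⟨k, a1, a2⟩) e
  · rintro ⟨⟨x, y⟩, z⟩
    refine ⟨Function.update (Function.update (fun k => if h : k ≠ i ∧ k ≠ j then z ⟨k, h⟩ else 1) i x) j
      (q.symm y), Prod.ext (Prod.ext ?_ ?_) (funext fun k => ?_)⟩
    · simp [f, Function.update_of_ne c]
    · simp [f]
    · simp [f, Function.update_of_ne k.2.1, Function.update_of_ne k.2.2, k.2.1, k.2.2]

/-- all `p'`-groups of automorphisms are abelian of exponent dividing `p - 1` -/
def GoodA (p : ℕ) (G : Type*) [Group G] : Prop :=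
  ∀ H : Subgroup (MulAut G), (Nat.card H).Coprime p → IsMulCommutative H ∧ ∀ h ∈ H, h ^ (p - 1) = 1

theorem GoodA.of_inj {A : Type*} [Group A] (h : GoodA p G) (ψ : MulAut A →* MulAut G)
    (hψ : Function.Injective ψ) : GoodA p A := by
  intro H hH
  obtain ⟨a, b⟩ := h (H.map ψ) (by rwa [card_map_of_injective hψ])
  refine ⟨⟨⟨fun x y => Subtype.ext (hψ ?_)⟩⟩, fun x hx => hψ (by
    rw [map_pow, b _ (mem_map_of_mem ψ hx), map_one])⟩
  have := congrArg Subtype.val (mul_comm' (⟨_, mem_map_of_mem ψ x.2⟩ : H.map ψ) ⟨_, mem_map_of_mem ψ y.2⟩)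
  simpa using this

theorem GoodA.of_equiv {A : Type*} [Group A] (h : GoodA p G) (e : G ≃* A) : GoodA p A :=
  h.of_inj (MulAut.congr e).symm.toMonoidHom (MulAut.congr e).symm.injective

theorem GoodA.of_prod {A B : Type*} [Group A] [Group B] (h : GoodA p (A × B)) : GoodA p A :=
  h.of_inj (MonoidHom.mk' (fun α => α.prodCongr (MulEquiv.refl B)) fun _ _ => rfl) fun α β e =>
    MulEquiv.ext fun x => congrArg (fun γ : MulAut (A × B) => (γ (x, 1)).1) e

theorem not_goodA' [hp : Fact p.Prime] {C : Type*} [CommGroup C] [Finite C] {g : C} (g1 : g ≠ 1)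
    (g2 : p ≠ 2 → g ≠ g⁻¹) : ¬ GoodA p (C × C) := by
  intro h
  by_cases h2 : p = 2
  · let α : MulAut (C × C) :=
      { toFun := fun x => (x.2⁻¹, x.1 * x.2⁻¹)
        invFun := fun x => (x.2 * x.1⁻¹, x.1⁻¹)
        left_inv := fun x => by simp
        right_inv := fun x => by simp
        map_mul' := fun x y => by simp [mul_comm, mul_left_comm, mul_assoc] }
    have h3 : α ^ 3 = 1 := MulEquiv.ext fun x => by simp [α, pow_succ]
    have := (h (zpowers α) (by
      rw [Nat.card_zpowers, h2]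
      exact Nat.Coprime.coprime_dvd_left (orderOf_dvd_of_pow_eq_one h3) (by decide))).2 α (mem_zpowers α)
    rw [show p - 1 = 1 by omega, pow_one] at this
    have := congrArg (fun γ : MulAut (C × C) => (γ (g, 1)).1) this
    exact g1 (by simpa [α] using this.symm)
  let r : MulAut (C × C) :=
    { toFun := fun x => (x.2⁻¹, x.1)
      invFun := fun x => (x.2, x.1⁻¹)
      left_inv := fun x => by simp
      right_inv := fun x => by simp
      map_mul' := fun x y => by simp [mul_comm] }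
  let s : MulAut (C × C) := MulEquiv.prodComm
  have zp : ∀ w : MulAut (C × C), w ^ 2 ^ 2 = 1 → IsPGroup 2 (zpowers w) := fun w hw =>
    IsPGroup.of_card_dvd_pow (n := 2) (by rw [Nat.card_zpowers]; exact orderOf_dvd_of_pow_eq_one hw)
  have k1 := (zp s rfl).to_sup_of_normal_right' (zp r (MulEquiv.ext fun x => by simp [r, pow_succ]))
    (zpowers_le.2 (mem_normalizer_of_finite (by
      rintro _ ⟨j, rfl⟩
      rw [← conj_zpow, show s * r * s⁻¹ = r⁻¹ from rfl]
      exact zpow_mem (inv_mem (mem_zpowers r)) j)))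
  obtain ⟨j, hj⟩ := IsPGroup.iff_card.1 k1
  have := (h _ (by
    rw [hj]; exact ((Nat.coprime_primes Nat.prime_two hp.out).2 (Ne.symm h2)).pow_left j)).1
  have e := congrArg (fun γ : ↥(zpowers s ⊔ zpowers r) => (γ.1 (g, 1)).1)
    (mul_comm' ⟨s, mem_sup_left (mem_zpowers s)⟩ ⟨r, mem_sup_right (mem_zpowers r)⟩)
  exact g2 h2 e

theorem not_goodA [hp : Fact p.Prime] {n : ℕ} (hn : 0 < n) :
    ¬ GoodA p (Multiplicative (ZMod (p ^ n)) × Multiplicative (ZMod (p ^ n))) := by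
  have k : ∀ m : ℕ, (m : ZMod (p ^ n)) = 0 → p ∣ m := fun m e =>
    (dvd_pow_self p hn.ne').trans ((ZMod.natCast_eq_zero_iff _ _).1 e)
  refine not_goodA' (g := Multiplicative.ofAdd 1) (fun e => ?_) fun h2 e => ?_
  · have e' : (1 : ZMod (p ^ n)) = 0 := e
    exact hp.out.one_lt.not_ge (Nat.le_of_dvd one_pos (k 1 (by simpa using e')))
  · have e' : (1 : ZMod (p ^ n)) = -1 := e
    exact h2 ((Nat.prime_dvd_prime_iff_eq hp.out Nat.prime_two).1 (k 2 (by push_cast; linear_combination e')))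

variable {Ω : Type*} [Group Ω] {S : Subgroup Ω} [Finite S] [hp : Fact p.Prime]

theorem ss_ab_iff (hS : IsPGroup p S) (hab : IsMulCommutative S) :
    (∀ F : FusionSystem S, F.IsSaturated p → SS F) ↔ ¬ ∃ (n : ℕ) (H : Type) (_ : CommGroup H), 0 < n ∧
      Nonempty (S ≃* (Multiplicative (ZMod (p ^ n)) × Multiplicative (ZMod (p ^ n))) × H) := by
  refine ⟨fun h ⟨n, H, _, hn, ⟨e⟩⟩ => not_goodA hn (GoodA.of_equiv ((ss_all_iff hS).1 h).2 e).of_prod,
    fun h F hF => ?_⟩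
  have hF' : Sat p F := ⟨hS, hF⟩
  exact hF'.ss_of (hF'.normal_of_abelian_sc (sc_top F) (comm_iff.1 hab)) fun H _ =>
    ch_of_up hS mul_comm' (up_of_nodec hS mul_comm' h) H

end Cfsg.Agent.H9
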