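import Cfsg.Agent.H9.SupT
import Cfsg.Agent.H9.Nat
import Cfsg.Agent.H8.Meta
import Cfsg.Agent.S0261
import Cfsg.Agent.S3224
import Cfsg.Agent.S1447
import Cfsg.Agent.S5234

/-! Metacyclic `p`-groups of supersoluble type. -/

set_option autoImplicit false

namespace Cfsg.Agent.H9

open Cfsg Cfsg.FusionSystem Equiv Subgroup
open scoped commutatorElement

variable {G : Type*} [Group G]

theorem sylow_two_card [Finite G] (T : Sylow 2 G) {a m : ℕ} (h : Nat.card G = 2 ^ a * m) (hm : Odd m) :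
    Nat.card T = 2 ^ a := by
  obtain ⟨b, hb⟩ := IsPGroup.iff_card.1 T.isPGroup'
  have h1 := (T : Subgroup G).card_mul_index
  rw [h, hb] at h1
  have h2 := (((Nat.Prime.coprime_iff_not_dvd Nat.prime_two).2 T.not_dvd_index).pow_left a).dvd_of_dvd_mul_right
    (Dvd.intro _ h1.symm)
  have h3 := ((Nat.coprime_two_left.2 hm).pow_left b).dvd_of_dvd_mul_right (Dvd.intro _ h1)
  rw [hb]; exact Nat.dvd_antisymm h3 h2

theorem exists_q (j : ℕ) (hj : 1 ≤ j) : ∃ q u v : ℕ, q.Prime ∧ 5 ≤ q ∧ Odd u ∧ Odd v ∧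
    q + 1 = 2 ^ (j + 1) * u ∧ q = 2 * v + 1 := by
  obtain ⟨i, rfl⟩ : ∃ i, j = i + 1 := ⟨j - 1, by omega⟩
  have h0 : 0 < 2 ^ i := by positivity
  obtain ⟨q, h1, h2, h3⟩ := Nat.forall_exists_prime_gt_and_modEq 5 (q := 2 ^ (i + 3)) (a := 4 * 2 ^ i - 1)
    (by positivity) ((Nat.coprime_two_right.2 ⟨2 * 2 ^ i - 1, by omega⟩).pow_right _)
  have h4 := (Nat.div_add_mod q (2 ^ (i + 3))).symm
  rw [h3, Nat.mod_eq_of_lt (by rw [pow_add]; omega)] at h4
  generalize q / 2 ^ (i + 3) = t at h4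
  have h5 : 2 ^ (i + 3) * t = 8 * (2 ^ i * t) := by ring
  refine ⟨q, 2 * t + 1, 4 * (2 ^ i * t) + 2 * 2 ^ i - 1, h2, h1.le, odd_two_mul_add_one t,
    ⟨2 * (2 ^ i * t) + 2 ^ i - 1, by omega⟩, ?_, by omega⟩
  rw [show 2 ^ (i + 1 + 1) * (2 * t + 1) = 8 * (2 ^ i * t) + 4 * 2 ^ i by ring]
  omega

/-- the projection of a generalized quaternion group onto the dihedral group -/
def qdHom (n : ℕ) : QuaternionGroup n →* DihedralGroup n :=
  MonoidHom.mk' (fun x => match x with
    | .a i => .r (ZMod.castHom (dvd_mul_left n 2) (ZMod n) i)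
    | .xa i => .sr (ZMod.castHom (dvd_mul_left n 2) (ZMod n) i)) (by
    rintro (i | i) (j | j)
    · exact congrArg DihedralGroup.r (map_add _ _ _)
    · exact congrArg DihedralGroup.sr (map_sub _ _ _)
    · exact congrArg DihedralGroup.sr (map_add _ _ _)
    · refine congrArg DihedralGroup.r ?_
      rw [map_sub, map_add, map_natCast, ZMod.natCast_self, zero_add])

theorem qdHom_surj (n : ℕ) : Function.Surjective (qdHom n) := by
  rintro (i | i) <;> obtain ⟨k, rfl⟩ := ZMod.castHom_surjective (dvd_mul_left n 2) i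
  exacts [⟨.a k, rfl⟩, ⟨.xa k, rfl⟩]

theorem qdHom_ker {n : ℕ} [NeZero n] {x : QuaternionGroup n} (h : qdHom n x = 1) : x ^ 2 = 1 := by
  rcases x with i | i
  · obtain ⟨k, rfl⟩ := ZMod.natCast_zmod_surjective i
    have h1 : ZMod.castHom (dvd_mul_left n 2) (ZMod n) (k : ZMod (2 * n)) = 0 := DihedralGroup.r.inj h
    rw [map_natCast, ZMod.natCast_eq_zero_iff] at h1
    obtain ⟨c, rfl⟩ := h1
    rw [sq, QuaternionGroup.a_mul_a, ← Nat.cast_add, (ZMod.natCast_eq_zero_iff _ _).2 ⟨c, by ring⟩]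
    rfl
  · exact absurd h (by rintro ⟨⟩)

theorem not_qd_inj {n m : ℕ} (hn : 2 ≤ n) (f : QuaternionGroup n →* DihedralGroup m)
    (hf : Function.Injective f) : False := by
  have : NeZero n := ⟨by omega⟩
  have k : ∀ i, ∃ j, f (.xa i) = .r j := fun i => by
    have := orderOf_injective f hf (.xa i)
    rw [QuaternionGroup.orderOf_xa] at this
    generalize f (.xa i) = y at this
    rcases y with j | j
    · exact ⟨j, rfl⟩
    · rw [DihedralGroup.orderOf_sr] at this; omega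
  obtain ⟨a, ha⟩ := k 0
  obtain ⟨b, hb⟩ := k 1
  have : f (.xa 0 * .xa 1) = f (.xa 1 * .xa 0) := by
    rw [map_mul, map_mul, ha, hb, DihedralGroup.r_mul_r, DihedralGroup.r_mul_r, add_comm]
  have := QuaternionGroup.a.inj (hf this)
  have h2 : ((2 : ℕ) : ZMod (2 * n)) = 0 := by push_cast; linear_combination this
  have := Nat.le_of_dvd two_pos ((ZMod.natCast_eq_zero_iff _ _).1 h2)
  omega

theorem sd_equiv {G' : Type*} [Group G'] [Finite G] [Finite G'] (h : IsQuasiDihedral G)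
    (h' : IsQuasiDihedral G') (hc : Nat.card G = Nat.card G') : Nonempty (G ≃* G') := by
  obtain ⟨n, x, y, c, d⟩ := H2.exists_sdp_top h
  obtain ⟨n', x', y', c', d'⟩ := H2.exists_sdp_top h'
  obtain rfl : n = n' := by
    have := Nat.pow_right_injective (le_refl 2) (c.symm.trans (hc.trans c'))
    omega
  have h1 : Nat.card ↥(zpowers (x, x') ⊔ zpowers (y, y')) ≤ 2 * Nat.card (zpowers (x, x')) := by
    refine card_sup_zpowers_le (p := 2) ?_ ?_
    · rintro _ ⟨j, rfl⟩
      rw [← conj_zpow, show (y, y') * (x, x') * (y, y')⁻¹ = (x, x')⁻¹ * (x, x') ^ (2 * 2 ^ (n + 1)) from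
        Prod.ext d.mc.inv d'.mc.inv]
      exact zpow_mem (mul_mem (inv_mem (mem_zpowers _)) (npow_mem_zpowers _ _)) j
    · rw [sq, show (y, y') * (y, y') = 1 from Prod.ext d.sq d'.sq]; exact one_mem _
  rw [Nat.card_zpowers, Prod.orderOf_mk, d.mc.ord, d'.mc.ord, Nat.lcm_self,
    show 2 * (4 * 2 ^ (n + 1)) = 2 ^ (n + 4) by ring] at h1
  have b1 : Function.Bijective ((MonoidHom.fst G G').comp (zpowers (x, x') ⊔ zpowers (y, y')).subtype) := by
    refine Function.Surjective.bijective_of_nat_card_le ?_ (c ▸ h1)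
    rw [← MonoidHom.range_eq_top, eq_top_iff]
    exact d.mc.le ⟨⟨_, mem_sup_left (mem_zpowers _)⟩, rfl⟩ ⟨⟨_, mem_sup_right (mem_zpowers _)⟩, rfl⟩
  have b2 : Function.Bijective ((MonoidHom.snd G G').comp (zpowers (x, x') ⊔ zpowers (y, y')).subtype) := by
    refine Function.Surjective.bijective_of_nat_card_le ?_ (c' ▸ h1)
    rw [← MonoidHom.range_eq_top, eq_top_iff]
    exact d'.mc.le ⟨⟨_, mem_sup_left (mem_zpowers _)⟩, rfl⟩ ⟨⟨_, mem_sup_right (mem_zpowers _)⟩, rfl⟩
  exact ⟨(MulEquiv.ofBijective _ b1).symm.trans (MulEquiv.ofBijective _ b2)⟩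

section sl

variable {q u v j : ℕ} [hq : Fact q.Prime] (h5 : 5 ≤ q) (hu : Odd u) (hv : Odd v)
  (e1 : q + 1 = 2 ^ (j + 1) * u) (e2 : q = 2 * v + 1)

include h5 in
theorem two_ne_q : (2 : ZMod q) ≠ 0 := fun h => by
  have : ((2 : ℕ) : ZMod q) = 0 := by exact_mod_cast h
  have := Nat.le_of_dvd two_pos ((ZMod.natCast_eq_zero_iff _ _).1 this)
  omega

omit hq in
include e1 e2 in
theorem q_sq : q ^ 2 - 1 = 2 ^ (j + 2) * (u * v) := by
  rw [show 2 ^ (j + 2) * (u * v) = 2 ^ (j + 1) * u * (2 * v) by ring, ← e1, e2]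
  exact Nat.sub_eq_of_eq_add (by ring)

include hu hv e1 e2 in
theorem sl2_syl (P : Sylow 2 (SL2 q)) : Nonempty (P ≃* QuaternionGroup (2 ^ j)) := by
  have ho : Odd q := ⟨v, e2⟩
  obtain ⟨k, -, ⟨e⟩⟩ := S0261.result (by rwa [ZMod.card]) P
  have h1 := sylow_two_card P (a := j + 2) (m := q * (u * v))
    (by rw [H4.card_SL_two, ZMod.card, q_sq e1 e2]; ring) (ho.mul (hu.mul hv))
  rw [Nat.card_congr e.toEquiv, Nat.card_eq_fintype_card, QuaternionGroup.card,
    show 4 * 2 ^ k = 2 ^ (k + 2) by ring] at h1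
  obtain rfl : k = j := by have := Nat.pow_right_injective (le_refl 2) h1; omega
  exact ⟨e⟩

include h5 in
theorem gl_neg_mem (T : Sylow 2 (GL (Fin 2) (ZMod q))) : (-1 : GL (Fin 2) (ZMod q)) ∈ T :=
  (syl_top T).le_of_normal (K := zpowers (-1)) le_top
    (IsPGroup.of_card_dvd_pow (n := 1) (by
      rw [Nat.card_zpowers]; exact orderOf_dvd_of_pow_eq_one (by simp)))
    (by rintro a - _ ⟨k, rfl⟩; rw [← conj_zpow]; simp) (mem_zpowers _)

include h5 hu hv e1 e2 in
theorem gl2_syl (hj : 1 ≤ j) : ∃ T : Sylow 2 (GL (Fin 2) (ZMod q)), IsQuasiDihedral T ∧ Nat.card T = 2 ^ (j + 3) := by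
  classical
  have ho : Odd q := ⟨v, e2⟩
  have h2 := two_ne_q h5
  have hn : (-1 : ZMod q) ≠ 1 := fun e => h2 (by linear_combination -e)
  let t : GL (Fin 2) (ZMod q) := ⟨Matrix.diagonal ![1, -1], Matrix.diagonal ![1, -1],
    by ext a b; fin_cases a <;> fin_cases b <;> simp, by ext a b; fin_cases a <;> fin_cases b <;> simp⟩
  have t1 : t ≠ 1 := fun e => hn (by simpa [t] using congrArg (fun g : GL (Fin 2) (ZMod q) => g.1 1 1) e)
  have t2 : t ^ 2 = 1 := by rw [sq]; exact t.mul_inv |> Units.ext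
  have zt : IsPGroup 2 (zpowers t) := IsPGroup.of_card_dvd_pow (n := 1) (by
    rw [Nat.card_zpowers]; exact orderOf_dvd_of_pow_eq_one t2)
  obtain ⟨T, hT⟩ := zt.exists_le_sylow
  have hc := sylow_two_card T (a := j + 3) (m := u * v * (q * v)) (by
    rw [Matrix.card_GL_field, Fin.prod_univ_two, ZMod.card]
    simp only [Fin.val_zero, pow_zero, Fin.val_one, pow_one]
    rw [q_sq e1 e2, show q ^ 2 - q = q * (2 * v) from Nat.sub_eq_of_eq_add (by rw [e2]; ring)]
    ring) ((hu.mul hv).mul (ho.mul hv))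
  refine ⟨T, ?_, hc⟩
  let x : T := ⟨t, hT (mem_zpowers t)⟩
  have hx : orderOf x = 2 := orderOf_eq_prime (Subtype.ext t2) fun e => t1 (congrArg Subtype.val e)
  have k1 : ∀ g : centralizer ({x} : Set T), g.1.1.1 = Matrix.diagonal ![g.1.1.1 0 0, g.1.1.1 1 1] := by
    intro g
    have e := congrArg (fun g : T => g.1.1) (mem_centralizer_singleton_iff.1 g.2)
    have a1 := congrFun (congrFun e 0) 1
    have a2 := congrFun (congrFun e 1) 0
    simp [x, t, Matrix.mul_diagonal, Matrix.diagonal_mul] at a1 a2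
    ext a b
    fin_cases a <;> fin_cases b <;> simp
    · exact (mul_eq_zero.1 (show 2 * g.1.1.1 0 1 = 0 by linear_combination -a1)).resolve_left h2
    · exact (mul_eq_zero.1 (show 2 * g.1.1.1 1 0 = 0 by linear_combination a2)).resolve_left h2
  have k2 : ∀ (g : centralizer ({x} : Set T)) (i : Fin 2), g.1.1.1 i i = 1 ∨ g.1.1.1 i i = -1 := by
    intro g i
    obtain ⟨k, hk⟩ := T.isPGroup' g.1
    have e : g.1.1.1 ^ 2 ^ k = 1 := congrArg (fun g : T => g.1.1) hk
    rw [k1 g, Matrix.diagonal_pow] at e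
    have a1 : g.1.1.1 i i ^ 2 ^ k = 1 := by
      have := congrFun (congrFun e i) i
      fin_cases i <;> simpa using this
    have a2 := ZMod.pow_card_sub_one_eq_one (a := g.1.1.1 i i) fun c => by
      rw [c, zero_pow (by positivity)] at a1; exact zero_ne_one a1
    rw [show q - 1 = 2 * v by omega] at a2
    have a3 : orderOf (g.1.1.1 i i) ∣ 2 :=
      (Nat.Coprime.coprime_dvd_left (orderOf_dvd_of_pow_eq_one a1)
        ((Nat.coprime_two_left.2 hv).pow_left k)).dvd_of_dvd_mul_right (orderOf_dvd_of_pow_eq_one a2)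
    exact sq_eq_one_iff.1 (orderOf_dvd_iff_pow_eq_one.1 a3)
  have k3 : Nat.card (centralizer ({x} : Set T)) ≤ 4 := by
    have := Nat.card_le_card_of_injective (fun g : centralizer ({x} : Set T) =>
      (decide (g.1.1.1 0 0 = 1), decide (g.1.1.1 1 1 = 1))) fun g h e => by
        have k : ∀ i, (g.1.1.1 i i = 1 ↔ h.1.1.1 i i = 1) → g.1.1.1 i i = h.1.1.1 i i := fun i e => by
          rcases k2 g i with a | a <;> rcases k2 h i with b | b
          · rw [a, b]
          · exact absurd (b.symm.trans (e.1 a)) hn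
          · exact absurd (a.symm.trans (e.2 b)) hn
          · rw [a, b]
        refine Subtype.ext (Subtype.ext (Units.ext ?_))
        rw [k1 g, k1 h, k 0 (by simpa using congrArg Prod.fst e), k 1 (by simpa using congrArg Prod.snd e)]
    simpa using this
  have k4 := mul_card_le_of_lt (T.isPGroup'.to_subgroup _) (show zpowers x < centralizer {x} from
    lt_of_le_of_ne (zpowers_le.2 (mem_centralizer_singleton_iff.2 rfl)) fun e => by
      have : (⟨-1, gl_neg_mem h5 T⟩ : T) ∈ zpowers x :=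
        e.ge (mem_centralizer_singleton_iff.2 (Subtype.ext (by simp)))
      rw [mem_zpowers_iff_mem_range_orderOf, hx] at this
      obtain ⟨i, hi, e'⟩ := Finset.mem_image.1 this
      have e' := congrArg (fun g : T => g.1.1 0 0) e'
      have := Finset.mem_range.1 hi
      interval_cases i <;> exact hn (by simpa [x, t] using e'.symm))
  rw [Nat.card_zpowers, hx] at k4
  rcases S3224.result T.isPGroup' x hx (by omega) with ⟨m, ⟨e⟩⟩ | e | e
  · obtain ⟨P⟩ : Nonempty (Sylow 2 (SL2 q)) := inferInstance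
    obtain ⟨f⟩ := sl2_syl hu hv e1 e2 P
    obtain ⟨T', hT'⟩ := (P.isPGroup'.map Matrix.SpecialLinearGroup.toGL).exists_le_sylow
    refine (not_qd_inj (n := 2 ^ j) (Nat.one_lt_two_pow (by omega))
      (e.toMonoidHom.comp ((Sylow.equiv T' T).toMonoidHom.comp ((inclusion hT').comp
        (((P : Subgroup (SL2 q)).equivMapOfInjective _
          Matrix.SpecialLinearGroup.toGL_injective).toMonoidHom.comp f.symm.toMonoidHom)))) ?_).elim
    exact e.injective.comp ((Sylow.equiv T' T).injective.comp ((inclusion_injective hT').comp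
      (((P : Subgroup (SL2 q)).equivMapOfInjective _
          Matrix.SpecialLinearGroup.toGL_injective).injective.comp f.symm.injective)))
  · exact e
  · rw [hc, show 2 ^ (j + 3) = 8 * 2 ^ j by ring] at e
    omega

end sl

variable {Ω : Type*} [Group Ω] {S : Subgroup Ω} [Finite S]

theorem no_ss_of_group [Finite G] (T : Sylow 2 G) (θ : T →* Ω) (hr : θ.range = S)
    (hk : ∀ x : T, θ x = 1 → (x : G) ∈ center G) (h : ∀ F : FusionSystem S, F.IsSaturated 2 → SS F)
    {L : Subgroup G} (hL : ⁅L, L⁆ = L) {x : T} (hx : (x : G) ∈ L) : θ x = 1 := by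
  obtain ⟨E, Z, h1, h2⟩ := exists_fac_group (syl_top T) θ hr hk
  have h3 := h E h1.sat
  have h4 : E.IsSubsystemOf (innerFusionSystem S) := isSubsystemOf_iff.2 fun P σ => h1.eq_inner_of_pgroup (by
    rintro P (rfl | c)
    · intro α
      obtain ⟨k, hk⟩ := ((h3.hi le_rfl).aut_pow h1.pg α.2 α.2).2
      exact ⟨k, Subtype.ext (by simpa using hk)⟩
    · exact absurd c (h1.not_ess_of_normal_top (h3.normal h1)))
  have h5 := hyp_mono (p := 2) h4
  rw [hyp_inner h1.pg, h2.hyp_eq (sat_group T), (grpFS_group _).hyp_eq (syl_top T), H2.resOf_top] at h5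
  rw [← ext_coe θ x]
  refine h5 (mem_im_of_mem _ ⟨x.2, ?_⟩)
  have := (H2.isPGroup_quotient_pResidual 2 G).isNilpotent
  by_contra c
  refine (IsSolvable.commutator_lt_of_ne_bot (H := L.map (QuotientGroup.mk' (pResidual 2 G))) fun e => c ?_).ne
    (by rw [← map_commutator, hL])
  rw [Subgroup.map_eq_bot_iff, QuotientGroup.ker_mk'] at e
  exact e hx

theorem exists_log (hS : IsPGroup 2 S) {n m : ℕ} (hn : 2 ≤ n) (h : Nat.card S = m * n) :
    ∃ j, 1 ≤ j ∧ n = 2 ^ j := by
  obtain ⟨k, hk⟩ := IsPGroup.iff_card.1 hS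
  obtain ⟨j, -, rfl⟩ := (Nat.dvd_prime_pow Nat.prime_two).1 (Dvd.intro_left _ (h.symm.trans hk))
  exact ⟨j, Nat.pos_of_ne_zero (by rintro rfl; omega), rfl⟩

theorem not_ss_two (hS : IsPGroup 2 S) (h : ∀ F : FusionSystem S, F.IsSaturated 2 → SS F) :
    ¬ ((∃ n : ℕ, 2 ≤ n ∧ Nonempty (S ≃* DihedralGroup n)) ∨ IsQuasiDihedral S ∨
      (∃ n : ℕ, 2 ≤ n ∧ Nonempty (S ≃* QuaternionGroup n))) := by
  have rg : ∀ {K : Type} [Group K] (f : K →* S), Function.Surjective f → (S.subtype.comp f).range = S :=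
    fun f hf => by
      rw [MonoidHom.range_comp, MonoidHom.range_eq_top.2 hf, ← MonoidHom.range_eq_map, range_subtype]
  rintro (⟨n, hn, ⟨e⟩⟩ | e | ⟨n, hn, ⟨e⟩⟩)
  · have : NeZero n := ⟨by omega⟩
    obtain ⟨j, hj, rfl⟩ := exists_log hS hn (m := 2) (by rw [Nat.card_congr e.toEquiv, DihedralGroup.nat_card])
    obtain ⟨q, u, v, hq, h5, hu, hv, e1, e2⟩ := exists_q j hj
    have := Fact.mk hq
    obtain ⟨P⟩ : Nonempty (Sylow 2 (SL2 q)) := inferInstance
    obtain ⟨f⟩ := sl2_syl hu hv e1 e2 P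
    have := no_ss_of_group P _ (rg (e.symm.toMonoidHom.comp ((qdHom _).comp f.toMonoidHom))
      (e.symm.surjective.comp ((qdHom_surj _).comp f.surjective))) (fun x hx => by
        have := qdHom_ker ((map_eq_one_iff _ e.symm.injective).1 (Subtype.ext hx))
        rw [MulEquiv.coe_toMonoidHom, ← map_pow, map_eq_one_iff _ f.injective] at this
        rcases (H4.sq_eq_one_iff_SL (two_ne_q h5)).1 (congrArg Subtype.val this) with a | a <;> rw [a]
        · exact one_mem _
        · exact mem_center_iff.2 fun g => by simp) h (L := ⊤) (sl2_perfect h5) (x := f.symm (.xa 0)) trivial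
    have := (map_eq_one_iff _ e.symm.injective).1 (Subtype.ext this)
    rw [MonoidHom.comp_apply, MulEquiv.coe_toMonoidHom, f.apply_symm_apply] at this
    exact absurd this (by rintro ⟨⟩)
  · obtain ⟨n, -, -, c, -⟩ := H2.exists_sdp_top e
    obtain ⟨q, u, v, hq, h5, hu, hv, e1, e2⟩ := exists_q (n + 1) (by omega)
    have := Fact.mk hq
    obtain ⟨T, a, b⟩ := gl2_syl h5 hu hv e1 e2 (by omega)
    obtain ⟨f⟩ := sd_equiv a e (b.trans c.symm)
    have := no_ss_of_group T _ (rg f.toMonoidHom f.surjective) (fun x hx => by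
      rw [(map_eq_one_iff _ f.injective).1 (Subtype.ext hx)]; exact one_mem _) h
      (L := (⊤ : Subgroup (SL2 q)).map Matrix.SpecialLinearGroup.toGL)
      (by rw [← map_commutator]; exact congrArg _ (sl2_perfect h5)) (x := ⟨-1, gl_neg_mem h5 T⟩)
      ⟨-1, trivial, Units.ext rfl⟩
    have := congrArg (fun g : T => g.1.1 0 0) ((map_eq_one_iff _ f.injective).1 (Subtype.ext this))
    exact two_ne_q h5 (by simp at this; linear_combination -this)
  · have : NeZero n := ⟨by omega⟩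
    obtain ⟨j, hj, rfl⟩ := exists_log hS hn (m := 4) (by
      rw [Nat.card_congr e.toEquiv, Nat.card_eq_fintype_card, QuaternionGroup.card])
    obtain ⟨q, u, v, hq, h5, hu, hv, e1, e2⟩ := exists_q j hj
    have := Fact.mk hq
    obtain ⟨P⟩ : Nonempty (Sylow 2 (SL2 q)) := inferInstance
    obtain ⟨f⟩ := sl2_syl hu hv e1 e2 P
    let g := f.trans e.symm
    have := no_ss_of_group P _ (rg g.toMonoidHom g.surjective) (fun x hx => by
      rw [(map_eq_one_iff _ g.injective).1 (Subtype.ext hx)]; exact one_mem _) h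
      (L := ⊤) (sl2_perfect h5) (x := f.symm (.xa 0)) trivial
    have := (map_eq_one_iff _ f.symm.injective).1 ((map_eq_one_iff _ g.injective).1 (Subtype.ext this))
    exact absurd this (by rintro ⟨⟩)

theorem ss_of_cyclic (h : IsCyclic S) (F : FusionSystem S) : SS F := by
  obtain ⟨x, hx⟩ := (Subgroup.isCyclic_iff_exists_zpowers_eq_top S).1 h
  exact ss_iff.2 (Ch.one (sc_bot F) (sc_top F) (x := x) (by rw [bot_sup_eq, hx]))

theorem ch_meta [Finite G] {p : ℕ} [Fact p.Prime] (hp : p ≠ 2) (hG : IsPGroup p G) (hm : IsMetacyclic G)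
    (hna : ¬ IsMulCommutative G) (H : Subgroup (MulAut G)) (hH : (Nat.card H).Coprime p) :
    Ch (HI H) 0 ⊥ ⊤ := by
  let e : G ≃* H2.sl H.subtype ⊤ := topEquiv.symm.trans
    ((⊤ : Subgroup G).equivMapOfInjective _ SemidirectProduct.inl_injective)
  obtain ⟨-, h1, -, h2⟩ := S1447.result p hp (H2.sl H.subtype ⊤) (H2.sr H.subtype ⊤) (hG.of_equiv e)
    (Reg.meta_surj hm e.toMonoidHom e.surjective) (H2.le_normalizer_sl_top _) (by rwa [H2.card_sr_top])
  by_cases c : H2.sr H.subtype ⊤ ≤ centralizer (H2.sl H.subtype ⊤ : Set (G ⋊[H.subtype] H))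
  · have : ∀ α ∈ H, α = 1 := fun α hα => MulEquiv.ext fun x =>
      H2.sr_le_centralizer_sl.1 c ⟨α, hα⟩ trivial x trivial
    exact ch_of_comm hG ⟨⟨fun a b => Subtype.ext (by rw [this _ (a * b).2, this _ (b * a).2])⟩⟩
      fun α hα => by rw [this α hα, one_pow]
  obtain ⟨-, a, -, b, -⟩ := h2 (fun d => hna ⟨⟨fun x y => e.injective (by rw [map_mul, map_mul, mul_comm'])⟩⟩) c
  obtain ⟨x, hx⟩ := (Subgroup.isCyclic_iff_exists_zpowers_eq_top _).1 a
  obtain ⟨y, hy⟩ := (Subgroup.isCyclic_iff_exists_zpowers_eq_top _).1 b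
  have hC : (⁅H2.sl H.subtype ⊤, H2.sr H.subtype ⊤⁆).Normal ∧
      ⁅H2.sl H.subtype ⊤, H2.sr H.subtype ⊤⁆ ≤ H2.sl H.subtype ⊤ :=
    ⟨normalizer_eq_top_iff.1 (top_le_iff.1 (H2.sl_sup_sr.ge.trans (sup_le (normalizer_commutator_ge_left _ _)
      (normalizer_commutator_ge_right _ _)))), commutator_le_left _ _⟩
  have := ((Ch.one (I := fun N => N.Normal ∧ N ≤ H2.sl H.subtype ⊤) ⟨inferInstance, bot_le⟩ hC (x := x)
    (by rw [bot_sup_eq, hx])).trans (Ch.one hC ⟨inferInstance, le_rfl⟩ (x := y) (by rw [hy, h1]))).comap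
    (I' := HI H) SemidirectProduct.inl SemidirectProduct.inl_injective fun N hN =>
      ⟨hN.2.trans (map_le_range _ _), hN.1.comap _, fun α hα x hx => by
        have := hN.1.conj_mem _ hx (SemidirectProduct.inr ⟨α, hα⟩)
        rwa [H2.inr_conj_inl] at this⟩
  rwa [MonoidHom.comap_bot, (MonoidHom.ker_eq_bot_iff _).2 SemidirectProduct.inl_injective,
    comap_map_eq_self_of_injective SemidirectProduct.inl_injective] at this

theorem not_meta_prod {C H : Type*} [Group C] [Group H] [Finite C] [Finite H] {p : ℕ} [hp : Fact p.Prime]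
    (hp2 : p ≠ 2) (hG' : IsPGroup p ((C × C) × H)) (hm : IsMetacyclic ((C × C) × H)) {a : C} {d : H}
    (a1 : a ≠ 1) (d1 : d ≠ 1) (pa : a ^ p = 1) (pd : d ^ p = 1) : False := by
  have h1 := H2.IsMetacyclic.card_omegaOne_le hp2 (R := ⊤) (hG'.to_subgroup _)
    (Reg.meta_surj hm topEquiv.symm.toMonoidHom (MulEquiv.surjective _))
  have lt := fun {A B : Subgroup ((C × C) × H)} (e : A < B) => mul_card_le_of_lt (hG'.to_subgroup B) e
  let u : (C × C) × H := ((a, 1), 1)
  let w : (C × C) × H := ((1, a), 1)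
  have c1 := lt (bot_lt_iff_ne_bot.2 (zpowers_ne_bot.2 fun e : u = 1 => a1 (congrArg (fun t => t.1.1) e)))
  have c2 := lt (show zpowers u < zpowers u ⊔ zpowers w from
    lt_of_le_of_ne le_sup_left fun e => a1 ((show zpowers u ≤
      ((MonoidHom.snd C C).comp (MonoidHom.fst _ H)).ker from zpowers_le.2 rfl)
        (e.ge (mem_sup_right (mem_zpowers w)))))
  have c3 := lt (show zpowers u ⊔ zpowers w < omegaOne p ⊤ from
    lt_of_le_of_ne (sup_le (zpowers_le.2 (mem_omega trivial (by simp [u, pa])))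
      (zpowers_le.2 (mem_omega trivial (by simp [w, pa])))) fun e => d1
      ((show zpowers u ⊔ zpowers w ≤ (MonoidHom.snd (C × C) H).ker from
        sup_le (zpowers_le.2 rfl) (zpowers_le.2 rfl)) (e.ge (mem_omega (x := (1, d)) trivial (by simp [pd])))))
  rw [card_bot] at c1
  have := hp.out.one_lt
  nlinarith [Nat.mul_le_mul_left p ((Nat.mul_le_mul_left p c1).trans c2)]

theorem homo_of_dec [Finite G] {p : ℕ} [hp : Fact p.Prime] (hp2 : p ≠ 2) (hG : IsPGroup p G)
    (hm : IsMetacyclic G) {n : ℕ} (hn : 0 < n) {H : Type*} [Group H]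
    (e : G ≃* (Multiplicative (ZMod (p ^ n)) × Multiplicative (ZMod (p ^ n))) × H) :
    Nonempty (G ≃* Multiplicative (ZMod (p ^ n)) × Multiplicative (ZMod (p ^ n))) := by
  by_cases c : Subsingleton H
  · have := uniqueOfSubsingleton (1 : H)
    exact ⟨e.trans MulEquiv.prodUnique⟩
  exfalso
  have := not_subsingleton_iff_nontrivial.1 c
  have := Finite.of_equiv _ e.toEquiv
  have : Finite H := Finite.of_surjective _
    (Prod.snd_surjective (α := Multiplicative (ZMod (p ^ n)) × Multiplicative (ZMod (p ^ n))))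
  have hG' := hG.of_equiv e
  obtain ⟨d, hd⟩ := exists_prime_orderOf_dvd_card' p (G := H)
    ((hG'.of_surjective (MonoidHom.snd _ _) Prod.snd_surjective).card_eq_or_dvd.resolve_left
      Finite.one_lt_card.ne')
  obtain ⟨a, ha⟩ := exists_prime_orderOf_dvd_card' p (G := Multiplicative (ZMod (p ^ n)))
    (by simpa using dvd_pow_self p hn.ne')
  exact not_meta_prod hp2 hG' (Reg.meta_surj hm e.toMonoidHom e.surjective)
    (fun e => hp.out.one_lt.ne (by rw [← ha, e, orderOf_one]))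
    (fun e => hp.out.one_lt.ne (by rw [← hd, e, orderOf_one]))
    (orderOf_dvd_iff_pow_eq_one.1 ha.dvd) (orderOf_dvd_iff_pow_eq_one.1 hd.dvd)

end Cfsg.Agent.H9
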