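import Cfsg.Agent.S3681
import Cfsg.Agent.S2530

/-! Subgroups of small index in symmetric and alternating groups; the outer automorphism of `S₆`. -/

set_option autoImplicit false

namespace Cfsg.Agent.H9.SymI

open Equiv Subgroup MulAction

theorem card_dvd_fact {G : Type*} [Group G] [Finite G] {H : Subgroup G} (h : H.normalCore = ⊥) :
    Nat.card G ∣ H.index.factorial := by
  rw [normalCore_eq_ker] at h
  have := card_dvd_of_injective _ ((MonoidHom.ker_eq_bot_iff _).1 h)
  rwa [Nat.card_perm, ← index_eq_card] at this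

theorem exists_hom {G : Type*} [Group G] [Finite G] {H : Subgroup G} (h : H.normalCore = ⊥) {m : ℕ}
    (hi : H.index = m + 1) : ∃ ψ : H →* Perm (Fin m), Function.Injective ψ := by
  classical
  obtain ⟨a, ha⟩ : ∃ a : G ⧸ H, a = ((1 : G) : G ⧸ H) := ⟨_, rfl⟩
  have hc : Nat.card {x : G ⧸ H // x ≠ a} = m := by
    have := SubMulAction.nat_card_ofStabilizer_add_one_eq G a
    rw [← index_eq_card, hi] at this
    exact Nat.succ_injective this
  obtain ⟨e⟩ : Nonempty ({x : G ⧸ H // x ≠ a} ≃ Fin m) := Finite.card_eq.1 (by simpa using hc)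
  have hp : ∀ g : stabilizer G a, ∀ x, toPerm (g : G) x ≠ a ↔ x ≠ a := fun g x => by
    have : (g : G) • x = a ↔ x = a := by
      have h1 : (g : G) • a = a := g.2
      exact ⟨fun h2 => (smul_left_cancel_iff _).1 (h2.trans h1.symm), fun h2 => h2 ▸ h1⟩
    exact not_congr this
  let φ : stabilizer G a →* Perm {x : G ⧸ H // x ≠ a} := MonoidHom.mk'
    (fun g => (toPerm (g : G) : Perm (G ⧸ H)).subtypePerm (hp g)) (fun g h => by
      ext x; exact mul_smul (g : G) (h : G) (x : G ⧸ H))
  have : ∃ ψ : stabilizer G a →* Perm (Fin m), Function.Injective ψ := by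
    refine ⟨e.permCongrHom.toMonoidHom.comp φ,
      e.permCongrHom.injective.comp ((injective_iff_map_eq_one _).2 fun g hg => ?_)⟩
    have : (g : G) ∈ H.normalCore := by
      rw [normalCore_eq_ker, MonoidHom.mem_ker]
      ext x
      by_cases hx : x = a
      · rw [hx]; exact g.2
      · exact congrArg (fun φ : Perm {x : G ⧸ H // x ≠ a} => (φ ⟨x, hx⟩ : G ⧸ H)) hg
    rw [h] at this
    exact Subtype.ext this
  rwa [ha, stabilizer_quotient] at this

theorem range_eq_alt {H : Type*} [Group H] [Finite H] {m : ℕ} (ψ : H →* Perm (Fin m))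
    (hψ : Function.Injective ψ) (hc : 2 * Nat.card H = m.factorial) : ψ.range = alternatingGroup (Fin m) := by
  apply Perm.eq_alternatingGroup_of_index_eq_two
  have h1 := ψ.range.card_mul_index
  rw [← Nat.card_congr (MonoidHom.ofInjective hψ).toEquiv, Nat.card_perm, Nat.card_fin, ← hc] at h1
  have : 0 < Nat.card H := Nat.card_pos
  nlinarith

theorem le_index_of_simple {H : Type*} [Group H] [Finite H] [IsSimpleGroup H] {m : ℕ} (hm : 3 ≤ m)
    (hc : 2 * Nat.card H = m.factorial) {K : Subgroup H} (hK : K ≠ ⊤) : m ≤ K.index := by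
  have h1 : K.normalCore = ⊥ := (IsSimpleGroup.eq_bot_or_eq_top_of_normal _ inferInstance).resolve_right
    fun h => hK (eq_top_iff.2 (h ▸ K.normalCore_le))
  have h2 := Nat.le_of_dvd (Nat.factorial_pos _) (card_dvd_fact h1)
  by_contra hlt
  obtain ⟨k, rfl⟩ : ∃ k, m = k + 1 := ⟨m - 1, by omega⟩
  have h3 : K.index.factorial ≤ k.factorial := Nat.factorial_le (by omega)
  rw [Nat.factorial_succ] at hc
  have := Nat.factorial_pos k
  nlinarith

variable {Ω : Type*} [Fintype Ω] [DecidableEq Ω]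

theorem core_alt {m : ℕ} (hn : Nat.card Ω = m + 1) (hm : 4 ≤ m) {H : Subgroup (Perm Ω)}
    (hA : H ≤ alternatingGroup Ω) (hc : 2 * Nat.card H = m.factorial) :
    ∃ ψ : H →* Perm (Fin m), Function.Injective ψ := by
  haveI : Nontrivial Ω := Finite.one_lt_card_iff_nontrivial.1 (by omega)
  haveI := alternatingGroup.isSimpleGroup (α := Ω) (by omega)
  have h1 : (H.subgroupOf (alternatingGroup Ω)).index = m + 1 := by
    have h2 := (H.subgroupOf (alternatingGroup Ω)).card_mul_index
    have h3 := two_mul_nat_card_alternatingGroup (α := Ω)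
    rw [Nat.card_congr (subgroupOfEquivOfLe hA).toEquiv] at h2
    rw [Nat.card_perm, hn, Nat.factorial_succ, ← hc, ← h2] at h3
    have : 0 < Nat.card H := Nat.card_pos
    nlinarith
  have h2 : (H.subgroupOf (alternatingGroup Ω)).normalCore = ⊥ :=
    (IsSimpleGroup.eq_bot_or_eq_top_of_normal _ inferInstance).resolve_right fun h => by
      rw [eq_top_iff.2 (h ▸ normalCore_le _ : ⊤ ≤ H.subgroupOf (alternatingGroup Ω)), index_top] at h1
      omega
  obtain ⟨ψ, hψ⟩ := exists_hom h2 h1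
  exact ⟨ψ.comp (subgroupOfEquivOfLe hA).symm.toMonoidHom, hψ.comp (subgroupOfEquivOfLe hA).symm.injective⟩

theorem fix_or_prim {m : ℕ} (hn : Nat.card Ω = m + 1) (hm : 5 ≤ m) {H : Subgroup (Perm Ω)}
    (hA : H ≤ alternatingGroup Ω) (hc : 2 * Nat.card H = m.factorial) :
    (∃ x, ∀ h ∈ H, h x = x) ∨ IsPreprimitive H Ω := by
  obtain ⟨ψ, hψ⟩ := core_alt hn (by omega) hA hc
  haveI : Nontrivial Ω := Finite.one_lt_card_iff_nontrivial.1 (by omega)
  haveI : IsSimpleGroup H := by
    haveI := alternatingGroup.isSimpleGroup (α := Fin m) (by simpa using hm)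
    exact ((MonoidHom.ofInjective hψ).trans (MulEquiv.subgroupCongr (range_eq_alt ψ hψ hc))).isSimpleGroup
  rw [or_iff_not_imp_left]
  intro hno
  push Not at hno
  have h1 : ∀ x : Ω, m ≤ (orbit H x).ncard := by
    intro x
    rw [← index_stabilizer]
    refine le_index_of_simple (by omega) hc fun h => ?_
    obtain ⟨g, hg, hx⟩ := hno x
    exact hx (show (⟨g, hg⟩ : H) ∈ stabilizer H x from h ▸ mem_top _)
  haveI : IsPretransitive H Ω := ⟨fun x y => by
    by_contra hxy
    have hd : Disjoint (orbit H x) (orbit H y) := by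
      rw [Set.disjoint_left]
      rintro _ ⟨a, rfl⟩ ⟨b, hb⟩
      exact hxy ⟨b⁻¹ * a, by rw [mul_smul, ← show b • y = a • x from hb, inv_smul_smul]⟩
    have h2 := Set.ncard_union_eq hd
    have h3 := Set.ncard_le_card (orbit H x ∪ orbit H y)
    have := h1 x
    have := h1 y
    omega⟩
  obtain ⟨x⟩ : Nonempty Ω := inferInstance
  rw [← isCoatom_stabilizer_iff_preprimitive H x]
  have hi : (stabilizer H x).index = m + 1 := by rw [index_stabilizer_of_transitive, hn]
  refine ⟨fun h => by rw [h, index_top] at hi; omega, fun K hK => ?_⟩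
  by_contra hK1
  have h2 := le_index_of_simple (by omega) hc hK1
  have h3 := relIndex_mul_index hK.le
  have h4 : (stabilizer H x).relIndex K ≠ 1 := fun h => hK.not_ge (relIndex_eq_one.1 h)
  have h5 : (stabilizer H x).relIndex K ≠ 0 := by rintro h; rw [h] at h3; omega
  have h6 : 2 ≤ (stabilizer H x).relIndex K := by omega
  nlinarith

theorem fact_big (n : ℕ) (hn : 7 ≤ n) : 2 * n < ((n + 1) / 2).factorial := by
  obtain ⟨k, hk⟩ : ∃ k, (n + 1) / 2 = k + 4 := ⟨(n + 1) / 2 - 4, by omega⟩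
  have : ∀ k : ℕ, 4 * (k + 4) < (k + 4).factorial := by
    intro k
    induction k with
    | zero => decide
    | succ k ih => rw [show k + 1 + 4 = k + 4 + 1 by ring, Nat.factorial_succ]; nlinarith
  have := this k
  rw [hk]; omega

theorem fix_unique (h5 : Nat.card Ω = 5) {v : Perm Ω} (h2 : v * v = 1) (h1 : v ≠ 1) (hs : Perm.sign v = 1)
    {x y : Ω} (hx : v x = x) (hy : v y = y) : x = y := by
  by_contra hxy
  have h3 : v.support.card ≤ 3 := by
    have : v.support ⊆ Finset.univ \ {x, y} := by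
      intro z hz
      rw [Perm.mem_support] at hz
      simp only [Finset.mem_sdiff, Finset.mem_univ, Finset.mem_insert, Finset.mem_singleton, true_and]
      rintro (rfl | rfl) <;> contradiction
    have := Finset.card_le_card this
    rw [Finset.card_sdiff_of_subset (Finset.subset_univ _), Finset.card_pair hxy, Finset.card_univ,
      ← Nat.card_eq_fintype_card, h5] at this
    exact this
  have h4 := Perm.two_le_card_support_of_ne_one h1
  rcases (show v.support.card = 2 ∨ v.support.card = 3 by omega) with h | h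
  · rw [(Perm.card_support_eq_two.1 h).sign_eq] at hs; exact absurd hs (by decide)
  · have := orderOf_dvd_of_pow_eq_one (show v ^ 2 = 1 by rw [pow_two, h2])
    rw [(card_support_eq_three_iff.1 h).orderOf] at this
    exact absurd this (by decide)

theorem fix_of_pgroup {p k : ℕ} (hp : p.Prime) {H : Subgroup (Perm Ω)} (hc : Nat.card H = p ^ k)
    (hd : ¬ p ∣ Nat.card Ω) : ∃ x, ∀ h ∈ H, h x = x := by
  haveI := Fact.mk hp
  obtain ⟨x, hx⟩ := (IsPGroup.of_card hc).nonempty_fixed_point_of_prime_not_dvd_card Ω hd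
  exact ⟨x, fun h hh => hx ⟨h, hh⟩⟩

theorem fix_of_index {m : ℕ} (hn : Nat.card Ω = m + 1) (hm : 3 ≤ m) (h6 : m ≠ 5) {H : Subgroup (Perm Ω)}
    (hA : H ≤ alternatingGroup Ω) (hc : 2 * Nat.card H = m.factorial) : ∃ x, ∀ h ∈ H, h x = x := by
  by_cases h3 : m = 3
  · subst h3
    exact fix_of_pgroup Nat.prime_three (k := 1) (by simp [Nat.factorial] at hc; omega) (by rw [hn]; decide)
  by_cases h4 : m = 4
  · subst h4
    obtain ⟨ψ, hψ⟩ := core_alt hn le_rfl hA hc
    have hr := range_eq_alt ψ hψ hc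
    haveI := Fact.mk Nat.prime_two
    obtain ⟨v, hv⟩ := exists_prime_orderOf_dvd_card' (G := H) 2 (by simp [Nat.factorial] at hc; omega)
    have hv2 : v * v = 1 := by rw [← pow_two, ← hv, pow_orderOf_eq_one]
    have hv1 : (v : Perm Ω) ≠ 1 := fun h => by rw [show v = 1 from Subtype.ext h] at hv; simp at hv
    obtain ⟨x, hx⟩ := fix_of_pgroup Nat.prime_two (H := zpowers (v : Perm Ω)) (k := 1)
      (by rw [Nat.card_zpowers, orderOf_coe, hv]; rfl) (by rw [hn]; decide)
    have hx := hx _ (mem_zpowers _)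
    refine ⟨x, fun h hh => ?_⟩
    have key : ∀ a b : Perm (Fin 4), a * a = 1 → Perm.sign a = 1 → b * a * b⁻¹ * a = a * (b * a * b⁻¹) := by
      decide +kernel
    have h1 := key (ψ v) (ψ ⟨h, hh⟩) (by rw [← map_mul, hv2, map_one])
      (Perm.mem_alternatingGroup.1 (hr ▸ ⟨v, rfl⟩))
    simp only [← map_mul, ← map_inv] at h1
    have h2 : h * v * h⁻¹ * v = v * (h * v * h⁻¹) := congrArg Subtype.val (hψ h1)
    have hv2' : (v : Perm Ω) * v = 1 := congrArg Subtype.val hv2
    have h3 : (h * v * h⁻¹) x = x := by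
      refine fix_unique hn hv2' hv1 (hA v.2) ?_ hx
      rw [← Perm.mul_apply, ← h2, Perm.mul_apply, hx]
    refine fix_unique hn (v := h * v * h⁻¹) ?_ (by simpa using hv1) (Normal.conj_mem inferInstance _ (hA v.2) h) ?_ h3
    · rw [conj_mul, hv2']; simp
    · simp [hx]
  rcases fix_or_prim hn (by omega) hA hc with h | h
  · exact h
  exfalso
  haveI : Nontrivial Ω := Finite.one_lt_card_iff_nontrivial.1 (by omega)
  have h1 := S3681.result (G := H) (Ω := Ω) h (by
    intro h1
    have h2 := card_le_of_le h1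
    have h3 := two_mul_nat_card_alternatingGroup (α := Ω)
    have h4 : Nat.card (toPermHom H Ω).range ≤ Nat.card H :=
      Nat.le_of_dvd Nat.card_pos (card_range_dvd _)
    rw [Nat.card_perm, hn, Nat.factorial_succ, ← hc] at h3
    have : 0 < Nat.card H := Nat.card_pos
    nlinarith)
  rw [← Nat.card_eq_fintype_card, hn, Nat.factorial_succ, ← hc] at h1
  have h2 := fact_big (m + 1) (by omega)
  have : 0 < Nat.card H := Nat.card_pos
  nlinarith

theorem card_stab {m : ℕ} (hn : Nat.card Ω = m + 1) (x : Ω) :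
    (stabilizer (Perm Ω) x).index = m + 1 := by rw [index_stabilizer_of_transitive, hn]

theorem card_of_index {m : ℕ} (hn : Nat.card Ω = m + 1) {H : Subgroup (Perm Ω)} (hH : H.index = m + 1) :
    Nat.card H = m.factorial := by
  have := H.card_mul_index
  rw [hH, Nat.card_perm, hn, Nat.factorial_succ, mul_comm] at this
  exact Nat.eq_of_mul_eq_mul_left (by omega) this

theorem card_inf_alt {H : Subgroup (Perm Ω)} (h : ¬ H ≤ alternatingGroup Ω) :
    2 * Nat.card ↥(H ⊓ alternatingGroup Ω) = Nat.card H := by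
  haveI : Nontrivial Ω := by
    by_contra hn
    rw [not_nontrivial_iff_subsingleton] at hn
    exact h fun g _ => by rw [Subsingleton.elim g 1]; exact one_mem _
  have h1 : (alternatingGroup Ω).relIndex H ∣ 2 :=
    alternatingGroup.index_eq_two (α := Ω) ▸ relIndex_dvd_index_of_normal _ _
  have h2 : (alternatingGroup Ω).relIndex H = 2 :=
    ((Nat.dvd_prime Nat.prime_two).1 h1).resolve_left fun e => h (relIndex_eq_one.1 e)
  have h3 := ((alternatingGroup Ω).subgroupOf H).card_mul_index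
  rw [← h3, ← relIndex, h2, mul_comm, ← inf_subgroupOf_left,
    Nat.card_congr (subgroupOfEquivOfLe inf_le_left).toEquiv]

theorem not_le_alt {m : ℕ} (hn : Nat.card Ω = m + 1) (hm : 3 ≤ m) {H : Subgroup (Perm Ω)}
    (hH : H.index = m + 1) : ¬ H ≤ alternatingGroup Ω := by
  intro hA
  haveI : Nontrivial Ω := Finite.one_lt_card_iff_nontrivial.1 (by omega)
  have h1 := relIndex_mul_index hA
  rw [alternatingGroup.index_eq_two, hH] at h1
  have hne : H.subgroupOf (alternatingGroup Ω) ≠ ⊤ := fun h => by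
    rw [relIndex, h, index_top] at h1; omega
  by_cases h3 : m = 3
  · subst h3
    apply hne
    rw [eq_top_iff, ← alternatingGroup.closure_isThreeCycles_eq_top, closure_le]
    intro c hc
    have h2 : (H.subgroupOf (alternatingGroup Ω)).index = 2 := by rw [← relIndex]; omega
    have h4 := mul_self_mem_of_index_two h2 (c * c)
    have h5 : c ^ 3 = 1 := Subtype.ext (by
      rw [coe_pow, ← (show Perm.IsThreeCycle (c : Perm Ω) from hc).orderOf, pow_orderOf_eq_one]; rfl)
    rwa [show c * c * (c * c) = c ^ 3 * c by rw [pow_succ, pow_two]; group, h5, one_mul] at h4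
  · haveI := alternatingGroup.isSimpleGroup (α := Ω) (by omega)
    have := le_index_of_simple (m := m + 1) (by omega)
      (by rw [two_mul_nat_card_alternatingGroup, Nat.card_perm, hn]) hne
    rw [← relIndex] at this
    omega

theorem exists_two {m : ℕ} (hn : Nat.card Ω = m + 1) (hm : 3 ≤ m) (x y : Ω) :
    ∃ a b, a ≠ b ∧ a ≠ x ∧ a ≠ y ∧ b ≠ x ∧ b ≠ y := by
  have : 1 < (Finset.univ \ {x, y} : Finset Ω).card := by
    rw [Finset.card_sdiff_of_subset (Finset.subset_univ _), Finset.card_univ, ← Nat.card_eq_fintype_card, hn]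
    have := Finset.card_le_two (a := x) (b := y)
    omega
  obtain ⟨a, ha, b, hb, hab⟩ := Finset.one_lt_card.1 this
  simp only [Finset.mem_sdiff, Finset.mem_univ, Finset.mem_insert, Finset.mem_singleton, true_and,
    not_or] at ha hb
  exact ⟨a, b, hab, ha.1, ha.2, hb.1, hb.2⟩

theorem eq_stab {m : ℕ} (hn : Nat.card Ω = m + 1) (hm : 3 ≤ m) {H : Subgroup (Perm Ω)}
    (hH : H.index = m + 1) {x : Ω} (hx : ∀ h ∈ H ⊓ alternatingGroup Ω, h x = x) :
    H = stabilizer (Perm Ω) x := by
  have e1 := card_inf_alt (not_le_alt hn hm hH)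
  have e2 := card_inf_alt (not_le_alt hn hm (card_stab hn x))
  rw [card_of_index hn hH] at e1
  rw [card_of_index hn (card_stab hn x)] at e2
  have e3 : H ⊓ alternatingGroup Ω = stabilizer (Perm Ω) x ⊓ alternatingGroup Ω :=
    eq_of_le_of_card_ge (le_inf hx inf_le_right) (by omega)
  refine eq_of_le_of_card_ge (fun h hh => ?_) (by rw [card_of_index hn hH, card_of_index hn (card_stab hn x)])
  by_contra hne
  have hne : h x ≠ x := hne
  obtain ⟨a, b, hab, hax, hay, hbx, hby⟩ := exists_two hn hm x (h x)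
  have h1 : swap (h x) a * swap a b ∈ stabilizer (Perm Ω) x ⊓ alternatingGroup Ω := by
    refine ⟨?_, Perm.mul_mem_alternatingGroup_of_isSwap ⟨_, _, hay.symm, rfl⟩ ⟨_, _, hab, rfl⟩⟩
    show swap (h x) a (swap a b x) = x
    rw [swap_apply_of_ne_of_ne hax.symm hbx.symm, swap_apply_of_ne_of_ne hne.symm hax.symm]
  rw [← e3] at h1
  have h2 := hx (h⁻¹ * (swap (h x) a * swap a b) * h⁻¹⁻¹)
    ⟨H.mul_mem (H.mul_mem (H.inv_mem hh) h1.1) (H.inv_mem (H.inv_mem hh)),
      Normal.conj_mem (inferInstance : (alternatingGroup Ω).Normal) _ h1.2 _⟩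
  simp only [inv_inv, Perm.coe_mul, Function.comp_apply, Perm.inv_eq_iff_eq] at h2
  rw [swap_apply_of_ne_of_ne hay.symm hby.symm, swap_apply_left] at h2
  exact hay h2

theorem core_eq_bot (h5 : 5 ≤ Nat.card Ω) {H : Subgroup (Perm Ω)} (h : 2 < H.index) : H.normalCore = ⊥ := by
  by_contra hne
  haveI : Nontrivial Ω := Finite.one_lt_card_iff_nontrivial.1 (by omega)
  have h1 := (Perm.alternatingGroup_le_of_normal h5 ((nontrivial_iff_ne_bot _).2 hne)).trans H.normalCore_le
  have := Nat.le_of_dvd two_pos (alternatingGroup.index_eq_two (α := Ω) ▸ index_dvd_of_le h1)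
  omega

theorem equiv_of_index {m : ℕ} (hn : Nat.card Ω = m + 1) (hm : 4 ≤ m) {H : Subgroup (Perm Ω)}
    (hH : H.index = m + 1) : Nonempty (H ≃* Perm (Fin m)) := by
  obtain ⟨ψ, hψ⟩ := exists_hom (core_eq_bot (by omega) (by omega)) hH
  exact ⟨MulEquiv.ofBijective ψ ((Nat.bijective_iff_injective_and_card ψ).2
    ⟨hψ, by rw [card_of_index hn hH, Nat.card_perm, Nat.card_fin]⟩)⟩

/-! ### degree six -/

def im6 : Fin 5 → Perm (Fin 6) :=
  ![swap 0 1 * swap 2 3 * swap 4 5, swap 0 2 * swap 1 4 * swap 3 5, swap 0 1 * swap 2 5 * swap 3 4,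
    swap 0 2 * swap 1 3 * swap 4 5, swap 0 1 * swap 2 4 * swap 3 5]

theorem outer_fin : ∃ θ : MulAut (Perm (Fin 6)), ∀ s : Perm (Fin 6), s.IsSwap → ∀ x, θ s x ≠ x := by
  obtain ⟨cs, hcs⟩ := S2530.result 5
  have hl : CoxeterMatrix.IsLiftable (CoxeterMatrix.A 5) im6 := by
    intro i j
    revert i j
    simp only [CoxeterMatrix.A]
    decide +kernel
  set θ := cs.lift ⟨im6, hl⟩ with hθ
  have h0 : ∀ i : Fin 5, θ (swap i.castSucc i.succ) = im6 i := fun i => by
    rw [← hcs, hθ, cs.lift_apply_simple]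
  have hinj : Function.Injective θ := by
    rw [← MonoidHom.ker_eq_bot_iff]
    by_contra hne
    have h1 := Perm.alternatingGroup_le_of_normal (α := Fin 6) (by simp) ((nontrivial_iff_ne_bot _).2 hne)
    have h2 := h1 (Perm.mul_mem_alternatingGroup_of_isSwap
      (g := swap (0 : Fin 5).castSucc (0 : Fin 5).succ) (g' := swap (1 : Fin 5).castSucc (1 : Fin 5).succ)
      ⟨_, _, by decide, rfl⟩ ⟨_, _, by decide, rfl⟩)
    rw [MonoidHom.mem_ker, map_mul, h0, h0] at h2
    exact absurd h2 (by decide)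
  refine ⟨MulEquiv.ofBijective θ (Finite.injective_iff_bijective.1 hinj), ?_⟩
  rintro _ ⟨a, b, hab, rfl⟩ x
  obtain ⟨g, hg⟩ := _root_.isConj_iff.1 (Perm.isConj_swap (show (0 : Fin 5).castSucc ≠ (0 : Fin 5).succ by decide) hab)
  show θ (swap a b) x ≠ x
  rw [← hg, map_mul, map_mul, h0, map_inv]
  intro h
  exact (show ∀ y, im6 0 y ≠ y by decide) ((θ g)⁻¹ x) (Perm.eq_inv_iff_eq.2 h)

theorem outer (h6 : Nat.card Ω = 6) : ∃ θ : MulAut (Perm Ω), ∀ s : Perm Ω, s.IsSwap → ∀ x, θ s x ≠ x := by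
  obtain ⟨e⟩ : Nonempty (Ω ≃ Fin 6) := Finite.card_eq.1 (by simpa using h6)
  obtain ⟨θ, hθ⟩ := outer_fin
  refine ⟨e.permCongrHom.trans (θ.trans e.permCongrHom.symm), ?_⟩
  rintro _ ⟨a, b, hab, rfl⟩ x h
  refine hθ (e.permCongrHom (swap a b)) ⟨e a, e b, e.injective.ne hab, ?_⟩ (e x) ?_
  · exact permCongr_def e _ ▸ (Equiv.symm_trans_swap_trans a b e)
  · have := congrArg e h
    simpa using this

theorem invol_type (h6 : Nat.card Ω = 6) {t : Perm Ω} (ht : orderOf t = 2) :
    (Perm.sign t = -1 → t.IsSwap ∨ t.cycleType = {2, 2, 2}) ∧ ((∀ x, t x ≠ x) → t.cycleType = {2, 2, 2}) := by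
  obtain ⟨k, hk⟩ := Perm.cycleType_prime_order (σ := t) (ht ▸ Nat.prime_two)
  rw [ht] at hk
  have h1 := Perm.sum_cycleType_le t
  rw [hk, ← Nat.card_eq_fintype_card, h6] at h1
  simp only [Multiset.sum_replicate, smul_eq_mul] at h1
  refine ⟨fun hs => ?_, fun hf => ?_⟩
  · rw [Perm.sign_of_cycleType, hk] at hs
    have hk3 : k ≤ 2 := by omega
    interval_cases k
    · exact Or.inl (Perm.isSwap_iff_cycleType.2 hk)
    · exact absurd hs (by decide)
    · exact Or.inr hk
  · have h2 := Perm.sum_cycleType t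
    rw [hk, Finset.eq_univ_iff_forall.2 (fun x => Perm.mem_support.2 (hf x)), Finset.card_univ,
      ← Nat.card_eq_fintype_card, h6] at h2
    simp only [Multiset.sum_replicate, smul_eq_mul] at h2
    rw [hk, show k = 2 by omega]; rfl

theorem index_map_aut {G : Type*} [Group G] (θ : MulAut G) (H : Subgroup G) :
    (H.map θ.toMonoidHom).index = H.index := index_map_equiv H θ

theorem stab_of_swap (h6 : Nat.card Ω = 6) {H : Subgroup (Perm Ω)} (hH : H.index = 6) {s : Perm Ω}
    (hs : s.IsSwap) (hsH : s ∈ H) : ∃ x : Ω, H = stabilizer (Perm Ω) x := by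
  have e1 := card_inf_alt (not_le_alt (m := 5) h6 (by omega) hH)
  rw [card_of_index (m := 5) h6 hH] at e1
  rcases fix_or_prim (m := 5) h6 le_rfl inf_le_right e1 with ⟨x, hx⟩ | h
  · exact ⟨x, eq_stab (m := 5) h6 (by omega) hH hx⟩
  · have : IsPreprimitive H Ω := by
      haveI := h
      exact IsPreprimitive.of_surjective (M := ↥(H ⊓ alternatingGroup Ω)) (α := Ω)
        (φ := inclusion (inf_le_left : H ⊓ alternatingGroup Ω ≤ H)) (f := ⟨id, fun _ _ => rfl⟩)
        Function.surjective_id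
    rw [Perm.subgroup_eq_top_of_isPreprimitive_of_isSwap_mem this s hs hsH, index_top] at hH
    omega

theorem six (h6 : Nat.card Ω = 6) {θ : MulAut (Perm Ω)} (hθ : ∀ s : Perm Ω, s.IsSwap → ∀ x, θ s x ≠ x)
    {H : Subgroup (Perm Ω)} (hH : H.index = 6) :
    ∃ x : Ω, H = stabilizer (Perm Ω) x ∨ H = (stabilizer (Perm Ω) x).map θ.toMonoidHom := by
  obtain ⟨e⟩ := equiv_of_index (m := 5) h6 (by omega) hH
  have e1 := card_inf_alt (not_le_alt (m := 5) h6 (by omega) hH)
  have h1 : (((alternatingGroup Ω).subgroupOf H).map e.toMonoidHom) = alternatingGroup (Fin 5) := by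
    apply Perm.eq_alternatingGroup_of_index_eq_two
    refine (index_map_equiv _ e).trans ?_
    have h3 := ((alternatingGroup Ω).subgroupOf H).card_mul_index
    rw [← inf_subgroupOf_left, Nat.card_congr (subgroupOfEquivOfLe inf_le_left).toEquiv, ← e1,
      inf_subgroupOf_left, mul_comm 2] at h3
    exact Nat.eq_of_mul_eq_mul_left Nat.card_pos h3
  set t := e.symm (swap 0 1) with ht
  have ht2 : orderOf (t : Perm Ω) = 2 := by
    rw [orderOf_coe, ht, MulEquiv.orderOf_eq]
    exact (show Perm.IsSwap (swap (0 : Fin 5) 1) from ⟨_, _, by decide, rfl⟩).orderOf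
  have hs : Perm.sign (t : Perm Ω) = -1 := by
    refine (Int.units_eq_one_or _).resolve_left fun h => ?_
    have : swap (0 : Fin 5) 1 ∈ alternatingGroup (Fin 5) := h1 ▸ ⟨t, h, by simp [ht]⟩
    exact absurd (Perm.mem_alternatingGroup.1 this) (by decide)
  rcases (invol_type h6 ht2).1 hs with h | h
  · obtain ⟨x, hx⟩ := stab_of_swap h6 hH h t.2
    exact ⟨x, Or.inl hx⟩
  · haveI : Nontrivial Ω := Finite.one_lt_card_iff_nontrivial.1 (by omega)
    obtain ⟨a, b, hab⟩ := exists_pair_ne Ω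
    have h2 : (swap a b).IsSwap := ⟨a, b, hab, rfl⟩
    have h3 := (invol_type h6 (t := θ (swap a b)) (by rw [MulEquiv.orderOf_eq, h2.orderOf])).2 (hθ _ h2)
    obtain ⟨g, hg⟩ := _root_.isConj_iff.1 (Perm.isConj_iff_cycleType_eq.2 (h3.trans h.symm))
    have h4 : (θ.symm t).IsSwap := by
      rw [← hg, map_mul, map_mul, MulEquiv.symm_apply_apply, map_inv, Perm.isSwap_iff_cycleType,
        Perm.cycleType_conj, ← Perm.isSwap_iff_cycleType]
      exact h2
    obtain ⟨x, hx⟩ := stab_of_swap h6 (H := H.map θ.symm.toMonoidHom) (by rw [index_map_aut, hH]) h4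
      ⟨t, t.2, rfl⟩
    refine ⟨x, Or.inr ?_⟩
    rw [← hx, map_map]
    ext y; simp

theorem stab_ne (h6 : Nat.card Ω = 6) {θ : MulAut (Perm Ω)} (hθ : ∀ s : Perm Ω, s.IsSwap → ∀ x, θ s x ≠ x)
    (x y : Ω) : (stabilizer (Perm Ω) x).map θ.toMonoidHom ≠ stabilizer (Perm Ω) y := by
  intro h
  obtain ⟨a, b, hab, hax, -, hbx, -⟩ := exists_two (m := 5) h6 (by omega) x x
  have : θ (swap a b) ∈ stabilizer (Perm Ω) y :=
    h ▸ ⟨swap a b, swap_apply_of_ne_of_ne hax.symm hbx.symm, rfl⟩
  exact hθ _ ⟨a, b, hab, rfl⟩ y this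

theorem stab_inj {m : ℕ} (hn : Nat.card Ω = m + 1) (hm : 3 ≤ m) {x y : Ω}
    (h : stabilizer (Perm Ω) x = stabilizer (Perm Ω) y) : x = y := by
  by_contra hne
  obtain ⟨a, -, -, hax, hay, -⟩ := exists_two hn hm x y
  have : swap a y ∈ stabilizer (Perm Ω) y := h ▸ swap_apply_of_ne_of_ne hax.symm hne
  exact hay (by simpa using this)

theorem conj_stab (g : Perm Ω) (x : Ω) :
    (stabilizer (Perm Ω) x).map (MulAut.conj g).toMonoidHom = stabilizer (Perm Ω) (g x) :=
  (stabilizer_smul_eq_stabilizer_map_conj g x).symm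

end Cfsg.Agent.H9.SymI
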