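import Mathlib
import Cfsg.Agent.GS.Lem2
import Cfsg.Agent.L.Frob2
import Cfsg.Agent.H1.Hall

set_option autoImplicit false

namespace Cfsg.Agent.H9.TF
open Subgroup Cfsg.Agent.L

variable {G : Type*} [Group G] [Finite G]

theorem exists_order_of_dvd {g : G} {n : ℕ} (h : n ∣ orderOf g) : ∃ x ∈ zpowers g, orderOf x = n :=
  ⟨_, pow_mem (mem_zpowers g) _, orderOf_pow_orderOf_div (orderOf_pos g).ne' h⟩

theorem exists_order_prime {p : ℕ} (hp : p.Prime) {H : Subgroup G} (h : p ∣ Nat.card H) : ∃ x ∈ H, orderOf x = p := by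
  haveI := Fact.mk hp
  obtain ⟨x, hx⟩ := exists_prime_orderOf_dvd_card' (G := H) p h
  exact ⟨x, x.2, by rw [Subgroup.orderOf_coe, hx]⟩

theorem ne_one_of_order {p : ℕ} (hp : p.Prime) {x : G} (h : orderOf x = p) : x ≠ 1 := by
  rintro rfl
  rw [orderOf_one] at h
  exact hp.one_lt.ne h

theorem order_mul {p q : ℕ} (hp : p.Prime) (hq : q.Prime) (hne : p ≠ q) {x y : G} (hx : orderOf x = p)
    (hy : orderOf y = q) (h : x * y = y * x) : orderOf (x * y) = p * q := by
  rw [(show Commute x y from h).orderOf_mul_eq_mul_orderOf_of_coprime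
    (by rw [hx, hy]; exact (Nat.coprime_primes hp hq).mpr hne), hx, hy]

theorem cyc_of_two {G' : Type*} [Group G'] [Finite G'] {H C : Subgroup G} (hf : FPF H C)
    (hn : C ≤ normalizer (H : Set G)) (hH : H ≠ ⊥) {K D : Subgroup G'} [hK : K.Normal] (hf' : FPF K D) (hD : D ≠ ⊥)
    (e : C ≃* K) : Odd (Nat.card K) ∧ IsCyclic K := by
  have hnil : Group.IsNilpotent K := GS.fpf_nil hf' le_normalizer_of_normal hD
  have hodd : Odd (Nat.card K) := by
    rw [← Nat.not_even_iff_odd, even_iff_two_dvd]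
    intro h2
    obtain ⟨t, ht, ht2⟩ := exists_order_prime Nat.prime_two h2
    obtain ⟨⟨d, hd⟩, hd1⟩ := ne_bot_iff_exists_ne_one.mp hD
    have hd1' : d ≠ 1 := fun h => hd1 (Subtype.ext h)
    have a1 : orderOf ((e.symm ⟨t, ht⟩ : C) : G) = 2 := by
      rw [Subgroup.orderOf_coe, MulEquiv.orderOf_eq, ← Subgroup.orderOf_coe]; exact ht2
    have a2 : orderOf ((e.symm ⟨d * t * d⁻¹, hK.conj_mem t ht d⟩ : C) : G) = 2 := by
      rw [Subgroup.orderOf_coe, MulEquiv.orderOf_eq, ← Subgroup.orderOf_coe, ← ht2]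
      exact (MulAut.conj d).orderOf_eq t
    have a3 := hf.unique_involution hn hH (e.symm _).2 (e.symm _).2 a1 a2
    have a4 := congrArg Subtype.val (e.symm.injective (Subtype.ext a3))
    exact ne_one_of_order Nat.prime_two ht2 (hf'.eq_one hd hd1' ht (mul_inv_eq_iff_eq_mul.mp a4))
  refine ⟨hodd, ?_⟩
  haveI := hf.isZGroup_of_odd hn hH (by rw [Nat.card_congr e.toEquiv]; exact hodd)
  haveI : Group.IsNilpotent C := Group.nilpotent_of_mulEquiv e.symm
  exact isCyclic_of_surjective e e.surjective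

noncomputable def mapEquiv {H C : Subgroup G} [H.Normal] (h : H ⊓ C = ⊥) : C ≃* C.map (QuotientGroup.mk' H) :=
  MulEquiv.ofBijective ((QuotientGroup.mk' H).subgroupMap C) ⟨by
    rw [injective_iff_map_eq_one]
    intro c hc
    have : (c : G) ∈ H ⊓ C := ⟨(QuotientGroup.eq_one_iff _).mp (congrArg Subtype.val hc), c.2⟩
    rw [h] at this
    exact Subtype.ext this, MonoidHom.subgroupMap_surjective _ _⟩

theorem two_frob {H K C : Subgroup G} [H.Normal] [hKn : K.Normal] (hf : FPF H C) (hs : H ⊔ C = K) (hH : H ≠ ⊥) (hC : C ≠ ⊥)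
    {D : Subgroup (G ⧸ H)} (hf' : FPF (K.map (QuotientGroup.mk' H)) D) (hs' : K.map (QuotientGroup.mk' H) ⊔ D = ⊤)
    (hD : D ≠ ⊥) :
    Group.IsSolvable G ∧ Odd (Nat.card C) ∧ Nat.Coprime (Nat.card C) (Nat.card H * Nat.card (G ⧸ K)) ∧
      IsCyclic (G ⧸ K) ∧ ∀ p q : ℕ, p.Prime → q.Prime → p ≠ q → p ∣ Nat.card G → q ∣ Nat.card G →
        ((∃ g : G, orderOf g = p * q) ↔ (p ∣ Nat.card C ↔ q ∣ Nat.card C)) := by
  set π := QuotientGroup.mk' H with hπ
  have hHK : H ≤ K := hs ▸ le_sup_left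
  have hCK : C ≤ K := hs ▸ le_sup_right
  haveI hKn' : (K.map π).Normal := hKn.map _ (QuotientGroup.mk'_surjective H)
  have hKC : K.map π = C.map π := by
    rw [← hs, Subgroup.map_sup, hπ, QuotientGroup.map_mk'_self, bot_sup_eq]
  let e : C ≃* K.map π := (mapEquiv hf.inf_eq_bot).trans (MulEquiv.subgroupCongr hKC.symm)
  have hc1 : Nat.card C = Nat.card (K.map π) := Nat.card_congr e.toEquiv
  obtain ⟨hodd, hcyc⟩ := cyc_of_two hf le_normalizer_of_normal hH hf' hD e
  haveI hCc : IsCyclic C := isCyclic_of_surjective e.symm e.symm.surjective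
  have hK1 : K.map π ≠ ⊥ := by
    intro h
    rw [h, card_bot, card_eq_one] at hc1
    exact hC hc1
  have hmem : ∀ x, π x ∈ K.map π ↔ x ∈ K := fun x => by
    rw [← mem_comap, comap_map_eq, hπ, QuotientGroup.ker_mk', sup_eq_left.mpr hHK]
  haveI : IsMulCommutative D := isMulCommutative_iff_commutator_eq_bot.mpr (by
    rw [eq_bot_iff, ← hf'.symm.inf_centralizer hK1]
    exact le_inf (commutator_le_right_of_le_normalizer le_normalizer)
      ((commutator_mono le_top le_top).trans (commutator_le_centralizer_of_isCyclic (K.map π))))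
  haveI hDc : IsCyclic D := hf'.isCyclic_of_isMulCommutative le_normalizer_of_normal hK1
  let φ : G ⧸ H →* G ⧸ K := QuotientGroup.map H K (MonoidHom.id G) hHK
  have hφ : ∀ x, φ (π x) = QuotientGroup.mk' K x := fun _ => rfl
  have hφk : φ.ker = K.map π := by
    ext x
    obtain ⟨x, rfl⟩ := QuotientGroup.mk'_surjective H x
    rw [hmem, MonoidHom.mem_ker, hφ]
    exact QuotientGroup.eq_one_iff x
  have hφs : D.map φ = ⊤ := by
    have : (K.map π ⊔ D).map φ = ⊤ := by
      rw [hs', ← MonoidHom.range_eq_map, MonoidHom.range_eq_top]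
      intro x
      obtain ⟨x, rfl⟩ := QuotientGroup.mk'_surjective K x
      exact ⟨π x, rfl⟩
    rwa [Subgroup.map_sup, (Subgroup.map_eq_bot_iff _).mpr hφk.ge, bot_sup_eq] at this
  have hsurj : Function.Surjective (φ.comp D.subtype) := by
    rw [← MonoidHom.range_eq_top, MonoidHom.range_comp, range_subtype, hφs]
  have hQc : IsCyclic (G ⧸ K) := isCyclic_of_surjective _ hsurj
  have hdD : Nat.card (G ⧸ K) ∣ Nat.card D := card_dvd_of_surjective _ hsurj
  have hnilH : Group.IsNilpotent H := GS.fpf_nil hf le_normalizer_of_normal hC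
  have hsolv : Group.IsSolvable G := by
    haveI : Group.IsSolvable (G ⧸ H) := solvable_of_ker_le_range (K.map π).subtype φ (by rw [hφk, range_subtype])
    exact solvable_of_ker_le_range H.subtype π (by rw [hπ, QuotientGroup.ker_mk', range_subtype])
  have hco1 : (Nat.card C).Coprime (Nat.card H) := hf.coprime le_normalizer_of_normal
  have hco2 : (Nat.card C).Coprime (Nat.card (G ⧸ K)) := by
    rw [hc1]; exact ((hf'.coprime le_normalizer_of_normal).coprime_dvd_left hdD).symm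
  have hcK : Nat.card K = Nat.card C * Nat.card H := by
    have := card_sup_mul_card_inf (H := C) (N := H) le_normalizer_of_normal
    rwa [sup_comm, hs, inf_comm, hf.inf_eq_bot, card_bot, mul_one] at this
  have hcG : Nat.card G = Nat.card C * (Nat.card H * Nat.card (G ⧸ K)) := by
    rw [← mul_assoc, ← hcK]; exact (K.card_mul_index).symm
  refine ⟨hsolv, hc1 ▸ hodd, hco1.mul_right hco2, hQc, ?_⟩
  -- no mixed elements
  have no : ∀ p q : ℕ, p.Prime → q.Prime → p ≠ q → p ∣ Nat.card C → ¬ q ∣ Nat.card C → ∀ g : G, orderOf g ≠ p * q := by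
    intro p q hp hq hne hpC hqC g hg
    obtain ⟨x, hx, hxo⟩ := exists_order_of_dvd (g := g) (n := p) (hg ▸ dvd_mul_right _ _)
    obtain ⟨y, hy, hyo⟩ := exists_order_of_dvd (g := g) (n := q) (hg ▸ dvd_mul_left _ _)
    have hxy : x * y = y * x := mul_comm_of_isMulCommutative hx hy
    have hxK : x ∈ K := mem_of_coprime_index (by rw [hxo]; exact hco2.coprime_dvd_left hpC)
    have hxH : x ∉ H := fun h => hp.one_lt.ne' (Nat.eq_one_of_dvd_coprimes
      hco1 hpC (hxo ▸ orderOf_dvd_natCard H h))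
    have hyK : y ∈ K := by
      rw [← hmem]
      apply GS.cent1_le_of_fpf hs' hf' ((hmem x).mpr hxK) (fun h => hxH ((QuotientGroup.eq_one_iff _).mp h))
      rw [mem_centralizer_singleton_iff, ← map_mul, ← map_mul, hxy]
    have hyH : y ∈ H := by
      have a1 : orderOf (π y) ∣ Nat.card C := hc1 ▸ orderOf_dvd_natCard _ ((hmem y).mpr hyK)
      have a2 : orderOf (π y) ∣ q := hyo ▸ orderOf_map_dvd π y
      have a3 : orderOf (π y) = 1 := ((Nat.dvd_prime hq).mp a2).resolve_right fun h => hqC (h ▸ a1)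
      exact (QuotientGroup.eq_one_iff _).mp (orderOf_eq_one_iff.mp a3)
    have := hf.inf_centralizer_of_not_mem le_normalizer_of_normal (hs ▸ hxK) hxH
    have h2 : y ∈ H ⊓ centralizer ({x} : Set G) := ⟨hyH, mem_centralizer_singleton_iff.mpr hxy.symm⟩
    rw [this] at h2
    exact ne_one_of_order hq hyo h2
  have mixed : ∀ p q : ℕ, p.Prime → q.Prime → p ≠ q → p ∣ Nat.card H → ¬ q ∣ Nat.card H → ¬ q ∣ Nat.card C →
      q ∣ Nat.card (G ⧸ K) → ∃ g : G, orderOf g = p * q := by
    intro p q hp hq hne hpH hqH hqC hqd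
    by_contra hcon
    haveI := Fact.mk hq
    haveI := Fact.mk hp
    obtain ⟨g, hg⟩ := exists_prime_orderOf_dvd_card' q hqd
    obtain ⟨g, rfl⟩ := QuotientGroup.mk'_surjective K g
    obtain ⟨c, hc⟩ := (isCyclic_iff_exists_zpowers_eq_top.mp hCc)
    have hc' : zpowers (c : G) = C := by
      rw [← C.subtype_apply, ← MonoidHom.map_zpowers, hc, ← MonoidHom.range_eq_map, range_subtype]
    have hcH : g * c * g⁻¹ ∉ H := by
      intro h
      have h1 : (c : G) ∈ H ⊓ C := ⟨by simpa [mul_assoc] using Normal.conj_mem inferInstance _ h g⁻¹, c.2⟩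
      rw [hf.inf_eq_bot, mem_bot] at h1
      apply hC
      rw [← hc', h1, zpowers_one_eq_bot]
    obtain ⟨k, hk, hk'⟩ := hf.exists_conj_mem le_normalizer_of_normal (hs ▸ hKn.conj_mem _ (hCK c.2) g) hcH
    have hn : k⁻¹ * g ∈ normalizer (C : Set G) := by
      apply mem_normalizer_of_forall
      intro x hx
      rw [← hc'] at hx
      obtain ⟨i, rfl⟩ := hx
      have : k⁻¹ * g * (c : G) ^ i * (k⁻¹ * g)⁻¹ = (k⁻¹ * (g * c * g⁻¹) * k) ^ i := by
        rw [← conj_zpow]; congr 1; group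
      show k⁻¹ * g * (c : G) ^ i * (k⁻¹ * g)⁻¹ ∈ C
      rw [this]; exact zpow_mem hk' i
    have ho : q ∣ orderOf (k⁻¹ * g) := by
      have : QuotientGroup.mk' K (k⁻¹ * g) = QuotientGroup.mk' K g := by
        rw [map_mul, (QuotientGroup.eq_one_iff _).mpr (K.inv_mem (hHK hk)) |> fun h => (show QuotientGroup.mk' K k⁻¹ = 1 from h), one_mul]
      rw [← hg, ← this]; exact orderOf_map_dvd _ _
    obtain ⟨y, hy, hyo⟩ := exists_order_of_dvd ho
    have hyN : y ∈ normalizer (C : Set G) := zpowers_le.mpr hn hy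
    have hyK : y ∉ K := fun h => by
      have := hyo ▸ orderOf_dvd_natCard K h
      rw [hcK] at this
      exact ((Nat.Prime.dvd_mul hq).mp this).elim hqC hqH
    have hR : (Nat.card (zpowers y)).Prime := by rw [Nat.card_zpowers, hyo]; exact hq
    have hfR : FPF C (zpowers y) := by
      apply FPF.of_prime hR
      rw [eq_bot_iff]
      intro x hx
      have a1 := hf'.inf_centralizer_of_not_mem le_normalizer_of_normal (hs' ▸ mem_top (π y)) (mt (hmem y).mp hyK)
      have a2 : π x ∈ K.map π ⊓ centralizer ({π y} : Set (G ⧸ H)) := ⟨(hmem x).mpr (hCK hx.1), mem_centralizer_singleton_iff.mpr <| by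
        rw [← map_mul, ← map_mul, hx.2 y (mem_zpowers y)]⟩
      rw [a1, mem_bot] at a2
      rw [← hf.inf_eq_bot]
      exact ⟨(QuotientGroup.eq_one_iff _).mp a2, hx.1⟩
    let T := piCoreOf {p} H
    have hT : T ≤ H := piCoreOf_le _ _
    have hTp : IsPGroup p T := (isPi_singleton_iff_isPGroup hp).mp (piCoreOf_isPi _ _)
    have hT1 : T ≠ ⊥ := by
      obtain ⟨x, hx, hxo⟩ := exists_order_prime hp hpH
      have : zpowers x ≤ T := le_piCoreOf_of_isNilpotent (zpowers_le.mpr hx) (by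
        rw [Nat.card_zpowers, hxo]; intro r hr h; exact (Nat.prime_dvd_prime_iff_eq hr hp).mp h)
      intro h
      rw [h] at this
      exact ne_one_of_order hp hxo (this (mem_zpowers x))
    have hfix : T ⊓ centralizer (zpowers y : Set G) = ⊥ := by
      by_contra h
      have a1 : p ∣ Nat.card ↥(T ⊓ centralizer (zpowers y : Set G)) :=
        ((hTp.to_le inf_le_left).card_eq_or_dvd).resolve_left fun h' => h (card_eq_one.mp h')
      obtain ⟨x, hx, hxo⟩ := exists_order_prime hp a1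
      exact hcon ⟨_, order_mul hp hq hne hxo hyo (hx.2 y (mem_zpowers y)).symm⟩
    have hle := le_centralizer_of_frobenius (zpowers_le.mpr hyN) hfR T inferInstance le_normalizer_of_normal
      le_normalizer_of_normal (hco1.coprime_dvd_right (card_dvd_of_le hT)) (by
        rw [Nat.card_zpowers, hyo]
        exact ((Nat.Prime.coprime_iff_not_dvd hq).mpr hqH).coprime_dvd_right
          (card_dvd_of_le ((commutator_le_right_of_le_normalizer le_normalizer).trans hT))) hfix
    apply hT1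
    rw [eq_bot_iff, ← hf.inf_centralizer hC]
    exact le_inf hT (le_centralizer_iff.mp hle)
  intro p q hp hq hne hpG hqG
  constructor
  · rintro ⟨g, hg⟩
    constructor
    · intro h; by_contra h'; exact no p q hp hq hne h h' g hg
    · intro h; by_contra h'; exact no q p hq hp hne.symm h h' g (hg.trans (mul_comm _ _))
  · intro h
    have hpq : ∀ n, p ∣ n → q ∣ n → p * q ∣ n := fun n a b =>
      ((Nat.coprime_primes hp hq).mpr hne).mul_dvd_of_dvd_of_dvd a b
    by_cases hpC : p ∣ Nat.card C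
    · obtain ⟨c, hc⟩ := IsCyclic.exists_ofOrder_eq_natCard (α := C)
      obtain ⟨x, -, hx⟩ := exists_order_of_dvd (g := (c : G)) (n := p * q)
        (by rw [Subgroup.orderOf_coe, hc]; exact hpq _ hpC (h.mp hpC))
      exact ⟨x, hx⟩
    · have hqC : ¬ q ∣ Nat.card C := fun h' => hpC (h.mpr h')
      rw [hcG] at hpG hqG
      have a1 := ((Nat.Prime.dvd_mul hp).mp hpG).resolve_left hpC
      have a2 := ((Nat.Prime.dvd_mul hq).mp hqG).resolve_left hqC
      by_cases hpH : p ∣ Nat.card H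
      · by_cases hqH : q ∣ Nat.card H
        · obtain ⟨x, hx, hxo⟩ := exists_order_prime hp hpH
          obtain ⟨y, hy, hyo⟩ := exists_order_prime hq hqH
          exact ⟨_, order_mul hp hq hne hxo hyo (commute_of_isNilpotent_of_coprime hx hy
            (by rw [hxo, hyo]; exact (Nat.coprime_primes hp hq).mpr hne))⟩
        · exact mixed p q hp hq hne hpH hqH hqC (((Nat.Prime.dvd_mul hq).mp a2).resolve_left hqH)
      · have b1 := ((Nat.Prime.dvd_mul hp).mp a1).resolve_left hpH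
        by_cases hqH : q ∣ Nat.card H
        · rw [mul_comm]; exact mixed q p hq hp hne.symm hqH hpH hpC b1
        · have b2 := ((Nat.Prime.dvd_mul hq).mp a2).resolve_left hqH
          obtain ⟨c, hc⟩ := IsCyclic.exists_ofOrder_eq_natCard (α := G ⧸ K)
          obtain ⟨c, rfl⟩ := QuotientGroup.mk'_surjective K c
          obtain ⟨x, -, hx⟩ := exists_order_of_dvd (g := c) (n := p * q)
            ((hpq _ b1 b2).trans (hc ▸ orderOf_map_dvd _ _))
          exact ⟨x, hx⟩

def Disc (π : Set ℕ) (G : Type*) [Group G] : Prop :=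
  ∀ a ∈ π, ∀ b ∉ π, a.Prime → b.Prime → ¬ ∃ g : G, orderOf g = a * b

omit [Finite G] in
theorem Disc.compl {π : Set ℕ} (h : Disc π G) : Disc πᶜ G := fun a ha b hb pa pb ⟨g, hg⟩ =>
  h b (not_not.mp hb) a ha pb pa ⟨g, hg.trans (mul_comm _ _)⟩

theorem Disc.quot {π : Set ℕ} (h : Disc π G) (N : Subgroup G) [N.Normal] : Disc π (G ⧸ N) := by
  rintro a ha b hb pa pb ⟨g, hg⟩
  obtain ⟨g, rfl⟩ := QuotientGroup.mk'_surjective N g
  obtain ⟨x, -, hx⟩ := exists_order_of_dvd (g := g) (n := a * b) (hg ▸ orderOf_map_dvd _ _)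
  exact h a ha b hb pa pb ⟨x, hx⟩

theorem Disc.fpf {π : Set ℕ} (h : Disc π G) {X Y : Subgroup G} (hX : IsPi π (Nat.card X)) (hY : IsPi πᶜ (Nat.card Y)) :
    FPF X Y := by
  apply FPF.of_forall
  intro y hy hy1 x hx hxy
  by_contra hx1
  obtain ⟨a, pa, ha⟩ := Nat.exists_prime_and_dvd (mt orderOf_eq_one_iff.mp hx1)
  obtain ⟨b, pb, hb⟩ := Nat.exists_prime_and_dvd (mt orderOf_eq_one_iff.mp hy1)
  obtain ⟨x', ⟨i, rfl⟩, hx'⟩ := exists_order_of_dvd ha
  obtain ⟨y', ⟨j, rfl⟩, hy'⟩ := exists_order_of_dvd hb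
  have h1 : a ∈ π := hX a pa (ha.trans (orderOf_dvd_natCard X hx))
  have h2 : b ∉ π := hY b pb (hb.trans (orderOf_dvd_natCard Y hy))
  exact h a h1 b h2 pa pb ⟨_, order_mul pa pb (fun e => h2 (e ▸ h1)) hx' hy'
    ((show Commute y x from hxy).symm.zpow_zpow i j).eq⟩

theorem gk [Group.IsSolvable G] {π : Set ℕ} (h : Disc π G) (h1 : piCore π G ≠ ⊥) (h2 : ¬ IsPi π (Nat.card G)) :
    (∃ C : Subgroup G, Cfsg.IsFrobeniusComplement C) ∨
    (∃ (H K : Subgroup G) (_ : H.Normal), K.Normal ∧ H < K ∧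
      (∃ C : Subgroup ↥K, Cfsg.IsFrobeniusComplement C ∧ Cfsg.frobeniusKernel C = (H.subgroupOf K : Set ↥K)) ∧
      (∃ C : Subgroup (G ⧸ H), Cfsg.IsFrobeniusComplement C ∧
        Cfsg.frobeniusKernel C = (K.map (QuotientGroup.mk' H) : Set (G ⧸ H)))) := by
  let H := piCore π G
  let K' := piCore πᶜ (G ⧸ H)
  let K := K'.comap (QuotientGroup.mk' H)
  have hKK : K.map (QuotientGroup.mk' H) = K' := map_comap_eq_self_of_surjective (QuotientGroup.mk'_surjective H) _
  have hH0 : piCore π (G ⧸ H) = ⊥ := piCore_quotient_eq_bot π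
  haveI : Nontrivial (G ⧸ H) := H1.nontrivial_quotient_of_ne_top fun e => h2 ((piCore_eq_top_iff π).mp e)
  have hK1 : K' ≠ ⊥ := by
    obtain ⟨p, hp, hp1⟩ := exists_pCore_ne_bot (G := G ⧸ H)
    rw [pCore_eq_piCore hp] at hp1
    intro e
    by_cases hpπ : p ∈ π
    · exact hp1 (eq_bot_iff.mpr (hH0 ▸ piCore_mono (Set.singleton_subset_iff.mpr hpπ)))
    · exact hp1 (eq_bot_iff.mpr (e ▸ piCore_mono (Set.singleton_subset_iff.mpr hpπ)))
  have hlt : H < K := H1.lt_comap_mk' H hK1
  have hi : (H.subgroupOf K).index = Nat.card K' := H1.relIndex_comap_mk' H K'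
  have hpH : IsPi π (Nat.card (H.subgroupOf K)) := by rw [card_subgroupOf hlt.le]; exact piCore_isPi π
  obtain ⟨C₀, hC₀⟩ := exists_right_complement'_of_coprime (N := H.subgroupOf K)
    (hpH.coprime_compl (hi ▸ piCore_isPi πᶜ))
  have hcC : Nat.card C₀ = Nat.card K' := by rw [← hi]; exact hC₀.symm.index_eq_card.symm
  let C := C₀.map K.subtype
  have hcC' : Nat.card C = Nat.card K' := (card_map_subtype C₀).trans hcC
  have hf : FPF H C := h.fpf (piCore_isPi π) (hcC' ▸ piCore_isPi πᶜ)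
  have hs : H ⊔ C = K := by
    have := congrArg (Subgroup.map K.subtype) hC₀.sup_eq_top
    rwa [Subgroup.map_sup, map_subgroupOf_eq_of_le hlt.le, ← MonoidHom.range_eq_map, range_subtype] at this
  have hC1 : C ≠ ⊥ := fun e => hK1 (card_eq_one.mp (by rw [← hcC', e, card_bot]))
  by_cases hKt : K = ⊤
  · exact Or.inl ⟨C, frobenius_of_fpf (hs.trans hKt) h1 hC1 hf⟩
  right
  have hf₀ : FPF (H.subgroupOf K) C₀ := FPF.of_map K.subtype_injective (by rwa [map_subgroupOf_eq_of_le hlt.le])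
  obtain ⟨D, hD⟩ := H1.exists_hall π (inferInstance : Group.IsSolvable (G ⧸ H))
  have hf' : FPF K' D := ((h.quot H).fpf hD.1 (piCore_isPi πᶜ)).symm
  have hK't : K' ≠ ⊤ := fun e => hKt (by simp only [K, e, comap_top])
  have hD1 : D ≠ ⊥ := by
    intro e
    apply hK't
    rw [piCore_eq_top_iff]
    intro p hp hd hpπ
    exact hD.2 p hp hpπ (by rwa [e, index_bot])
  have hKC : K' = C.map (QuotientGroup.mk' H) := by
    rw [← hKK, ← hs, Subgroup.map_sup, QuotientGroup.map_mk'_self, bot_sup_eq]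
  obtain ⟨-, hcyc⟩ := cyc_of_two hf le_normalizer_of_normal h1 hf' hD1
    ((mapEquiv hf.inf_eq_bot).trans (MulEquiv.subgroupCongr hKC.symm))
  have hcomm : _root_.commutator (G ⧸ H) ≤ K' :=
    (commutator_le_centralizer_of_isCyclic K').trans (centralizer_piCore_le (by rwa [compl_compl]))
  have hs' : K' ⊔ D = ⊤ := by
    obtain ⟨M, hM⟩ := H1.exists_hall πᶜ (inferInstance : Group.IsSolvable (G ⧸ H))
    have a1 : K' ≤ M := H1.piCore_le_of_isPiHall hM
    haveI : M.Normal := Normal.of_commutator_le _ (hcomm.trans a1)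
    have a2 : M = K' := le_antisymm (le_piCore hM.1) a1
    rw [← index_eq_one]
    by_contra hne
    obtain ⟨p, hp, hd⟩ := Nat.exists_prime_and_dvd hne
    by_cases hpπ : p ∈ π
    · exact hD.2 p hp hpπ (hd.trans (index_dvd_of_le le_sup_right))
    · exact hM.2 p hp hpπ (hd.trans (index_dvd_of_le (a2 ▸ le_sup_left)))
  refine ⟨H, K, inferInstance, inferInstance, hlt, ⟨C₀, frobenius_of_fpf hC₀.sup_eq_top ?_ ?_ hf₀,
    GS.frobKernel_eq hC₀.sup_eq_top hf₀⟩, D, frobenius_of_fpf hs' hK1 hD1 hf', ?_⟩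
  · intro e
    apply h1
    show H = ⊥
    rw [← map_subgroupOf_eq_of_le hlt.le, e, Subgroup.map_bot]
  · intro e
    apply hC1
    simp only [C, e, Subgroup.map_bot]
  · rw [GS.frobKernel_eq hs' hf', hKK]

end Cfsg.Agent.H9.TF
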