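import Cfsg.Agent.H9.NM

/-! Intersections of normal subsystems. -/

set_option autoImplicit false
set_option linter.unusedSectionVars false

namespace Cfsg.Agent.H9

open Cfsg Cfsg.FusionSystem Equiv
open scoped commutatorElement

variable {Ω : Type*} [Group Ω] {S : Subgroup Ω} [Finite S] {p : ℕ} [hp : Fact p.Prime]
  {F : FusionSystem S} {P Q R T U V W X D Y P' U' V' : Subgroup Ω} {σ τ χ α β γ ρ δ : Perm Ω}

theorem Sat.exists_pair (h : Sat p F) (hP : P ≤ S) (h1 : P ≤ R) (h2 : R ≤ normalizerIn S P) :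
    ∃ Q R' ρ, Iso F P Q ρ ∧ Iso F R R' ρ ∧ F.IsFullyNormalized Q ∧ FP F R' Q ∧
      R' ≤ normalizerIn S Q := by
  obtain ⟨Q, ρ, a, b, c⟩ := h.exists_fn hP
  have d := (a.mono h2).iso
  obtain ⟨R', τ, -, e, f, g, k⟩ := h.exists_fp c (b.img_eq ▸ img_mono ρ h1)
    (img_le_iff.2 fun x hx => b.maps_N' a (h2 hx))
  exact ⟨Q, R', τ * ρ, b.trans f, d.trans e, c, g, k⟩

omit hp in
theorem Iso.le_T (hT : F.StronglyClosed T) (h : Iso F P Q σ) (hP : P ≤ T) : Q ≤ T :=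
  h.img_eq ▸ img_le_iff.2 fun _ hx => sc_mem hT h.mor hx (hP hx)

omit [Finite S] hp in
theorem Iso.conj (h : Iso F P Q σ) (hα : Iso F P P α) : Iso F Q Q (σ * α * σ⁻¹) :=
  h.symm.trans (hα.trans h)

theorem Invar.of_le {E : FusionSystem U} {D : FusionSystem T} (h : Invar D F) (hE : Sat p E)
    (h1 : D.IsSubsystemOf E) (h2 : E.IsSubsystemOf F) : Invar D E :=
  have := finite_of_le (sub_le h2)
  hE.invar_of_strong h1 (sc_of_sub h2 h.sc (sub_le h1)) fun _ _ _ _ a b c d e =>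
    h.strong (a.of_sub h2) b c d e

/-- The action of a `p'`-automorphism modulo `T`. -/
theorem Invar.mod_T {E : FusionSystem T} (hi : Invar E F) (h : Sat p F) (hE : Sat p E)
    (hU : F.IsFullyCentralized U) (hγ : Iso F X X γ) (hp : PP p X γ) (h1 : VC S U ≤ X)
    (h2 : X ≤ normalizerIn S U) (h3 : Iso E U U γ)
    (h4 : ∀ c ∈ centralizerIn S U, c⁻¹ * γ c ∈ T) : ∀ x ∈ X, x⁻¹ * γ x ∈ T := fun _ =>
  hp.mod (h.pg.to_le hγ.le) hγ.homOn (fun _ => hγ.maps) (D := normalizerIn T U ⊔ centralizerIn S U)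
    (fun x hx => by
      obtain ⟨t, a, b⟩ := hi.mod_TC h hE hU hγ (le_sup_left.trans h1) h2 h3 hx
      simpa using mul_mem (Subgroup.mem_sup_left a) (Subgroup.mem_sup_right b))
    fun x hx hx' => by
      obtain ⟨t, a, c, b, rfl⟩ := (mem_sup_of_le_normalizer (le_normalizer_of_conj fun g hg =>
        C_conj_mem g (N_mono hi.le U hg))).1 hx'
      have c1 : c ∈ X := h1 (Subgroup.mem_sup_right b)
      have t1 : t ∈ X := by simpa using X.mul_mem hx (X.inv_mem c1)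
      have := T.mul_mem (sc_conj hi.sc (S.inv_mem b.1) (T.mul_mem (T.inv_mem a.1)
        (sc_mem hi.sc hγ.mor t1 a.1))) (h4 c b)
      simpa [hγ.mor.map_mul t1 c1, mul_assoc] using this

abbrev FSet (Ω : Type*) [Group Ω] := Set (Σ T : Subgroup Ω, FusionSystem T)

variable {𝓔 : FSet Ω}

def WM (𝓔 : FSet Ω) (T V : Subgroup Ω) (β : Perm Ω) : Prop :=
  (∀ x ∈ V, x⁻¹ * β x ∈ T) ∧ ∀ e ∈ 𝓔, Mor e.2 (V ⊓ e.1) β

structure WH (p : ℕ) (F : FusionSystem S) (𝓔 : FSet Ω) (T : Subgroup Ω) : Prop where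
  sat : Sat p F
  satE : ∀ e ∈ 𝓔, Sat p e.2
  inv : ∀ e ∈ 𝓔, Invar e.2 F
  mem : ∀ x, x ∈ T ↔ x ∈ S ∧ ∀ e ∈ 𝓔, x ∈ e.1

omit [Finite S] hp in
theorem WM.mono (h : WM 𝓔 T V β) (hV : V' ≤ V) : WM 𝓔 T V' β :=
  ⟨fun x hx => h.1 x (hV hx), fun e he => (h.2 e he).mono (inf_le_inf_right _ hV)⟩

omit [Finite S] hp in
theorem WM.congr (h : WM 𝓔 T V β) (e : ∀ x ∈ V, γ x = β x) : WM 𝓔 T V γ :=
  ⟨fun x hx => e x hx ▸ h.1 x hx, fun i hi => (h.2 i hi).congr fun x hx => e x hx.1⟩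

omit [Finite S] hp in
theorem WM.mul (h : WM 𝓔 T V β) (h' : WM 𝓔 T V γ) (hm : ∀ x ∈ V, β x ∈ V) : WM 𝓔 T V (γ * β) :=
  ⟨mod_mul hm h.1 h'.1, fun e he => (h.2 e he).comp (h'.2 e he) fun x hx =>
    ⟨hm x hx.1, (h.2 e he).mem hx⟩⟩

omit [Finite S] hp in
theorem WM.pow (h : WM 𝓔 T V β) (hm : ∀ x ∈ V, β x ∈ V) (n : ℕ) : WM 𝓔 T V (β ^ n) :=
  ⟨pow_mod hm h.1 n, fun e he => ((h.2 e he).pow (fun x hx =>
    ⟨hm x hx.1, (h.2 e he).mem hx⟩) n).1⟩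

def XA (F : FusionSystem S) (𝓔 : FSet Ω) (T U : Subgroup Ω) (α : Perm Ω) : Prop :=
  ∃ β, Iso F (VC S U) (VC S U) β ∧ (∀ x ∈ U, β x = α x) ∧ WM 𝓔 T (VC S U) β

namespace WH

theorem le (h : WH p F 𝓔 T) : T ≤ S := fun x hx => ((h.mem x).1 hx).1

theorem le' (h : WH p F 𝓔 T) {e} (he : e ∈ 𝓔) : T ≤ e.1 := fun x hx => ((h.mem x).1 hx).2 e he

theorem sc (h : WH p F 𝓔 T) : F.StronglyClosed T :=
  stronglyClosed_iff.2 ⟨h.le, fun _ _ a _ b c => (h.mem _).2 ⟨a.mem b, fun e he =>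
    sc_mem (h.inv e he).sc a b (h.le' he c)⟩⟩

theorem wm_inv (h : WH p F 𝓔 T) (hβ : Iso F V V β) (h' : WM 𝓔 T V β) : WM 𝓔 T V β⁻¹ :=
  ⟨mod_inv (fun _ => hβ.inv_maps) h'.1, fun e he => (h'.2 e he).inv fun _ =>
    (hβ.inf (h.inv e he).sc).inv_maps⟩

theorem wm_conj (h : WH p F 𝓔 T) (hτ : Iso F V V' τ) (hβ : Iso F V V β) (h' : WM 𝓔 T V β) :
    WM 𝓔 T V' (τ * β * τ⁻¹) :=
  ⟨mod_conj hτ.homOn le_rfl (fun _ => hβ.maps) (fun _ => sc_mem h.sc hτ.mor) h'.1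
    fun _ => hτ.inv_maps, fun e he => ((h.inv e he).strong_iso (hτ.inf (h.inv e he).sc)
      inf_le_right ⟨h'.2 e he, (hβ.inf (h.inv e he).sc).mem⟩).mor⟩

theorem wm_cj (h : WH p F 𝓔 T) (hV : V ≤ S) {t : Ω} (ht : t ∈ T) : WM 𝓔 T V (cj t) :=
  ⟨fun x hx => by
    simpa [mul_assoc] using T.mul_mem (sc_conj h.sc (S.inv_mem (hV hx)) ht) (T.inv_mem ht),
    fun e he => mor_cj _ inf_le_right (h.le' he ht)⟩

theorem wm_ext (h : WH p F 𝓔 T) (hU : F.IsFullyCentralized U) (hUT : U ≤ T) (hγ : Iso F X X γ)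
    (hp : PP p X γ) (h1 : VC S U ≤ X) (h2 : X ≤ normalizerIn S U) (h3 : ∀ x ∈ U, γ x ∈ U)
    (h4 : WM 𝓔 T (VC S U) γ) : WM 𝓔 T X γ := by
  refine ⟨fun x hx => (h.mem _).2 ⟨hγ.le (X.mul_mem (X.inv_mem hx) (hγ.maps hx)), fun e he => ?_⟩,
    fun e he => ?_⟩
  all_goals
    have hi := h.inv e he
    have := finite_of_le hi.le
    have a := hUT.trans (h.le' he)
  · exact hi.mod_T h.sat (h.satE e he) hU hγ hp h1 h2 (((h4.2 e he).mono
      (le_inf le_sup_left a)).iso_self h3)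
      (fun c hc => h.le' he (h4.1 c (Subgroup.mem_sup_right hc))) x hx
  · exact (hi.pd (h.satE e he) inf_le_right (inf_le_inf_right _ h1) (centric_mono (centric_VC
      (h.satE e he) (h.sat.fc_of_sc hi.sc hi.sub a hU)) (sup_le (le_inf le_sup_left a)
        (le_inf ((C_mono hi.le _).trans le_sup_right) (C_le _ _))) inf_le_right) (hγ.inf hi.sc)
          (hp.mono inf_le_left) (h4.2 e he)).mor

theorem xa_conj (h : WH p F 𝓔 T) (hU : F.IsFullyCentralized U) (hUT : U ≤ T) (hU' : TC F T U)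
    (hα : XA F 𝓔 T U α) (hρ : Iso F U' U ρ) : XA F 𝓔 T U' (ρ⁻¹ * α * ρ) := by
  obtain ⟨β, a, b, c⟩ := hα
  obtain ⟨τ, d, e, f, g⟩ := h.sat.ext_VC hU hρ
  have k := img_le_iff.2 g
  have l : Iso F (img τ (VC S U')) (img τ (VC S U')) β := (a.mor.mono k).iso_self fun x hx => by
    simpa using mul_mem hx ((f.img_eq ▸ img_mono τ le_sup_left : U ≤ img τ (VC S U'))
      (hU'.VC_inf hUT (mul_mem (inv_mem (k hx)) (a.maps (k hx))) (c.1 x (k hx))))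
  refine ⟨τ⁻¹ * β * τ⁻¹⁻¹, d.iso.symm.conj l, fun x hx => ?_, h.wm_conj d.iso.symm l (c.mono k)⟩
  have m : β (ρ x) ∈ U := by
    have n := Subgroup.mem_sup_left (T := centralizerIn S U) (hρ.maps hx)
    simpa using mul_mem (hρ.maps hx) (hU'.VC_inf hUT (mul_mem (inv_mem n) (a.maps n)) (c.1 _ n))
  simp only [inv_inv, Perm.mul_apply, e x hx, ← b _ (hρ.maps hx)]
  rw [Perm.inv_eq_iff_eq, e _ (hρ.inv_maps m), pai]

def A (h : WH p F 𝓔 T) (U : Subgroup Ω) : Subgroup (MulAut U) where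
  carrier := {a | ∀ U' τ, Iso F U U' τ → XA F 𝓔 T U' (τ * ap U a * τ⁻¹)}
  one_mem' := fun U' τ a => ⟨1, iso_refl F (VC_le a.le'), by simp,
    by simpa using h.wm_cj (VC_le a.le') T.one_mem⟩
  mul_mem' := fun {a b} ha hb U' τ i => by
    obtain ⟨β, c, d, e⟩ := ha U' τ i
    obtain ⟨γ, f, g, k⟩ := hb U' τ i
    refine ⟨β * γ, f.trans c, fun x hx => ?_, k.mul e fun _ => f.maps⟩
    rw [Perm.mul_apply, g x hx, d ((τ * ap U b * τ⁻¹) x)
      (i.maps ((ap_mem_iff _ _).2 (i.inv_maps hx)))]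
    simp only [map_mul, Perm.mul_apply, pia]
  inv_mem' := fun {a} ha U' τ i => by
    obtain ⟨β, c, d, e⟩ := ha U' τ i
    refine ⟨β⁻¹, c.symm, fun x hx => ?_, h.wm_inv c e⟩
    rw [Perm.inv_eq_iff_eq, d ((τ * ap U a⁻¹ * τ⁻¹) x)
      (i.maps ((ap_mem_iff _ _).2 (i.inv_maps hx)))]
    simp only [map_inv, Perm.mul_apply, pia, pai]

omit hp in
theorem _root_.Cfsg.Agent.H9.XA.congr (h : XA F 𝓔 T U α) (e : ∀ x ∈ U, γ x = α x) :
    XA F 𝓔 T U γ :=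
  let ⟨β, a, b, c⟩ := h
  ⟨β, a, fun x hx => by rw [b x hx, e x hx], c⟩

theorem inK_A (h : WH p F 𝓔 T) : InK (h.A U) α ↔ InK (⊤ : Subgroup (MulAut U)) α ∧
    ∀ U' τ, Iso F U U' τ → XA F 𝓔 T U' (τ * α * τ⁻¹) :=
  ⟨fun ⟨a, b, c⟩ => ⟨⟨a, trivial, c⟩, fun U' τ i => (b U' τ i).congr fun x hx => by
    simp only [Perm.mul_apply, ap_apply a (i.inv_maps hx), c]⟩,
  fun ⟨⟨a, _, c⟩, b⟩ => ⟨a, fun U' τ i => (b U' τ i).congr fun x hx => by
    simp only [Perm.mul_apply, ap_apply a (i.inv_maps hx), c], c⟩⟩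

theorem xa (h : WH p F 𝓔 T) (hU : U ≤ S) (hα : InK (h.A U) α) : XA F 𝓔 T U α := by
  simpa using (h.inK_A.1 hα).2 U 1 (iso_refl F hU)

theorem inK_conj (h : WH p F 𝓔 T) (hτ : Iso F U U' τ) (hα : InK (h.A U) α) :
    InK (h.A U') (τ * α * τ⁻¹) :=
  h.inK_A.2 ⟨((hτ.inK_conj (K := ⊤)).2 (by convert hα.mono le_top using 1; group)).mono le_top,
    fun V ρ i => by convert (h.inK_A.1 hα).2 V _ (hτ.trans i) using 1; group⟩

theorem inK_of (h : WH p F 𝓔 T) (hU : F.IsFullyCentralized U) (hUT : U ≤ T) (hU' : TC F T U)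
    (hα : Iso F U U α) (h' : XA F 𝓔 T U α) : InK (h.A U) α :=
  h.inK_A.2 ⟨hα.inK_top, fun _ _ i => by simpa using h.xa_conj hU hUT hU' h' i.symm⟩

theorem iso (h : WH p F 𝓔 T) (hU : U ≤ S) (hα : InK (h.A U) α) :
    Iso F U U α ∧ WM 𝓔 T U α := by
  obtain ⟨β, a, b, c⟩ := h.xa hU hα
  exact ⟨⟨(a.mor.mono le_sup_left).congr fun x hx => (b x hx).symm, hα.mem_iff⟩,
    (c.mono le_sup_left).congr fun x hx => (b x hx).symm⟩

theorem a4 (h : WH p F 𝓔 T) (a : P ≤ T ∧ TC F T P) (b : P ≤ R) (c : R ≤ normalizerIn T P)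
    (d : InK (h.A R) β) (e : PP p R β) (f : ∀ x ∈ P, β x ∈ P) : InK (h.A P) β := by
  have hF := h.sat
  obtain ⟨Q, R', ρ, i, j, k, l, m⟩ := hF.exists_pair a.2.1 b (c.trans (N_mono h.le P))
  have hR := (hF.fp j.le' l).1
  have hR' := j.le_T h.sc (c.trans (N_le _ _))
  have hQ := a.2.iso i
  have hQ' := i.le_T h.sc a.1
  have m' : R' ≤ normalizerIn T Q := fun x hx => ⟨hR' hx, (m hx).2⟩
  have d0 := (h.iso j.le d).1
  have d1 := j.conj d0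
  have d2 := i.conj ((d0.mor.mono b).iso_self f)
  obtain ⟨δ, a1, a2, a3⟩ := h.xa j.le' (h.inK_conj j d)
  obtain ⟨γ, b1, b2⟩ := hF.ext_C h.sc (hF.fn_fc k) hQ l.1 m' hR a1
    (fun x hx => a2 x (l.1 hx) ▸ d2.maps hx) fun x hx => (hQ.mono l.1 j.le').VC_inf hR'
      (mul_mem (inv_mem hx) (a1.maps hx)) (a3.1 x hx)
  obtain ⟨n, c1, c2⟩ := b1.exists_pp le_sup_left d1 (e.conj fun _ => j.inv_maps) fun x hx => by
    rw [b2 x (Subgroup.mem_sup_left hx), a2 x hx]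
  have c3 := h.wm_ext hR hR' (b1.pow n) c1 (sup_le_sup_left (C_anti _ l.1) _)
    (sup_le (le_N j.le') (C_le_N_of h.sc hQ.C_le l.1 m')) (fun x hx => c2 x hx ▸ d1.maps hx)
    ((a3.congr b2).pow (fun x hx => b2 x hx ▸ a1.maps hx) n)
  have := h.inK_conj i.symm (h.inK_of (hF.fn_fc k) hQ' hQ d2 ⟨_, ((b1.pow n).iso_C'
    (l.1.trans le_sup_left) le_sup_right fun x hx => c2 x (l.1 hx) ▸ d2.maps hx).1,
      fun x hx => c2 x (l.1 hx), c3.mono (sup_le_sup_right l.1 _)⟩)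
  convert this using 1; group

theorem a5 (h : WH p F 𝓔 T) (a : P ≤ T ∧ TC F T P) (b : P ≤ R) (c : R ≤ normalizerIn T P)
    (d : InK (h.A P) α) (e : PP p P α)
    (f : ∀ g ∈ R, ∃ k ∈ R, ∀ x ∈ P, α (g * x * g⁻¹) = k * α x * k⁻¹) :
    ∃ β, InK (h.A R) β ∧ PP p R β ∧ ∀ x ∈ P, β x = α x := by
  have hF := h.sat
  obtain ⟨Q, R', ρ, i, j, k, l, m⟩ := hF.exists_pair a.2.1 b (c.trans (N_mono h.le P))
  have hR := (hF.fp j.le' l).1
  have hR' := j.le_T h.sc (c.trans (N_le _ _))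
  have hQ := a.2.iso i
  have hQ' := i.le_T h.sc a.1
  have m' : R' ≤ normalizerIn T Q := fun x hx => ⟨hR' hx, (m hx).2⟩
  have d0 := (h.iso i.le d).1
  have d2 := i.conj d0
  obtain ⟨δ, a1, a2, a3⟩ := h.xa i.le' (h.inK_conj i d)
  have f' : ∀ g ∈ R', ∃ u ∈ R', ∀ x ∈ Q, δ (g * x * g⁻¹) = u * δ x * u⁻¹ := fun g hg => by
    obtain ⟨g, hg', rfl⟩ := j.exists_eq hg
    obtain ⟨u, u1, u2⟩ := f g hg'
    refine ⟨ρ u, j.maps u1, fun x hx => ?_⟩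
    rw [a2 x hx, a2 _ (conj_mem_of_mem_N (m hg) hx)]
    obtain ⟨y, hy, rfl⟩ := i.exists_eq hx
    simp only [Perm.mul_apply, pia, ← j.mor.map_conj hg' (b hy), u2 y hy,
      j.mor.map_conj u1 (b (d0.maps hy))]
  obtain ⟨γ, b1, b2⟩ := hF.ext_T h.sc hQ a1.mor le_sup_left le_rfl m' fun g hg =>
    let ⟨u, u1, u2⟩ := f' g hg; ⟨u, hR' u1, u2⟩
  have b0 : ∀ x ∈ Q, γ x = δ x := fun x hx => b2 x (Subgroup.mem_sup_left hx)
  have b3 : Iso F Q Q γ := d2.congr fun x hx => by rw [b0 x hx, a2 x hx]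
  have b4 : ∀ g ∈ R', γ g ∈ R' := fun g hg => by
    obtain ⟨u, u1, u2⟩ := f' g hg
    have := b3.ext_mem_C b1 (le_sup_left.trans le_sup_left) (Subgroup.mem_sup_right hg)
      (j.le' u1) fun x hx => by rw [b0 x hx, b0 _ (conj_mem_of_mem_N (m hg) hx), u2 x hx]
    simpa using mul_mem u1 (l.1 (hQ.mem (T.mul_mem (T.inv_mem (hR' u1))
      (sc_mem h.sc b1 (Subgroup.mem_sup_right hg) (hR' hg))) this))
  have b5 := b1.iso_self (b1.homOn.sup_maps (fun x hx => Subgroup.mem_sup_left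
    (b2 x hx ▸ a1.maps hx)) fun x hx => Subgroup.mem_sup_right (b4 x hx))
  obtain ⟨n, c1, c2⟩ := b5.exists_pp (le_sup_left.trans le_sup_left) d2
    (e.conj fun _ => i.inv_maps) fun x hx => by rw [b0 x hx, a2 x hx]
  have c3 := h.wm_ext (hF.fn_fc k) hQ' (b5.pow n) c1 le_sup_left (sup_le (VC_le_N k.1) m)
    (fun x hx => c2 x hx ▸ d2.maps hx) ((a3.congr b2).pow (fun x hx => b2 x hx ▸ a1.maps hx) n)
  have c4 : centralizerIn S R' ≤ VC S Q ⊔ R' :=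
    (C_anti _ l.1).trans (le_sup_right.trans le_sup_left)
  have c5 := pow_maps b4 n
  refine ⟨_, h.inK_conj j.symm (h.inK_of hR hR' (hQ.mono l.1 j.le')
    (((b5.pow n).mor.mono le_sup_right).iso_self c5) ⟨_, ((b5.pow n).iso_C' le_sup_right c4 c5).1,
      fun _ _ => rfl, c3.mono (sup_le le_sup_right c4)⟩),
    (c1.mono le_sup_right).conj fun _ => j.maps, fun x hx => ?_⟩
  simp only [Perm.mul_apply, inv_inv, c2 _ (i.maps hx), pia]

theorem exists_B (h : WH p F 𝓔 T) (hV : V ≤ S) :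
    ∃ B : Subgroup (MulAut V), ∀ σ, InK B σ ↔ Iso F V V σ ∧ WM 𝓔 T V σ :=
  ⟨{  carrier := {x | x ∈ F.autGroup _ ∧ WM 𝓔 T V (ap _ x)}
      one_mem' := ⟨one_mem _, by simpa using h.wm_cj hV T.one_mem⟩
      mul_mem' := fun {x y} hx hy => ⟨mul_mem hx.1 hy.1, by
        rw [map_mul]; exact hy.2.mul hx.2 fun z => (ap_mem_iff _ z).2⟩
      inv_mem' := fun {x} hx => ⟨inv_mem hx.1, by
        rw [map_inv]; exact h.wm_inv (iso_ap hV hx.1) hx.2⟩ }, fun σ =>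
    ⟨fun ⟨x, e, f⟩ => ⟨(inK_autGroup hV).1 ⟨x, e.1, f⟩, e.2.congr fun y hy => by
      rw [ap_apply x hy, f]⟩, fun ⟨e, f⟩ => ⟨e.toEquiv, ⟨e.toEquiv_mem,
        f.congr fun y hy => ap_apply _ hy⟩, fun _ => rfl⟩⟩⟩

theorem a6 (h : WH p F 𝓔 T) {s : Ω} (a : U ≤ T ∧ TC F T U) (b : F.IsFullyNormalized U)
    (c : s ∈ S) (d : InK (H2.resOf p (h.A U)) (cj s)) : InK (autInducedBy T U) (cj s) := by
  have hF := h.sat
  have hV := fn_VC h.sc a.2 a.1 b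
  have := finite_of_le hV.1
  have := finite_of_le b.1
  obtain ⟨B, hB⟩ := h.exists_B hV.1
  have hi : VC S U ⊓ T = U := le_antisymm (fun x hx => a.2.VC_inf a.1 hx.1 hx.2)
    (le_inf le_sup_left a.1)
  have hN : normalizerIn S (VC S U) ≤ normalizerIn S U := by
    have := le_N_inf h.sc hV.1
    rwa [hi] at this
  have hm : ∀ σ, Iso F (VC S U) (VC S U) σ → Iso F U U σ := fun σ e => by
    have := e.inf h.sc
    rwa [hi] at this
  have hs : F.autGroup (VC S U) ≤ stabAut _ U := fun x hx y => by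
    have := (hm _ (iso_ap hV.1 hx)).mem y
    rwa [ap_coe] at this
  have hn : ∀ σ τ, Iso F (VC S U) (VC S U) σ → InK B τ → InK B (σ * τ * σ⁻¹) := fun σ τ e f =>
    (hB _).2 ⟨e.conj ((hB _).1 f).1, h.wm_conj e ((hB _).1 f).1 ((hB _).1 f).2⟩
  have hl' : B ≤ F.autGroup (VC S U) := le_of_inK fun σ e => (inK_autGroup hV.1).2 ((hB _).1 e).1
  have hl : H2.resOf p B ≤ F.autGroup (VC S U) := (H2.resOf_le p _).trans hl'
  have s1 := ((hF.fn_syl hV).inf hl fun x hx y => conj_mem_of_mem_normalizer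
    (H2.normalizer_le_normalizer_resOf p _ (le_normalizer_of_conj (normalized_of_inK
      fun σ τ m => hn σ τ ((inK_autGroup hV.1).1 m)) hx))).resGrp le_sup_left (hl.trans hs)
  have s2 := s1.eq_of_le (K := autInducedBy S U ⊓ resGrp le_sup_left (H2.resOf p B)) inf_le_right
    ((isPGroup_autInducedBy hF.pg U).to_le inf_le_left) (le_inf (le_of_inK fun σ e => by
      obtain ⟨τ, f, g⟩ := (inK_resGrp le_sup_left (inf_le_right.trans (hl.trans hs))).1 e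
      obtain ⟨u, u1, u2⟩ := inK_autInducedBy.1 (f.mono inf_le_left)
      exact inK_autInducedBy.2 ⟨u, hN u1, fun x hx => by
        rw [← g x hx, u2 x (Subgroup.mem_sup_left hx)]⟩) s1.le)
  have s3 : H2.resOf p (h.A U) ≤ resGrp le_sup_left (H2.resOf p B) := resOf_le_of_pp
    fun σ e f => by
      obtain ⟨β, k, l, m⟩ := h.xa b.1 e
      obtain ⟨n, q, r⟩ := k.exists_pp le_sup_left (h.iso b.1 e).1 f l
      exact (inK_resGrp le_sup_left (hl.trans hs)).2 ⟨_, inK_resOf_of_pp ((hB _).2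
        ⟨k.pow n, m.pow (fun _ => k.maps) n⟩) q, r⟩
  obtain ⟨τ, f, g⟩ := (inK_resGrp le_sup_left (inf_le_right.trans (hl.trans hs))).1
    ((InK.inf (inK_autInducedBy.2 ⟨s, mem_N_of_finite c fun _ => d.maps, fun _ _ => rfl⟩)
      (d.mono s3)).mono s2.ge)
  obtain ⟨u, u1, u2⟩ := inK_autInducedBy.1 (f.mono inf_le_left)
  obtain ⟨c, c1, c2⟩ := hF.res_cj hV hl' (fun g hg τ => hn _ τ (iso_cj F hV.1 hg))
    (Y := T) (fun Q σ e1 e2 e3 e4 e5 => (h.wm_ext (hF.fn_fc b) a.1 e3 e4 e1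
      (e2.trans hN) (fun x => (hm _ ((hB _).1 e5).1).maps) ((hB _).1 e5).2).1) u1.1
        ((f.mono inf_le_right).congr fun x hx => (u2 x hx).symm)
  have k : ∀ x ∈ U, cj s x = c⁻¹ * u * x * (c⁻¹ * u)⁻¹ := fun x hx => by
    have := (mem_C'.1 (inv_mem c1)).2 _ (Subgroup.mem_sup_left (d.maps hx))
    rw [← this, ← g x hx, u2 x (Subgroup.mem_sup_left hx)]; group
  exact inK_autInducedBy.2 ⟨_, mem_N_of_finite c2 fun x hx => k x hx ▸ d.maps hx, k⟩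

theorem ndata (h : WH p F 𝓔 T) : NData p F T T (fun U => U ≤ T ∧ TC F T U) h.A where
  sat := h.sat
  scT := h.sc
  scW := h.sc
  TW := le_rfl
  o0 := fun _ a => a.1
  o1 := fun _ _ _ a b => ⟨b.le_T h.sc a.1, a.2.iso b⟩
  o2 := fun _ _ a b c => ⟨c, a.2.mono b (c.trans h.le)⟩
  o3 := fun _ a b => ⟨inf_le_right, h.sat.tc_of_cr h.sc a b⟩
  o5 := fun U a b => by
    simp only [TC, a, a.trans h.le, true_and, not_forall, SetLike.not_le_iff_exists] at b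
    obtain ⟨Q, σ, c, g, d, e⟩ := b
    exact ⟨Q, σ, g, c, d.1, e, (inK_one _).congr fun x hx => (mem_C'.1 d).2 x hx⟩
  a0 := fun _ _ a b => ⟨(h.iso a.2.1 b).1, (h.iso a.2.1 b).2.1⟩
  a1 := fun _ _ _ _ _ => h.inK_conj
  a2 := fun U a => le_of_inK fun σ b => by
    obtain ⟨t, c, d⟩ := inK_autInducedBy.1 b
    obtain ⟨Q, ρ, e, f, g⟩ := h.sat.exists_fn a.2.1
    have k := N_mono h.le U c
    have l := f.maps_N' e k
    have := h.inK_conj f.symm (h.inK_of (h.sat.fn_fc g) (f.le_T h.sc a.1) (a.2.iso f)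
      (iso_cj F g.1 l) ⟨_, iso_cj F (VC_le g.1) (N_le_N_VC g.1 l), fun _ _ => rfl,
        h.wm_cj (VC_le g.1) (sc_mem h.sc e k c.1)⟩)
    exact this.congr fun x hx => by
      simp only [Perm.mul_apply, inv_inv, cj_apply, ← e.map_conj k (le_N f.le hx), pia, d x hx]
  a3 := fun R R' α a b c d => by
    obtain rfl := le_antisymm d ((le_inf le_rfl a.1).trans c)
    exact ⟨a, b⟩
  a4 := fun _ _ _ => h.a4
  a5 := fun _ _ _ a _ b => h.a5 a (le_sup_left.trans b)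
  a6 := fun _ _ => h.a6

theorem exists_wedge (h : WH p F 𝓔 T) : ∃ D : FusionSystem T, Nml p D F ∧
    (∀ e ∈ 𝓔, Nml p D e.2) ∧ ∀ D' : FusionSystem T, Nml p D' F → (∀ e ∈ 𝓔, Nml p D' e.2) →
      D'.IsSubsystemOf D := by
  have := finite_of_le h.le
  obtain ⟨D, a, b, c, d, e⟩ := h.ndata.exists_invar
  have hT := h.ndata.top
  refine ⟨D, nml_iff.2 ⟨a, h.sat, b, fun α f => ?_⟩, fun i hi => ?_, fun D' f g => ?_⟩
  · obtain ⟨β, k, l, m⟩ := h.xa h.le (e _ _ hT f)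
    exact (inK_extG h.le).2 ⟨β, k, l, m.1⟩
  · have := finite_of_le (h.inv i hi).le
    have s : D.IsSubsystemOf i.2 := isSubsystemOf_iff.2 fun P σ f =>
      ((c _ _).1 f).mor' (f.le.trans (h.le' hi)) (by
        rintro R α (⟨g, k, -⟩ | ⟨rfl, g⟩)
        · exact ((h.iso g.2.1 k).2.2 i hi).mono (le_inf le_rfl (g.1.trans (h.le' hi)))
        · exact ((inK_autGroup (h.le' hi)).1 (g.mono (inn_le_autGroup _ (h.le' hi)))).mor)
    have s' := b.of_le (h.satE i hi) s (h.inv i hi).sub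
    refine nml_iff.2 ⟨a, h.satE i hi, s', fun α f => ?_⟩
    obtain ⟨β, k, l, m⟩ := h.xa h.le (e _ _ hT f)
    have n := C_mono (h.inv i hi).le T
    exact inK_extG_of s'.sc ((m.2 i hi).mono (le_inf (sup_le_sup_left n _) (VC_le (h.le' hi)))) l
      fun x hx => m.1 x (Subgroup.mem_sup_right (n hx))
  · obtain ⟨D₀, k⟩ := f.satE.exists_ppres
    refine isSubsystemOf_iff.2 fun P σ l => ?_
    obtain ⟨α, m, n⟩ := (f.satE.nml_ppres k).inv.frat _ _ l.le l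
    have q := n.of_sub (ppres_le h.sat f.satE f.inv k a b)
    suffices r : Mor D T α by simpa using q.comp r fun _ => q.mem
    refine f.satE.mor_of_pp le_rfl (fn_top D') (fun α r s => (d _ _ hT s ?_).mor) m
    have hc := h.sat.fn_fc (sc_fn h.sc)
    obtain ⟨β, b1, b2, b3, b4⟩ := f.ext_pp hc hT.2 r s
    refine h.inK_of hc le_rfl hT.2 (r.of_sub f.sub) ⟨β, b1, b3, b4, fun i hi => ?_⟩
    have hi' := h.inv i hi
    have := finite_of_le hi'.le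
    have g' := g i hi
    obtain ⟨γ, c1, c2, c3⟩ := (inK_extG g'.le).1 ((nml_iff.1 g').2.2.2 α r)
    have e : VC S T ⊓ i.1 = VC i.1 T := le_antisymm (fun x hx => by
      obtain ⟨t, t1, u, u1, rfl⟩ := mem_VC.1 hx.1
      exact mul_mem (Subgroup.mem_sup_left t1) (Subgroup.mem_sup_right ⟨by
        simpa using i.1.mul_mem (i.1.inv_mem (g'.le t1)) hx.2, u1.2⟩))
      (le_inf (sup_le_sup_left (C_mono hi'.le T) _) c1.le)
    have d1 := b1.inf hi'.sc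
    have d2 := b2.mono (inf_le_left : _ ⊓ i.1 ≤ _)
    have d3 := fun x (hx : x ∈ VC S T ⊓ i.1) => b4 x hx.1
    rw [e] at d1 d2 d3 ⊢
    have := finite_of_le c1.le
    have d4 := (c1.of_sub hi'.sub).trans d1.symm
    obtain ⟨n, d5⟩ := pe_of_two (h.sat.pg.to_le d1.le) d4.homOn (le_sup_left : T ≤ _)
      (fun x hx => by rw [Perm.mul_apply, c2 x hx, ← b3 x hx, pia])
      (mod_mul (fun _ => c1.maps) c3 (mod_inv (fun _ => d1.inv_maps) d3))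
    have d6 := (hi'.pow_mor c1.le d1 le_rfl (fun _ => d4.maps) (by simpa using c1.mor)
      (p ^ n)).congr (τ := β ^ p ^ n) fun x hx => by rw [Perm.mul_apply, d5 x hx]
    exact ((inK_autGroup c1.le).1 (d1.inK_top.of_pp d2 ((inK_autGroup c1.le).2
      ⟨d6, (d1.pow _).mem⟩))).mor

end WH

theorem exists_wedge {T₁ T₂ : Subgroup Ω} {E₁ : FusionSystem T₁} {E₂ : FusionSystem T₂}
    (h : Sat p F) (h₁ : Sat p E₁) (h₂ : Sat p E₂) (i₁ : Invar E₁ F) (i₂ : Invar E₂ F) :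
    ∃ D : FusionSystem (T₁ ⊓ T₂), Nml p D F ∧ Nml p D E₁ ∧ Nml p D E₂ ∧
      ∀ D' : FusionSystem (T₁ ⊓ T₂), Nml p D' F → Nml p D' E₁ → Nml p D' E₂ →
        D'.IsSubsystemOf D := by
  have w : WH p F {⟨T₁, E₁⟩, ⟨T₂, E₂⟩} (T₁ ⊓ T₂) :=
    ⟨h, by rintro _ (rfl | rfl) <;> assumption, by rintro _ (rfl | rfl) <;> assumption,
      fun x => ⟨fun a => ⟨i₁.le a.1, by rintro _ (rfl | rfl); exacts [a.1, a.2]⟩,
        fun a => ⟨a.2 _ (Or.inl rfl), a.2 _ (Or.inr rfl)⟩⟩⟩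
  obtain ⟨D, a, b, c⟩ := w.exists_wedge
  exact ⟨D, a, b _ (Or.inl rfl), b _ (Or.inr rfl), fun D' d e f =>
    c D' d (by rintro _ (rfl | rfl) <;> assumption)⟩

end Cfsg.Agent.H9
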